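import Cfsg.Agent.Lib.CharTwoClassNum.Block

/-!
Atoms: blocks with standard values, and the reduction of a block to an atom.
-/

set_option autoImplicit false

namespace CfsgLib.CharTwoClassNum

/-- Isomorphism types of blocks. -/
inductive Atom where
  | cyc (k : ℕ) (e : Bool)
  | pair (m : ℕ) (e : Bool)
deriving DecidableEq

namespace Atom

/-- The number of generators. -/
abbrev width : Atom → ℕ
  | .cyc _ _ => 1
  | .pair _ _ => 2

/-- The height. -/
abbrev height : Atom → ℕ
  | .cyc k _ => 2 * k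
  | .pair m _ => m

/-- Half of the dimension. -/
def hdim : Atom → ℕ
  | .cyc k _ => k
  | .pair m _ => m

/-- The bit. -/
def bit : Atom → Bool
  | .cyc _ e => e
  | .pair _ e => e

theorem width_mul_height : ∀ a : Atom, a.width * a.height = 2 * a.hdim
  | .cyc k _ => by simp [width, height, hdim]
  | .pair m _ => rfl

/-- The bit is only present where the corresponding value exists. -/
def Valid (o : Bool) : Atom → Prop
  | .cyc k e => 1 ≤ k ∧ (e = true → Ok o (k - 1))
  | .pair m e => 1 ≤ m ∧ (e = true → m % 2 = 1 ∧ Ok o (m / 2))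

variable {F : Type*} [Field F] [Fintype F] [CharP F 2]

/-- The standard values. -/
noncomputable def tgt : (a : Atom) → Fin a.width → ℕ → F
  | .cyc k e, _, j => if j = k then 1 else if j + 1 = k then bitVal e else 0
  | .pair m e, i, j => if m = 2 * j + 1 ∧ e = true then (if i.val = 0 then 1 else bitVal true) else 0

end Atom

variable {F : Type*} [Field F] [CharP F 2]

/-- The class of a value, when it is defined. -/
noncomputable def bitOf [Fintype F] (o : Bool) (j : ℕ) (p : F) : Bool := (o || decide (1 ≤ j)) && cls p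

theorem bitOf_ok [Fintype F] {o : Bool} {j : ℕ} (h : Ok o j) (p : F) : bitOf o j p = cls p := by
  rcases h with h | h <;> simp [bitOf, h]

theorem ok_of_bitOf [Fintype F] {o : Bool} {j : ℕ} {p : F} (h : bitOf o j p = true) : Ok o j := by
  simp [bitOf] at h
  exact h.1

namespace UForm

variable {o : Bool} {V : Type*} [AddCommGroup V] [Module F V] (A : UForm o F V)

/-- An atom in standard position. -/
structure IsAtom [Fintype F] (a : Atom) (g : Fin a.width → V) : Prop where
  valid : a.Valid o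
  raw : A.IsRaw a.height g
  vals : ∀ i j, Ok o j → A.P j (g i) = a.tgt i j
  cross : ∀ i l, i < l → ∀ s, A.B ((A.N ^ s) (g i)) (g l) = if s + 1 = a.height then 1 else 0

theorem P_add_pow_smul {j : ℕ} (hj : Ok o j) (u v : V) (c : F) (i : ℕ) :
    A.P j (u + c • (A.N ^ i) v) =
      A.P j u + c ^ 2 * A.P (i + j) v + c * A.B ((A.N ^ j) u) ((A.N ^ (j + i)) v) := by
  rw [A.P_add hj, A.P_smul hj, A.P_pow hj, map_smul, map_smul, smul_eq_mul, A.pow_add_apply]

theorem pair_vals_high {m : ℕ} {g : Fin 2 → V} (hg : A.IsRaw m g) (i : Fin 2) {j : ℕ} (hj : m ≤ 2 * j) :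
    A.P j (g i) = 0 := by
  rcases Nat.eq_or_lt_of_le hj with h | h
  · subst h
    rw [← A.top_self_even (by have := hg.pos; omega) (hg.killed i), hg.top, pat]
    exact if_neg (by fin_cases i <;> decide)
  · exact A.P_zero_of_height (hg.killed i) (by omega)

theorem cyc_val_top {k : ℕ} {g : Fin 1 → V} (hg : A.IsRaw (2 * k) g) : A.P k (g 0) = 1 := by
  rw [← A.top_self_even (by have := hg.pos; omega) (hg.killed 0), hg.top, pat]
  exact if_pos (by decide)

section cyc

variable [Fintype F] {k : ℕ} {g : Fin 1 → V}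

theorem exists_cyc_first (hg : A.IsRaw (2 * k) g) :
    ∃ g' : Fin 1 → V, A.IsRaw (2 * k) g' ∧ (∀ i, g' i ∈ A.span (2 * k) g) ∧
      (Ok o (k - 1) → A.P (k - 1) (g' 0) = bitVal (cls (A.P (k - 1) (g 0)))) := by
  have hk : 1 ≤ k := by have := hg.pos; omega
  obtain ⟨c, hc⟩ := exists_artin_bitVal (A.P (k - 1) (g 0))
  refine ⟨fun i => g i + c • (A.N ^ 1) (g i), hg.add_higher fun i => ⟨c • g i,
    Submodule.smul_mem _ _ (A.gen_mem_span hg.killed i), by rw [pow_one, map_smul]⟩,
    fun i => Submodule.add_mem _ (A.gen_mem_span hg.killed i)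
      (Submodule.smul_mem _ _ (A.pow_mem_span hg.killed i 1)), fun hj => ?_⟩
  rw [A.P_add_pow_smul hj, show 1 + (k - 1) = k by omega, A.cyc_val_top hg,
    hg.pair_top 0 0 (by omega), pat, if_pos (by decide : (0 : Fin 1) = Fin.rev 0), ← hc]
  ring

theorem exists_cyc_kill (hg : A.IsRaw (2 * k) g) :
    ∀ t, ∃ g' : Fin 1 → V, A.IsRaw (2 * k) g' ∧ (∀ i, g' i ∈ A.span (2 * k) g) ∧
      (Ok o (k - 1) → A.P (k - 1) (g' 0) = A.P (k - 1) (g 0)) ∧
      ∀ j, Ok o j → k ≤ j + t → j + 1 < k → A.P j (g' 0) = 0 := by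
  intro t
  induction t with
  | zero => exact ⟨g, hg, A.gen_mem_span hg.killed, fun _ => rfl, fun j _ h1 h2 => absurd h2 (by omega)⟩
  | succ t ih =>
    obtain ⟨g', h1, h2, h3, h4⟩ := ih
    by_cases hcase : ∃ j₀, j₀ + (t + 1) = k ∧ Ok o j₀ ∧ j₀ + 1 < k
    · obtain ⟨j₀, hj₀, hok, hlt⟩ := hcase
      set c := A.P j₀ (g' 0)
      set i := 2 * (k - 1 - j₀) + 1
      refine ⟨fun l => g' l + c • (A.N ^ i) (g' l), h1.add_higher fun l => ⟨c • (A.N ^ (i - 1)) (g' l),
        Submodule.smul_mem _ _ (A.pow_mem_span h1.killed l _),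
        by rw [map_smul, ← A.pow_succ_apply, Nat.sub_add_cancel (by omega)]⟩,
        fun l => Submodule.add_mem _ (h2 l) (Submodule.smul_mem _ _ (A.span_stable_pow hg.killed (h2 l) i)),
        fun hj => ?_, fun j hj hjt hjk => ?_⟩
      · rw [A.P_add_pow_smul hj, A.P_zero_of_height (h1.killed 0) (j := i + (k - 1)) (by omega),
          h1.pair_zero 0 0 (by omega), h3 hj, mul_zero, mul_zero, add_zero, add_zero]
      · rw [A.P_add_pow_smul hj, A.P_zero_of_height (h1.killed 0) (j := i + j) (by omega), mul_zero, add_zero]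
        rcases Nat.lt_or_ge j₀ j with h | h
        · rw [h1.pair_zero 0 0 (by omega), h4 j hj (by omega) hjk, mul_zero, add_zero]
        · obtain rfl : j = j₀ := by omega
          rw [h1.pair_top 0 0 (by omega), pat, if_pos (by decide : (0 : Fin 1) = Fin.rev 0), mul_one]
          exact CharTwo.add_self_eq_zero _
    · refine ⟨g', h1, h2, h3, fun j hj hjt hjk => ?_⟩
      rcases Nat.eq_or_lt_of_le hjt with h | h
      · exact absurd ⟨j, h.symm, hj, hjk⟩ hcase
      · exact h4 j hj (by omega) hjk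

/-- A cyclic block is an atom. -/
theorem exists_atom_cyc (hg : A.IsRaw (2 * k) g) :
    ∃ g' : Fin 1 → V, A.IsAtom (.cyc k (bitOf o (k - 1) (A.P (k - 1) (g 0)))) g' ∧
      A.span (2 * k) g' = A.span (2 * k) g := by
  obtain ⟨g₁, r1, m1, v1⟩ := A.exists_cyc_first hg
  obtain ⟨g₂, r2, m2, v2, z2⟩ := A.exists_cyc_kill r1 k
  rw [hg.span_congr r1 m1] at m2
  refine ⟨g₂, ⟨⟨by have := hg.pos; omega, ok_of_bitOf⟩, r2, fun i j hj => ?_, fun i l h => ?_⟩,
    hg.span_congr r2 m2⟩
  · obtain rfl : i = 0 := Subsingleton.elim (α := Fin 1) i 0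
    simp only [Atom.tgt]
    split_ifs with e1 e2
    · rw [e1]; exact A.cyc_val_top r2
    · rw [show j = k - 1 by omega] at hj ⊢
      rw [v2 hj, v1 hj, bitOf_ok hj]
    · rcases Nat.lt_or_ge (j + 1) k with h | h
      · exact z2 j hj (by omega) h
      · exact A.P_zero_of_height (r2.killed 0) (by omega)
  · exact absurd h (by simp [Subsingleton.elim (α := Fin 1) i l])

end cyc

section pair

variable {m : ℕ} {g : Fin 2 → V}

/-- Linear changes of determinant one keep a block of width two. -/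
theorem pair_change (hg : A.IsRaw m g) {a b c d : F} (h : a * d + b * c = 1) :
    A.IsRaw m ![a • g 0 + b • g 1, c • g 0 + d • g 1] := by
  have t00 : A.B ((A.N ^ (m - 1)) (g 0)) (g 0) = 0 := (hg.top 0 0).trans (if_neg (by decide))
  have t01 : A.B ((A.N ^ (m - 1)) (g 0)) (g 1) = 1 := (hg.top 0 1).trans (if_pos (by decide))
  have t10 : A.B ((A.N ^ (m - 1)) (g 1)) (g 0) = 1 := (hg.top 1 0).trans (if_pos (by decide))
  have t11 : A.B ((A.N ^ (m - 1)) (g 1)) (g 1) = 0 := (hg.top 1 1).trans (if_neg (by decide))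
  have p00 : (pat (0 : Fin 2) 0 : F) = 0 := if_neg (by decide)
  have p01 : (pat (0 : Fin 2) 1 : F) = 1 := if_pos (by decide)
  have p10 : (pat (1 : Fin 2) 0 : F) = 1 := if_pos (by decide)
  have p11 : (pat (1 : Fin 2) 1 : F) = 0 := if_neg (by decide)
  refine ⟨hg.pos, fun j => ?_, fun i j => ?_⟩
  · fin_cases j <;> simp [map_add, map_smul, hg.killed]
  · fin_cases i <;> fin_cases j <;>
      simp only [Fin.zero_eta, Fin.mk_one, Matrix.cons_val_zero, Matrix.cons_val_one,
        map_add, map_smul, LinearMap.add_apply, LinearMap.smul_apply, smul_eq_mul,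
        t00, t01, t10, t11, p00, p01, p10, p11]
    · linear_combination (a * b) * CharTwo.two_eq_zero (R := F)
    · linear_combination h
    · linear_combination h
    · linear_combination (c * d) * CharTwo.two_eq_zero (R := F)

theorem pair_P_comb {k : ℕ} (hg : A.IsRaw (2 * k + 1) g) (hk : Ok o k) (a b : F) :
    A.P k (a • g 0 + b • g 1) = a ^ 2 * A.P k (g 0) + b ^ 2 * A.P k (g 1) + a * b := by
  rw [A.P_add hk, A.P_smul hk, A.P_smul hk]
  simp only [map_smul, LinearMap.smul_apply, smul_eq_mul]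
  rw [hg.pair_top 0 1 (by omega), pat, if_pos (by decide : (0 : Fin 2) = Fin.rev 1)]
  ring

variable [Fintype F]

/-- Normal forms of a binary form `p x² + x y + q y²`. -/
theorem exists_binary (p q : F) :
    ∃ a b c d : F, a * d + b * c = 1 ∧
      a ^ 2 * p + b ^ 2 * q + a * b = (if cls (p * q) = true then 1 else 0) ∧
      c ^ 2 * p + d ^ 2 * q + c * d = (if cls (p * q) = true then bitVal true else 0) := by
  by_cases hp : p = 0
  · subst hp
    refine ⟨1, 0, q, 1, by ring, ?_, ?_⟩ <;> simp [cls_zero, CharTwo.add_self_eq_zero]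
  obtain ⟨s, hs⟩ := exists_sqrt p
  have hs0 : s ≠ 0 := fun h => hp (by simp [← hs, h])
  obtain ⟨c, hc⟩ := exists_artin_bitVal (p * q)
  subst hs
  cases he : cls (s ^ 2 * q) with
  | true =>
    rw [he] at hc
    refine ⟨s⁻¹, 0, c / s, s, by field_simp; ring, ?_, ?_⟩
    · simp only [if_true]; field_simp; ring
    · simp only [if_true]; rw [← hc]; field_simp; ring
  | false =>
    rw [he, bitVal_false] at hc
    refine ⟨c / s, s, (1 + c) / s, s, ?_, ?_, ?_⟩
    · field_simp
      linear_combination c * CharTwo.two_eq_zero (R := F)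
    · simp only [Bool.false_eq_true, if_false]; field_simp
      linear_combination hc
    · simp only [Bool.false_eq_true, if_false]; field_simp
      linear_combination hc + (1 + c) * CharTwo.two_eq_zero (R := F)

/-- The bit of a block of width two. -/
noncomputable def pairBit (m : ℕ) (g : Fin 2 → V) : Bool :=
  decide (m % 2 = 1) && bitOf o (m / 2) (A.P (m / 2) (g 0) * A.P (m / 2) (g 1))

theorem exists_pair_first (hg : A.IsRaw m g) :
    ∃ g' : Fin 2 → V, A.IsRaw m g' ∧ (∀ i, g' i ∈ A.span m g) ∧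
      ∀ i j, Ok o j → m ≤ 2 * j + 1 → A.P j (g' i) = Atom.tgt (.pair m (A.pairBit m g)) i j := by
  have hhigh : ∀ {g' : Fin 2 → V}, A.IsRaw m g' → ∀ i j, m ≤ 2 * j →
      A.P j (g' i) = Atom.tgt (.pair m (A.pairBit m g)) i j := fun hg' i j hj => by
    rw [A.pair_vals_high hg' i hj, Atom.tgt, if_neg (by omega)]
  by_cases hodd : ∃ k, m = 2 * k + 1 ∧ Ok o k
  · obtain ⟨k, rfl, hk⟩ := hodd
    obtain ⟨a, b, c, d, hdet, h0, h1⟩ := exists_binary (A.P k (g 0)) (A.P k (g 1))
    have hbit : A.pairBit (2 * k + 1) g = cls (A.P k (g 0) * A.P k (g 1)) := by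
      rw [pairBit, show (2 * k + 1) / 2 = k by omega, bitOf_ok hk, show (2 * k + 1) % 2 = 1 by omega]
      simp
    have hr := A.pair_change hg hdet
    refine ⟨_, hr, fun i => ?_, fun i j hj hm => ?_⟩
    · fin_cases i <;> exact Submodule.add_mem _ (Submodule.smul_mem _ _ (A.gen_mem_span hg.killed 0))
        (Submodule.smul_mem _ _ (A.gen_mem_span hg.killed 1))
    rcases Nat.lt_or_ge k j with h | h
    · exact hhigh hr i j (by omega)
    obtain rfl : j = k := by omega
    rw [Atom.tgt, hbit]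
    fin_cases i
    · simpa [A.pair_P_comb hg hk] using h0
    · simpa [A.pair_P_comb hg hk] using h1
  · refine ⟨g, hg, A.gen_mem_span hg.killed, fun i j hj hm => ?_⟩
    rcases Nat.lt_or_ge (2 * j) m with h | h
    · exact absurd ⟨j, by omega, hj⟩ hodd
    · exact hhigh hg i j h

theorem exists_pair_x (hg : A.IsRaw m g) :
    ∀ t, ∃ g' : Fin 2 → V, A.IsRaw m g' ∧ (∀ i, g' i ∈ A.span m g) ∧ g' 1 = g 1 ∧
      (∀ j, Ok o j → m ≤ 2 * j + 1 → A.P j (g' 0) = A.P j (g 0)) ∧
      ∀ j, Ok o j → m ≤ j + t → 2 * j + 1 < m → A.P j (g' 0) = 0 := by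
  intro t
  induction t with
  | zero => exact ⟨g, hg, A.gen_mem_span hg.killed, rfl, fun _ _ _ => rfl, fun j _ h1 h2 => absurd h2 (by omega)⟩
  | succ t ih =>
    obtain ⟨g', h1, h2, h3, h4, h5⟩ := ih
    by_cases hcase : ∃ j₀, j₀ + (t + 1) = m ∧ Ok o j₀ ∧ 2 * j₀ + 1 < m
    · obtain ⟨j₀, hj₀, hok, hlt⟩ := hcase
      set c := A.P j₀ (g' 0)
      set i := m - 1 - 2 * j₀
      have htop : ∀ j, Ok o j → A.P j (g' 0 + c • (A.N ^ i) (g' 1)) =
          A.P j (g' 0) + c ^ 2 * A.P (i + j) (g' 1) + c * A.B ((A.N ^ j) (g' 0)) ((A.N ^ (j + i)) (g' 1)) :=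
        fun j hj => A.P_add_pow_smul hj _ _ _ _
      refine ⟨fun l => g' l + ![c • (A.N ^ i) (g' 1), 0] l, h1.add_higher fun l => ?_, fun l => ?_, ?_,
        fun j hj hjm => ?_, fun j hj hjt hjk => ?_⟩
      · fin_cases l
        · exact ⟨c • (A.N ^ (i - 1)) (g' 1), Submodule.smul_mem _ _ (A.pow_mem_span h1.killed 1 _),
            by rw [map_smul, ← A.pow_succ_apply, Nat.sub_add_cancel (by omega)]; rfl⟩
        · exact ⟨0, Submodule.zero_mem _, by rw [map_zero]; rfl⟩
      · fin_cases l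
        · exact Submodule.add_mem _ (h2 0) (Submodule.smul_mem _ _ (A.span_stable_pow hg.killed (h2 1) i))
        · exact Submodule.add_mem _ (h2 1) (Submodule.zero_mem _)
      · simpa using h3
      · change A.P j (g' 0 + c • (A.N ^ i) (g' 1)) = _
        rw [htop j hj, h4 j hj hjm, A.pair_vals_high h1 1 (j := i + j) (by omega),
          h1.pair_zero 0 1 (by omega), mul_zero, mul_zero, add_zero, add_zero]
      · change A.P j (g' 0 + c • (A.N ^ i) (g' 1)) = _
        rw [htop j hj, A.pair_vals_high h1 1 (j := i + j) (by omega), mul_zero, add_zero]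
        rcases Nat.lt_or_ge j₀ j with h | h
        · rw [h1.pair_zero 0 1 (by omega), h5 j hj (by omega) hjk, mul_zero, add_zero]
        · obtain rfl : j = j₀ := by omega
          rw [h1.pair_top 0 1 (by omega), pat, if_pos (by decide : (0 : Fin 2) = Fin.rev 1), mul_one]
          exact CharTwo.add_self_eq_zero _
    · refine ⟨g', h1, h2, h3, h4, fun j hj hjt hjk => ?_⟩
      rcases Nat.eq_or_lt_of_le hjt with h | h
      · exact absurd ⟨j, h.symm, hj, hjk⟩ hcase
      · exact h5 j hj (by omega) hjk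

theorem exists_pair_y (hg : A.IsRaw m g) :
    ∀ t, ∃ g' : Fin 2 → V, A.IsRaw m g' ∧ (∀ i, g' i ∈ A.span m g) ∧ g' 0 = g 0 ∧
      (∀ j, Ok o j → m ≤ 2 * j + 1 → A.P j (g' 1) = A.P j (g 1)) ∧
      (∀ s, m ≤ s + t → A.B ((A.N ^ s) (g' 0)) (g' 1) = if s + 1 = m then 1 else 0) ∧
      ∀ j, Ok o j → m ≤ 2 * j + t → 2 * j + 1 < m → A.P j (g' 1) = 0 := by
  intro t
  induction t with
  | zero =>
    refine ⟨g, hg, A.gen_mem_span hg.killed, rfl, fun _ _ _ => rfl, fun s hs => ?_, fun j _ h1 h2 => absurd h2 (by omega)⟩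
    rw [if_neg (by omega), A.pow_eq_zero_of_le (hg.killed 0) (by omega), map_zero, LinearMap.zero_apply]
  | succ t ih =>
    obtain ⟨g', h1, h2, h3, h4, h5, h6⟩ := ih
    by_cases hsmall : 1 ≤ t ∧ t + 1 ≤ m
    · obtain ⟨s₀, hs₀⟩ : ∃ s₀, s₀ + (t + 1) = m := ⟨m - (t + 1), by omega⟩
      set i := m - 1 - s₀
      set c := A.B ((A.N ^ s₀) (g' 0)) (g' 1)
      -- first the cross pairing
      have hself : ∀ j, 1 ≤ j → m ≤ 2 * j → A.P j (g' 1) = 0 := fun j _ hj => A.pair_vals_high h1 1 hj
      set y₁ := g' 1 + c • (A.N ^ i) (g' 1) with hy₁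
      have hP1 : ∀ j, Ok o j → s₀ ≤ 2 * j → A.P j y₁ = A.P j (g' 1) := fun j hj hs => by
        rw [hy₁, A.P_add_pow_smul hj, A.pair_vals_high h1 1 (j := i + j) (by omega),
          A.B_self_zero' (R := m - 1) (fun l hl hl2 => hself l hl (by omega)) (by omega), mul_zero, mul_zero,
          add_zero, add_zero]
      have hB1 : ∀ s, s₀ < s → A.B ((A.N ^ s) (g' 0)) y₁ = A.B ((A.N ^ s) (g' 0)) (g' 1) := fun s hs => by
        rw [hy₁, map_add, map_smul, h1.pair_zero 0 1 (by omega), smul_zero, add_zero]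
      have hB0 : A.B ((A.N ^ s₀) (g' 0)) y₁ = 0 := by
        rw [hy₁, map_add, map_smul, h1.pair_top 0 1 (by omega), pat, if_pos (by decide : (0 : Fin 2) = Fin.rev 1),
          smul_eq_mul, mul_one]
        exact CharTwo.add_self_eq_zero _
      have hr1 : A.IsRaw m fun l => g' l + ![0, c • (A.N ^ i) (g' 1)] l := h1.add_higher fun l => by
        fin_cases l
        · exact ⟨0, Submodule.zero_mem _, by rw [map_zero]; rfl⟩
        · exact ⟨c • (A.N ^ (i - 1)) (g' 1), Submodule.smul_mem _ _ (A.pow_mem_span h1.killed 1 _),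
            by rw [map_smul, ← A.pow_succ_apply, Nat.sub_add_cancel (by omega)]; rfl⟩
      have hm1 : y₁ ∈ A.span m g :=
        Submodule.add_mem _ (h2 1) (Submodule.smul_mem _ _ (A.span_stable_pow hg.killed (h2 1) i))
      -- then the value
      obtain ⟨d, hd0, hd⟩ : ∃ d : F, (∀ j, 2 * j = s₀ → Ok o j → A.P j (g' 1) + d = 0) ∧
          ((∀ j, 2 * j ≠ s₀ ∨ ¬Ok o j) → d = 0) := by
        by_cases h : ∃ j, 2 * j = s₀ ∧ Ok o j
        · obtain ⟨j, hj, hjok⟩ := h
          refine ⟨A.P j (g' 1), fun l hl _ => ?_, fun hall => ?_⟩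
          · obtain rfl : l = j := by omega
            exact CharTwo.add_self_eq_zero _
          · exact absurd (hall j) (by simp [hj, hjok])
        · exact ⟨0, fun l hl hok => absurd ⟨l, hl, hok⟩ h, fun _ => rfl⟩
      have hx : ∀ j, 1 ≤ j → m ≤ 2 * j → A.P j (g' 0) = 0 := fun j _ hj => A.pair_vals_high h1 0 hj
      have hB2 : ∀ s, s₀ ≤ s → A.B ((A.N ^ s) (g' 0)) (y₁ + d • (A.N ^ i) (g' 0)) = A.B ((A.N ^ s) (g' 0)) y₁ :=
        fun s hs => by
          rw [map_add (A.B _), map_smul,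
            A.B_self_zero' (R := m - 1) (fun l hl hl2 => hx l hl (by omega)) (by omega), smul_zero, add_zero]
      refine ⟨![g' 0, y₁ + d • (A.N ^ i) (g' 0)], ?_, fun l => ?_, by simpa using h3, fun j hj hjm => ?_,
        fun s hs => ?_, fun j hj hjt hjk => ?_⟩
      · convert hr1.add_higher (u := ![0, d • (A.N ^ i) (g' 0)]) (fun l => ?_) using 1
        · funext l; fin_cases l <;> simp [hy₁]
        · fin_cases l
          · exact ⟨0, Submodule.zero_mem _, by rw [map_zero]; rfl⟩
          · refine ⟨d • (A.N ^ (i - 1)) (g' 0), ?_, by rw [map_smul, ← A.pow_succ_apply, Nat.sub_add_cancel (by omega)]; rfl⟩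
            simpa using Submodule.smul_mem _ d (A.pow_mem_span hr1.killed 0 (i - 1))
      · fin_cases l
        · exact h2 0
        · exact Submodule.add_mem _ hm1 (Submodule.smul_mem _ _ (A.span_stable_pow hg.killed (h2 0) i))
      · change A.P j (y₁ + d • (A.N ^ i) (g' 0)) = _
        rw [A.P_add_pow_smul hj, A.pair_vals_high h1 0 (j := i + j) (by omega), hP1 j hj (by omega),
          h4 j hj hjm, mul_zero, add_zero]
        simp only [hy₁, map_add, map_smul, LinearMap.add_apply, LinearMap.smul_apply, A.pow_add_apply]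
        rw [h1.pair_zero 1 0 (by omega), h1.pair_zero 1 0 (by omega), smul_zero, add_zero, mul_zero, add_zero]
      · change A.B ((A.N ^ s) (g' 0)) (y₁ + d • (A.N ^ i) (g' 0)) = _
        rw [hB2 s (by omega)]
        rcases Nat.lt_or_ge s₀ s with h | h
        · rw [hB1 s h, h5 s (by omega)]
        · obtain rfl : s = s₀ := by omega
          rw [hB0, if_neg (by omega)]
      · change A.P j (y₁ + d • (A.N ^ i) (g' 0)) = _
        rw [A.P_add_pow_smul hj, A.pair_vals_high h1 0 (j := i + j) (by omega), mul_zero, add_zero,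
          hP1 j hj (by omega)]
        simp only [hy₁, map_add, map_smul, LinearMap.add_apply, LinearMap.smul_apply, A.pow_add_apply]
        rw [h1.pair_zero 1 0 (s := j + i) (i := j + i) (by omega), smul_zero, add_zero]
        rcases Nat.lt_or_ge s₀ (2 * j) with h | h
        · rw [h1.pair_zero 1 0 (by omega), h6 j hj (by omega) hjk, mul_zero, add_zero]
        · rw [h1.pair_top 1 0 (by omega), pat, if_pos (by decide : (1 : Fin 2) = Fin.rev 0), mul_one]
          exact hd0 j (by omega) hj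
    · refine ⟨g', h1, h2, h3, h4, fun s hs => ?_, fun j hj hjt hjk => h6 j hj (by omega) hjk⟩
      rcases Nat.lt_or_ge (s + t) m with h | h
      · obtain rfl : s = m - 1 := by omega
        rw [if_pos (by have := hg.pos; omega), h1.top, pat, if_pos (by decide : (0 : Fin 2) = Fin.rev 1)]
      · exact h5 s h

/-- A block of width two is an atom. -/
theorem exists_atom_pair (hg : A.IsRaw m g) :
    ∃ g' : Fin 2 → V, A.IsAtom (.pair m (A.pairBit m g)) g' ∧ A.span m g' = A.span m g := by
  obtain ⟨g₁, r1, m1, v1⟩ := A.exists_pair_first hg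
  obtain ⟨g₂, r2, m2, e2, v2, z2⟩ := A.exists_pair_x r1 m
  rw [hg.span_congr r1 m1] at m2
  obtain ⟨g₃, r3, m3, e3, v3, c3, z3⟩ := A.exists_pair_y r2 m
  rw [hg.span_congr r2 m2] at m3
  refine ⟨g₃, ⟨⟨hg.pos, fun h => ?_⟩, r3, fun i j hj => ?_, fun i l hil s => ?_⟩, hg.span_congr r3 m3⟩
  · simp only [pairBit, Bool.and_eq_true, decide_eq_true_eq] at h
    exact ⟨h.1, ok_of_bitOf h.2⟩
  · rcases Nat.lt_or_ge (2 * j + 1) m with h | h
    · rw [Atom.tgt, if_neg (by omega)]
      fin_cases i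
      · change A.P j (g₃ 0) = 0
        rw [e3]; exact z2 j hj (by omega) h
      · exact z3 j hj (by omega) h
    · rw [← v1 i j hj h]
      fin_cases i
      · change A.P j (g₃ 0) = A.P j (g₁ 0)
        rw [e3, v2 j hj h]
      · change A.P j (g₃ 1) = A.P j (g₁ 1)
        rw [v3 j hj h, e2]
  · fin_cases i <;> fin_cases l <;> simp at hil
    exact c3 s (by omega)

end pair

end UForm

end CfsgLib.CharTwoClassNum
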