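import Mathlib

/-!
Unipotent isometries in characteristic two: a nilpotent `N`, the invariant alternating form and, optionally, an
invariant quadratic form; the values `P j v = Q (N ^ j v)` are defined for `j ≥ 1` from the alternating form alone.
-/

set_option autoImplicit false

namespace CfsgLib.CharTwoClassNum

variable {F : Type*} [Field F]

section arf

variable [Fintype F] [CharP F 2]

/-- `c ↦ c ^ 2 + c`. -/
def artin : F →+ F where
  toFun c := c ^ 2 + c
  map_zero' := by simp
  map_add' a b := by rw [CharTwo.add_sq]; abel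

theorem artin_apply (c : F) : artin c = c ^ 2 + c := rfl

theorem artin_index : (artin (F := F)).range.index = 2 := by
  classical
  have hk : Nat.card (artin (F := F)).ker = 2 := by
    rw [Nat.card_congr (Equiv.subtypeEquivRight (q := fun x : F => x = 0 ∨ x = 1) fun x => ?_)]
    · refine Nat.card_eq_two_iff.2 ⟨⟨0, Or.inl rfl⟩, ⟨1, Or.inr rfl⟩, fun h => zero_ne_one (congrArg Subtype.val h), ?_⟩
      refine Set.eq_univ_of_forall fun x => ?_
      rcases x.2 with h | h
      · exact Or.inl (Subtype.ext h)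
      · exact Or.inr (Subtype.ext h)
    · rw [AddMonoidHom.mem_ker, artin_apply]
      constructor
      · intro h
        have : x * (x + 1) = 0 := by rw [← h]; ring
        rcases mul_eq_zero.1 this with h' | h'
        · exact Or.inl h'
        · exact Or.inr (CharTwo.add_eq_zero.1 h')
      · rintro (rfl | rfl) <;> simp [CharTwo.add_self_eq_zero]
  have h := (artin (F := F)).range.index_mul_card
  have e := AddSubgroup.card_eq_card_quotient_mul_card_addSubgroup (artin (F := F)).ker
  rw [Nat.card_congr (QuotientAddGroup.quotientKerEquivRange (artin (F := F))).toEquiv, hk] at e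
  rw [e, mul_comm (Nat.card _) 2] at h
  exact Nat.eq_of_mul_eq_mul_right Nat.card_pos h

open scoped Classical in
/-- The class of `x` modulo `c ^ 2 + c`. -/
noncomputable def cls (x : F) : Bool := decide (x ∉ (artin (F := F)).range)

theorem cls_eq_false {x : F} : cls x = false ↔ ∃ c, c ^ 2 + c = x := by
  classical
  simp [cls, AddMonoidHom.mem_range, artin_apply]

theorem cls_add (x y : F) : cls (x + y) = xor (cls x) (cls y) := by
  classical
  have h := AddSubgroup.add_mem_iff_of_index_two (artin_index (F := F)) (a := x) (b := y)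
  by_cases hx : x ∈ (artin (F := F)).range <;> by_cases hy : y ∈ (artin (F := F)).range <;>
    simp_all [cls]

theorem cls_zero : cls (0 : F) = false := cls_eq_false.2 ⟨0, by simp⟩

theorem cls_sq (x : F) : cls (x ^ 2) = cls x := by
  have h : cls (x ^ 2 + x) = false := cls_eq_false.2 ⟨x, rfl⟩
  rw [cls_add] at h
  revert h; cases cls (x ^ 2) <;> cases cls x <;> simp

theorem exists_cls (e : Bool) : ∃ d : F, cls d = e := by
  cases e with
  | false => exact ⟨0, cls_zero⟩
  | true =>
    by_contra h
    push Not at h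
    have htop : (artin (F := F)).range = ⊤ := by
      refine (AddSubgroup.eq_top_iff' _).2 fun x => ?_
      simpa [cls] using h x
    have := artin_index (F := F)
    rw [htop, AddSubgroup.index_top] at this
    omega

/-- A chosen representative of each class. -/
noncomputable def bitVal (e : Bool) : F :=
  if e then (exists_cls (F := F) true).choose else 0

theorem cls_bitVal (e : Bool) : cls (bitVal e : F) = e := by
  cases e
  · exact cls_zero
  · exact (exists_cls (F := F) true).choose_spec

@[simp] theorem bitVal_false : (bitVal false : F) = 0 := rfl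

theorem exists_sqrt (x : F) : ∃ c : F, c ^ 2 = x := by
  obtain ⟨c, hc⟩ := FiniteField.isSquare_of_char_two (F := F) (ringChar.eq F 2) x
  exact ⟨c, by rw [hc, sq]⟩

theorem exists_artin_bitVal (p : F) : ∃ c : F, p + (c ^ 2 + c) = bitVal (cls p) := by
  have h : cls (p + bitVal (cls p)) = false := by rw [cls_add, cls_bitVal, Bool.xor_self]
  obtain ⟨c, hc⟩ := cls_eq_false.1 h
  refine ⟨c, ?_⟩
  rw [hc, ← add_assoc, CharTwo.add_self_eq_zero, zero_add]

end arf

/-- The values `Q (N ^ j v)` are defined. -/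
def Ok (o : Bool) (j : ℕ) : Prop := o = true ∨ 1 ≤ j

theorem ok_succ (o : Bool) (j : ℕ) : Ok o (j + 1) := Or.inr (Nat.le_add_left 1 j)

theorem Ok.mono {o : Bool} {i j : ℕ} (h : Ok o i) (hij : i ≤ j) : Ok o j := h.imp id fun h' => h'.trans hij

/-- A unipotent isometry `1 + N` of an alternating form, or of a quadratic form when `o = true`. -/
structure UForm (o : Bool) (F V : Type*) [Field F] [AddCommGroup V] [Module F V] where
  N : Module.End F V
  B : V →ₗ[F] V →ₗ[F] F
  Q : V → F
  alt : ∀ v, B v v = 0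
  inv : ∀ u v, B (N u) v + B u (N v) + B (N u) (N v) = 0
  Q_add : o = true → ∀ u v, Q (u + v) = Q u + Q v + B u v
  Q_smul : o = true → ∀ (c : F) v, Q (c • v) = c ^ 2 * Q v
  Q_N : o = true → ∀ v, Q (N v) = B v (N v)
  nil : IsNilpotent N

namespace UForm

variable [CharP F 2] {o : Bool} {V : Type*} [AddCommGroup V] [Module F V] (A : UForm o F V)

theorem symm (u v : V) : A.B u v = A.B v u := by
  have h := A.alt (u + v)
  simp only [map_add, LinearMap.add_apply, A.alt, zero_add, add_zero] at h
  exact (CharTwo.add_eq_zero.1 h).symm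

theorem inv' (u v : V) : A.B u (A.N v) = A.B (A.N u) v + A.B (A.N u) (A.N v) := by
  have h := A.inv u v
  rw [add_right_comm] at h
  exact (CharTwo.add_eq_zero.1 h).symm

/-- `P j v = Q (N ^ j v)`. -/
def P : ℕ → V → F
  | 0, v => A.Q v
  | j + 1, v => A.B ((A.N ^ j) v) ((A.N ^ (j + 1)) v)

omit [CharP F 2] in
theorem P_succ (j : ℕ) (v : V) : A.P (j + 1) v = A.B ((A.N ^ j) v) ((A.N ^ (j + 1)) v) := rfl

omit [CharP F 2] in
theorem pow_succ_apply (j : ℕ) (v : V) : (A.N ^ (j + 1)) v = A.N ((A.N ^ j) v) := by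
  rw [pow_succ', Module.End.mul_apply]

omit [CharP F 2] in
theorem pow_add_apply (i j : ℕ) (v : V) : (A.N ^ i) ((A.N ^ j) v) = (A.N ^ (i + j)) v := by
  rw [pow_add, Module.End.mul_apply]

theorem P_add {j : ℕ} (hj : Ok o j) (u v : V) :
    A.P j (u + v) = A.P j u + A.P j v + A.B ((A.N ^ j) u) ((A.N ^ j) v) := by
  match j with
  | 0 => exact A.Q_add (hj.resolve_right (by omega)) u v
  | j + 1 =>
    simp only [P_succ, map_add, LinearMap.add_apply, A.pow_succ_apply]
    rw [A.symm ((A.N ^ j) v) (A.N ((A.N ^ j) u))]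
    linear_combination A.inv ((A.N ^ j) u) ((A.N ^ j) v) -
      CharTwo.add_self_eq_zero (A.B (A.N ((A.N ^ j) u)) (A.N ((A.N ^ j) v)))

omit [CharP F 2] in
theorem P_smul {j : ℕ} (hj : Ok o j) (c : F) (v : V) : A.P j (c • v) = c ^ 2 * A.P j v := by
  match j with
  | 0 => exact A.Q_smul (hj.resolve_right (by omega)) c v
  | j + 1 => simp only [P_succ, map_smul, LinearMap.smul_apply, smul_eq_mul]; ring

omit [CharP F 2] in
theorem P_pow {j : ℕ} (hj : Ok o j) (i : ℕ) (v : V) : A.P j ((A.N ^ i) v) = A.P (i + j) v := by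
  match j with
  | 0 =>
    match i with
    | 0 => simp
    | i + 1 =>
      change A.Q _ = A.P (i + 1) v
      rw [P_succ, A.pow_succ_apply, A.Q_N (hj.resolve_right (by omega))]
  | j + 1 =>
    rw [P_succ, A.pow_add_apply, A.pow_add_apply, show i + (j + 1) = i + j + 1 by omega, P_succ,
      Nat.add_comm j i, show j + 1 + i = i + j + 1 by omega]

theorem P_zero {j : ℕ} (hj : Ok o j) : A.P j 0 = 0 := by
  have h := A.P_smul hj 0 0
  rwa [zero_smul, zero_pow two_ne_zero, zero_mul] at h

/-- Powers adding up to the height of one of the vectors pair to zero. -/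
theorem B_pow_zero {M : ℕ} {u : V} (hu : (A.N ^ M) u = 0) (v : V) :
    ∀ b a : ℕ, M ≤ a + b → A.B ((A.N ^ a) u) ((A.N ^ b) v) = 0 := by
  have hbig : ∀ a, M ≤ a → (A.N ^ a) u = 0 := fun a ha => by
    rw [← Nat.sub_add_cancel ha, ← A.pow_add_apply, hu, map_zero]
  intro b
  induction b with
  | zero => intro a ha; rw [hbig a (by omega), map_zero, LinearMap.zero_apply]
  | succ b ih =>
    intro a ha
    induction hd : M - a using Nat.strong_induction_on generalizing a with
    | _ d ihd =>
      rcases Nat.lt_or_ge a M with h | h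
      · rw [A.pow_succ_apply b, A.inv', ← A.pow_succ_apply a, ih (a + 1) (by omega), ← A.pow_succ_apply b,
          ihd (M - (a + 1)) (by omega) (a + 1) (by omega) rfl, add_zero]
      · rw [hbig a h, map_zero, LinearMap.zero_apply]

theorem B_pow_zero' {M : ℕ} {v : V} (hv : (A.N ^ M) v = 0) (u : V) {a b : ℕ} (h : M ≤ a + b) :
    A.B ((A.N ^ a) u) ((A.N ^ b) v) = 0 := by
  rw [A.symm]; exact A.B_pow_zero hv u a b (by omega)

/-- On the last antidiagonal only the sum of the powers matters. -/
theorem B_pow_top {M : ℕ} {u : V} (hu : (A.N ^ M) u = 0) (v : V) : ∀ b a : ℕ, a + b + 1 = M →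
    A.B ((A.N ^ a) u) ((A.N ^ b) v) = A.B ((A.N ^ (M - 1)) u) v := by
  intro b
  induction b with
  | zero => intro a ha; rw [show M - 1 = a by omega]; rfl
  | succ b ih =>
    intro a ha
    rw [A.pow_succ_apply b, A.inv', ← A.pow_succ_apply a, ih (a + 1) (by omega), ← A.pow_succ_apply b,
      A.B_pow_zero hu v (b + 1) (a + 1) (by omega), add_zero]

theorem top_symm {M : ℕ} {u v : V} (hu : (A.N ^ M) u = 0) :
    A.B ((A.N ^ (M - 1)) u) v = A.B ((A.N ^ (M - 1)) v) u := by
  rcases M with _ | M
  · have h0 : u = 0 := by simpa using hu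
    simp [h0]
  · rw [Nat.add_sub_cancel, A.symm ((A.N ^ M) v) u]
    exact (A.B_pow_top hu v M 0 (by omega)).symm

theorem top_self_even {k : ℕ} (hk : 1 ≤ k) {u : V} (hu : (A.N ^ (2 * k)) u = 0) :
    A.B ((A.N ^ (2 * k - 1)) u) u = A.P k u := by
  obtain ⟨l, rfl⟩ : ∃ l, k = l + 1 := ⟨k - 1, by omega⟩
  rw [P_succ, A.B_pow_top hu u (l + 1) l (by omega)]

theorem top_self_odd {k : ℕ} {u : V} (hu : (A.N ^ (2 * k + 1)) u = 0) :
    A.B ((A.N ^ (2 * k)) u) u = 0 := by
  have h := A.B_pow_top hu u k k (by omega)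
  rw [A.alt, Nat.add_sub_cancel] at h
  exact h.symm

theorem P_zero_of_height {M : ℕ} {u : V} (hu : (A.N ^ M) u = 0) {j : ℕ} (hj : M + 1 ≤ 2 * j) :
    A.P j u = 0 := by
  obtain ⟨l, rfl⟩ : ∃ l, j = l + 1 := ⟨j - 1, by omega⟩
  rw [P_succ, A.B_pow_zero hu u (l + 1) l (by omega)]

/-- The self pairings vanish beyond the last non-zero value `P j`. -/
theorem B_self_zero {R : ℕ} {u : V} (h : ∀ j, 1 ≤ j → R + 1 ≤ 2 * j → A.P j u = 0) :
    ∀ d a : ℕ, R ≤ 2 * a + d → A.B ((A.N ^ a) u) ((A.N ^ (a + d)) u) = 0 := by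
  intro d
  induction d using Nat.strong_induction_on with
  | _ d ih =>
    intro a ha
    match d with
    | 0 => exact A.alt _
    | 1 => exact h (a + 1) (by omega) (by omega)
    | e + 2 =>
      rw [show a + (e + 2) = a + e + 1 + 1 by omega, A.pow_succ_apply (a + e + 1), A.inv',
        ← A.pow_succ_apply a, ← A.pow_succ_apply (a + e + 1), show a + e + 1 = a + 1 + e by omega,
        ih e (by omega) (a + 1) (by omega), show a + 1 + e + 1 = a + 1 + (e + 1) by omega,
        ih (e + 1) (by omega) (a + 1) (by omega), add_zero]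

theorem B_self_zero' {R : ℕ} {u : V} (h : ∀ j, 1 ≤ j → R + 1 ≤ 2 * j → A.P j u = 0) {a b : ℕ}
    (hab : R ≤ a + b) : A.B ((A.N ^ a) u) ((A.N ^ b) u) = 0 := by
  rcases Nat.le_total a b with hle | hle
  · obtain ⟨d, rfl⟩ := Nat.exists_eq_add_of_le hle
    exact A.B_self_zero h d a (by omega)
  · obtain ⟨d, rfl⟩ := Nat.exists_eq_add_of_le hle
    rw [A.symm]; exact A.B_self_zero h d b (by omega)

section congr

variable {V' : Type*} [AddCommGroup V'] [Module F V'] (A' : UForm o F V')

/-- Cross pairings are determined by those with one power equal to zero. -/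
theorem B_pow_congr {M : ℕ} {u v : V} {u' v' : V'} (hu : (A.N ^ M) u = 0) (hu' : (A'.N ^ M) u' = 0)
    (h : ∀ a, A.B ((A.N ^ a) u) v = A'.B ((A'.N ^ a) u') v') :
    ∀ b a : ℕ, A.B ((A.N ^ a) u) ((A.N ^ b) v) = A'.B ((A'.N ^ a) u') ((A'.N ^ b) v') := by
  intro b
  induction b with
  | zero => intro a; simpa using h a
  | succ b ih =>
    intro a
    induction hd : M - a using Nat.strong_induction_on generalizing a with
    | _ d ihd =>
      rcases Nat.lt_or_ge a M with hlt | hge
      · rw [A.pow_succ_apply b, A.inv', ← A.pow_succ_apply a, ← A.pow_succ_apply b, A'.pow_succ_apply b, A'.inv',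
          ← A'.pow_succ_apply a, ← A'.pow_succ_apply b, ih (a + 1), ihd (M - (a + 1)) (by omega) (a + 1) rfl]
      · rw [A.B_pow_zero hu v (b + 1) a (by omega), A'.B_pow_zero hu' v' (b + 1) a (by omega)]

/-- Self pairings are determined by the values `P j`, `j ≥ 1`. -/
theorem B_self_congr {u : V} {u' : V'} (h : ∀ j, 1 ≤ j → A.P j u = A'.P j u') (a b : ℕ) :
    A.B ((A.N ^ a) u) ((A.N ^ b) u) = A'.B ((A'.N ^ a) u') ((A'.N ^ b) u') := by
  have key : ∀ d a : ℕ, A.B ((A.N ^ a) u) ((A.N ^ (a + d)) u) = A'.B ((A'.N ^ a) u') ((A'.N ^ (a + d)) u') := by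
    intro d
    induction d using Nat.strong_induction_on with
    | _ d ih =>
      intro a
      match d with
      | 0 => rw [Nat.add_zero, A.alt, A'.alt]
      | 1 => exact h (a + 1) (by omega)
      | e + 2 =>
        rw [show a + (e + 2) = a + e + 1 + 1 by omega, A.pow_succ_apply (a + e + 1), A.inv',
          A'.pow_succ_apply (a + e + 1), A'.inv',
          ← A.pow_succ_apply a, ← A.pow_succ_apply (a + e + 1), ← A'.pow_succ_apply a,
          ← A'.pow_succ_apply (a + e + 1), show a + e + 1 = a + 1 + e by omega, ih e (by omega) (a + 1),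
          show a + 1 + e + 1 = a + 1 + (e + 1) by omega, ih (e + 1) (by omega) (a + 1)]
  rcases Nat.le_total a b with hle | hle
  · obtain ⟨d, rfl⟩ := Nat.exists_eq_add_of_le hle
    exact key d a
  · obtain ⟨d, rfl⟩ := Nat.exists_eq_add_of_le hle
    rw [A.symm, A'.symm]; exact key d b

end congr

end UForm

end CfsgLib.CharTwoClassNum
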