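import Cfsg.Agent.Lib.CharTwoClassNum.Base

/-!
Blocks: generators of height `m` whose pairings on the last antidiagonal form an antidiagonal matrix.
-/

set_option autoImplicit false

namespace CfsgLib.CharTwoClassNum

variable {F : Type*} [Field F] [CharP F 2]

/-- The antidiagonal pattern. -/
def pat {w : ℕ} (i j : Fin w) : F := if i = j.rev then 1 else 0

namespace UForm

variable {o : Bool} {V : Type*} [AddCommGroup V] [Module F V] (A : UForm o F V)

/-- A block of height `m`. -/
structure IsRaw (m : ℕ) {w : ℕ} (g : Fin w → V) : Prop where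
  pos : 1 ≤ m
  killed : ∀ j, (A.N ^ m) (g j) = 0
  top : ∀ i j, A.B ((A.N ^ (m - 1)) (g i)) (g j) = pat i j

/-- The subspace spanned by a block. -/
def span (m : ℕ) {w : ℕ} (g : Fin w → V) : Submodule F V :=
  Submodule.span F (Set.range fun p : Fin w × Fin m => (A.N ^ (p.2 : ℕ)) (g p.1))

/-- Combinations using the powers below `r`. -/
def comb (r : ℕ) {w : ℕ} (g : Fin w → V) : (Fin w × Fin r → F) →ₗ[F] V :=
  Fintype.linearCombination F fun p : Fin w × Fin r => (A.N ^ (p.2 : ℕ)) (g p.1)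

variable {m w : ℕ} {g : Fin w → V}

omit [CharP F 2] in
theorem span_eq_range : A.span m g = LinearMap.range (A.comb m g) :=
  (Fintype.range_linearCombination F _).symm

omit [CharP F 2] in
theorem pow_eq_zero_of_le {M i : ℕ} {u : V} (hu : (A.N ^ M) u = 0) (hi : M ≤ i) : (A.N ^ i) u = 0 := by
  rw [← Nat.sub_add_cancel hi, ← A.pow_add_apply, hu, map_zero]

omit [CharP F 2] in
theorem pow_mem_span (hk : ∀ j, (A.N ^ m) (g j) = 0) (j : Fin w) (i : ℕ) : (A.N ^ i) (g j) ∈ A.span m g := by
  rcases Nat.lt_or_ge i m with h | h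
  · exact Submodule.subset_span ⟨(j, ⟨i, h⟩), rfl⟩
  · rw [A.pow_eq_zero_of_le (hk j) h]; exact Submodule.zero_mem _

omit [CharP F 2] in
theorem span_le {W : Submodule F V} (hW : ∀ v ∈ W, A.N v ∈ W) (hg : ∀ j, g j ∈ W) : A.span m g ≤ W := by
  refine Submodule.span_le.2 ?_
  rintro _ ⟨⟨j, i⟩, rfl⟩
  simp only [SetLike.mem_coe]
  generalize (i : ℕ) = a
  induction a with
  | zero => simpa using hg j
  | succ a ih => rw [A.pow_succ_apply]; exact hW _ ih

omit [CharP F 2] in
theorem comb_mem (hk : ∀ j, (A.N ^ m) (g j) = 0) {r : ℕ} (c : Fin w × Fin r → F) : A.comb r g c ∈ A.span m g := by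
  rw [comb, Fintype.linearCombination_apply]
  exact Submodule.sum_mem _ fun p _ => Submodule.smul_mem _ _ (A.pow_mem_span hk _ _)

omit [CharP F 2] in
theorem gen_mem_span (hk : ∀ j, (A.N ^ m) (g j) = 0) (j : Fin w) : g j ∈ A.span m g := by
  simpa using A.pow_mem_span hk j 0

omit [CharP F 2] in
theorem span_stable (hk : ∀ j, (A.N ^ m) (g j) = 0) {v : V} (hv : v ∈ A.span m g) : A.N v ∈ A.span m g := by
  have : A.span m g ≤ (A.span m g).comap A.N := by
    refine Submodule.span_le.2 ?_
    rintro _ ⟨⟨j, i⟩, rfl⟩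
    simp only [SetLike.mem_coe, Submodule.mem_comap, ← A.pow_succ_apply]
    exact A.pow_mem_span hk j _
  exact this hv

omit [CharP F 2] in
theorem span_stable_pow (hk : ∀ j, (A.N ^ m) (g j) = 0) {v : V} (hv : v ∈ A.span m g) :
    ∀ i : ℕ, (A.N ^ i) v ∈ A.span m g
  | 0 => by simpa using hv
  | i + 1 => by rw [A.pow_succ_apply]; exact A.span_stable hk (span_stable_pow hk hv i)

omit [CharP F 2] in
/-- Orthogonality to a block is tested on the generators. -/
theorem orth_of_gens {v : V} (h : ∀ l s, A.B ((A.N ^ s) (g l)) v = 0) : ∀ x ∈ A.span m g, A.B x v = 0 := by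
  intro x hx
  have : A.span m g ≤ LinearMap.ker (A.B.flip v) := by
    refine Submodule.span_le.2 ?_
    rintro _ ⟨⟨j, i⟩, rfl⟩
    exact h j i
  exact this hx

namespace IsRaw

variable {A} (hg : A.IsRaw m g)
include hg

theorem pair_zero {s i : ℕ} (l j : Fin w) (h : m ≤ s + i) :
    A.B ((A.N ^ s) (g l)) ((A.N ^ i) (g j)) = 0 :=
  A.B_pow_zero (hg.killed l) (g j) i s h

theorem pair_top {s i : ℕ} (l j : Fin w) (h : s + i + 1 = m) :
    A.B ((A.N ^ s) (g l)) ((A.N ^ i) (g j)) = pat l j := by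
  rw [A.B_pow_top (hg.killed l) (g j) i s h, hg.top]

/-- Pairings against a shifted combination. -/
theorem low_apply {r : ℕ} (hr : r ≤ m) (c : Fin w × Fin r → F) (l : Fin w) (s : ℕ) :
    A.B ((A.N ^ s) (g l)) ((A.N ^ (m - r)) (A.comb r g c)) =
      ∑ p : Fin w × Fin r, c p * A.B ((A.N ^ s) (g l)) ((A.N ^ (m - r + p.2)) (g p.1)) := by
  rw [comb, Fintype.linearCombination_apply, map_sum, map_sum]
  refine Finset.sum_congr rfl fun p _ => ?_
  rw [map_smul, map_smul, smul_eq_mul, A.pow_add_apply]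

theorem low_high {r : ℕ} (hr : r ≤ m) (c : Fin w × Fin r → F) (l : Fin w) {s : ℕ} (hs : r ≤ s) :
    A.B ((A.N ^ s) (g l)) ((A.N ^ (m - r)) (A.comb r g c)) = 0 := by
  rw [hg.low_apply hr]
  exact Finset.sum_eq_zero fun p _ => by rw [hg.pair_zero _ _ (by omega), mul_zero]

/-- The leading coefficient is read off at the first antidiagonal where it contributes. -/
theorem low_lead {r : ℕ} (hr : r ≤ m) (c : Fin w × Fin r → F) (j : Fin w) (i : Fin r)
    (h0 : ∀ p : Fin w × Fin r, p.2 < i → c p = 0) :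
    A.B ((A.N ^ (r - 1 - i : ℕ)) (g j.rev)) ((A.N ^ (m - r)) (A.comb r g c)) = c (j, i) := by
  rw [hg.low_apply hr, Finset.sum_eq_single (j, i)]
  · rw [hg.pair_top _ _ (by have := i.2; simp only; omega), pat, if_pos rfl, mul_one]
  · rintro ⟨j', i'⟩ - hne
    rcases lt_trichotomy i' i with h | rfl | h
    · rw [h0 _ h, zero_mul]
    · have hj : j' ≠ j := fun h => hne (by rw [h])
      rw [hg.pair_top _ _ (by have := i'.2; simp only; omega), pat,
        if_neg (fun e => hj (Fin.rev_injective e.symm)), mul_zero]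
    · rw [hg.pair_zero _ _ (by have := i'.2; have := i.2; rw [Fin.lt_def] at h; simp only; omega), mul_zero]
  · simp

theorem low_injective {r : ℕ} (hr : r ≤ m) {c : Fin w × Fin r → F}
    (h : ∀ l (s : Fin r), A.B ((A.N ^ (s : ℕ)) (g l)) ((A.N ^ (m - r)) (A.comb r g c)) = 0) : c = 0 := by
  by_contra hne
  obtain ⟨p, hp⟩ := Function.ne_iff.1 hne
  classical
  obtain ⟨p, hp, hmin⟩ := Finset.exists_min_image (Finset.univ.filter fun p => c p ≠ 0) (fun p => p.2)
    ⟨p, by simpa using hp⟩
  rw [Finset.mem_filter] at hp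
  have hlead := hg.low_lead hr c p.1 p.2 fun x hx => by
    by_contra hx0
    exact absurd (hmin x (by simp [hx0])) (not_le.2 hx)
  have h' := h p.1.rev ⟨r - 1 - (p.2 : ℕ), by have := p.2.2; omega⟩
  rw [hlead] at h'
  exact hp.2 h'

theorem linearIndependent : LinearIndependent F fun p : Fin w × Fin m => (A.N ^ (p.2 : ℕ)) (g p.1) := by
  rw [Fintype.linearIndependent_iff]
  intro c hc
  refine congrFun (hg.low_injective le_rfl fun l s => ?_)
  rw [comb, Fintype.linearCombination_apply, hc, map_zero, map_zero]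

theorem finrank_span : Module.finrank F (A.span m g) = w * m := by
  rw [span, finrank_span_eq_card hg.linearIndependent, Fintype.card_prod, Fintype.card_fin, Fintype.card_fin]

theorem nondeg {v : V} (hv : v ∈ A.span m g) (h : ∀ x ∈ A.span m g, A.B x v = 0) : v = 0 := by
  rw [A.span_eq_range] at hv
  obtain ⟨c, rfl⟩ := hv
  rw [hg.low_injective le_rfl (c := c) fun l s => ?_, map_zero]
  rw [Nat.sub_self, pow_zero, Module.End.one_apply]
  exact h _ (A.pow_mem_span hg.killed l s)

/-- Projection onto the orthogonal of a block, with the first coefficient of the correction. -/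
theorem exists_proj {r : ℕ} (hr : r ≤ m) (v : V) (h : ∀ l s, r ≤ s → A.B ((A.N ^ s) (g l)) v = 0) :
    ∃ c : Fin w × Fin r → F,
      (∀ x ∈ A.span m g, A.B x (v + (A.N ^ (m - r)) (A.comb r g c)) = 0) ∧
      ∀ j (i : Fin r), (i : ℕ) = 0 → c (j, i) = A.B ((A.N ^ (r - 1)) (g j.rev)) v := by
  let E : (Fin w × Fin r → F) →ₗ[F] (Fin w × Fin r → F) :=
    LinearMap.pi fun p => (A.B ((A.N ^ (p.2 : ℕ)) (g p.1))).comp ((A.N ^ (m - r)).comp (A.comb r g))
  have hinj : Function.Injective E := by
    refine (injective_iff_map_eq_zero E).2 fun c hc => hg.low_injective hr fun l s => ?_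
    exact congrFun hc (l, s)
  obtain ⟨c, hc⟩ := LinearMap.injective_iff_surjective.1 hinj fun p => A.B ((A.N ^ (p.2 : ℕ)) (g p.1)) v
  refine ⟨c, A.orth_of_gens fun l s => ?_, fun j i hi => ?_⟩
  · rw [map_add]
    rcases Nat.lt_or_ge s r with hs | hs
    · rw [show A.B ((A.N ^ s) (g l)) ((A.N ^ (m - r)) (A.comb r g c)) = A.B ((A.N ^ s) (g l)) v from
        congrFun hc (l, ⟨s, hs⟩)]
      exact CharTwo.add_self_eq_zero _
    · rw [h l s hs, hg.low_high hr c l hs, add_zero]
  · have hlead := hg.low_lead hr c j i fun p hp => absurd hp (by rw [Fin.lt_def]; omega)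
    rw [hi, Nat.sub_zero] at hlead
    rw [← hlead]
    exact congrFun hc (j.rev, ⟨r - 1, by have := i.2; omega⟩)

theorem exists_proj_span (v : V) : ∃ u ∈ A.span m g, ∀ x ∈ A.span m g, A.B x (v + u) = 0 := by
  obtain ⟨c, hc, -⟩ := hg.exists_proj le_rfl v fun l s hs => by
    rw [A.pow_eq_zero_of_le (hg.killed l) hs, map_zero, LinearMap.zero_apply]
  exact ⟨_, A.span_stable_pow hg.killed (A.comb_mem hg.killed c) _, hc⟩

theorem top_N_zero {u : V} (hu : u ∈ A.span m g) : (A.N ^ m) u = 0 := by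
  have : A.span m g ≤ LinearMap.ker (A.N ^ m) := by
    refine Submodule.span_le.2 ?_
    rintro _ ⟨⟨j, i⟩, rfl⟩
    simp only [SetLike.mem_coe, LinearMap.mem_ker, A.pow_add_apply]
    exact A.pow_eq_zero_of_le (hg.killed j) (by omega)
  exact this hu

omit [CharP F 2] in
theorem span_eq {g' : Fin w → V} (hg' : A.IsRaw m g') (h : ∀ j, g' j ∈ A.span m g)
    (hd : Module.finrank F (A.span m g') = Module.finrank F (A.span m g)) : A.span m g' = A.span m g := by
  haveI : FiniteDimensional F (A.span m g) := by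
    rw [span]; exact FiniteDimensional.span_of_finite F (Set.finite_range _)
  exact Submodule.eq_of_le_of_finrank_eq (A.span_le (fun _ => A.span_stable hg.killed) h) hd

theorem span_congr {g' : Fin w → V} (hg' : A.IsRaw m g') (h : ∀ j, g' j ∈ A.span m g) :
    A.span m g' = A.span m g :=
  hg.span_eq hg' h (by rw [hg'.finrank_span, hg.finrank_span])

/-- Adding corrections of higher order keeps the pattern. -/
theorem add_higher {u : Fin w → V} (hu : ∀ j, ∃ u' ∈ A.span m g, u j = A.N u') :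
    A.IsRaw m fun j => g j + u j := by
  have hk : ∀ j, (A.N ^ (m - 1)) (u j) = 0 := fun j => by
    obtain ⟨u', hu', he⟩ := hu j
    rw [he, ← Module.End.mul_apply, ← pow_succ, Nat.sub_add_cancel hg.pos]
    exact hg.top_N_zero hu'
  refine ⟨hg.pos, fun j => ?_, fun i j => ?_⟩
  · rw [map_add, hg.killed, zero_add]
    exact A.pow_eq_zero_of_le (hk j) (Nat.sub_le _ _)
  · rw [map_add (A.N ^ (m - 1)), hk, add_zero, map_add, hg.top]
    have := A.B_pow_zero' (hk j) (g i) (a := m - 1) (b := 0) le_rfl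
    rw [pow_zero, Module.End.one_apply] at this
    rw [this, add_zero]

end IsRaw

end UForm

end CfsgLib.CharTwoClassNum
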