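import Cfsg.Agent.Lib.CharTwoClassNum.Reduce

/-!
The bound for the number of classes of isometries in characteristic two.
-/

set_option autoImplicit false

namespace CfsgLib.CharTwoClassNum

open Polynomial Matrix CfsgLib.SpecGL CfsgLib.SpecUnitary CfsgLib.SpClassNum

universe u

variable {F : Type u} [Field F] [CharP F 2] [Fintype F] {m : ℕ} {o : Bool}
  {J : Matrix (Fin m) (Fin m) F} {qf : (Fin m → F) → F}

/-- The divisors away from one. -/
theorem exists_second_divisors {A : Matrix (Fin m) (Fin m) F}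
    (S : Split o J qf A) :
    ∃ s : Multiset (F[X] × ℕ), GoodDivisors s ∧ HasDivisors (S.N2 + 1) s ∧
      (∀ y ∈ s, y.2 ≤ m) ∧ (∑ i : Fin m, ((i : ℕ) + 1) * (exponentPoly s i).natDegree) = S.b ∧
      ∀ i : Fin m, conjRev (RingHom.id F) (exponentPoly s i) = exponentPoly s i ∧
        (exponentPoly s i).eval 1 ≠ 0 := by
  classical
  have hud : IsUnit S.G2.det := (Matrix.isUnit_iff_isUnit_det _).1 S.unit2
  have hunit : IsUnit (S.N2 + 1) := by
    refine IsUnit.of_mul_eq_one_right (S.G2⁻¹ * (S.N2 + 1)ᵀ * S.G2) ?_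
    rw [Matrix.mul_assoc, Matrix.mul_assoc, ← Matrix.mul_assoc _ S.G2, S.iso2, Matrix.nonsing_inv_mul _ hud]
  obtain ⟨s, hd, hg, hsum⟩ := exists_divisors _ hunit
  have hbm : S.b ≤ m := by have := S.hab; omega
  have hb : ∀ y ∈ s, 1 ≤ y.2 ∧ y.2 ≤ m := fun y hy =>
    ⟨(GoodDivisors.bounds hg hsum y hy).1, (GoodDivisors.bounds hg hsum y hy).2.trans hbm⟩
  refine ⟨s, hg, hd, fun y hy => (hb y hy).2, ?_, fun i => ⟨?_, fun h0 => ?_⟩⟩
  · conv_rhs => rw [← hsum, ← sum_by_exponent (n := m) _ s hb]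
    refine Finset.sum_congr rfl fun i _ => ?_
    rw [exponentPoly, natDegree_multiset_prod_of_monic _ (fun p hp => by
      obtain ⟨x, hx, rfl⟩ := Multiset.mem_map.1 hp
      exact (hg x (Multiset.mem_of_mem_filter hx)).1), Multiset.map_map, ← Multiset.sum_map_mul_left]
    refine congrArg Multiset.sum (Multiset.map_congr rfl fun x hx => ?_)
    rw [Function.comp_apply, (Multiset.mem_filter.1 hx).2]
  · have hinv := divisors_reverse_invariant hud S.iso2 hg hd
    rw [exponentPoly, conjRev_multiset_prod]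
    conv_rhs => rw [← hinv, Multiset.filter_map, Multiset.map_map]
    rw [Multiset.map_map]
    rfl
  · rw [exponentPoly, eval_multiset_prod, Multiset.map_map, Multiset.prod_eq_zero_iff, Multiset.mem_map] at h0
    obtain ⟨x, hx, hx0⟩ := h0
    have hxs := Multiset.mem_of_mem_filter hx
    obtain ⟨hxm, hxi, -, hx1⟩ := hg x hxs
    have hxe : x.1 = Polynomial.X - Polynomial.C 1 :=
      (eq_of_monic_of_associated (monic_X_sub_C _) hxm
        ((irreducible_X_sub_C (1 : F)).associated_of_dvd hxi (dvd_iff_isRoot.2 hx0))).symm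
    have hk := natCard_ker_aeval hg hd (monic_X_sub_C (1 : F)) (irreducible_X_sub_C 1) 1
    have he : aeval (S.N2 + 1) ((Polynomial.X - Polynomial.C (1 : F)) ^ 1) = S.N2 := by
      simp [Algebra.algebraMap_eq_smul_one]
    rw [he, natDegree_X_sub_C, one_mul] at hk
    have hker : Nat.card {v : Fin S.b → F // S.N2 *ᵥ v = 0} = 1 := by
      refine Nat.card_eq_one_iff_unique.2 ⟨⟨fun u v => Subtype.ext ?_⟩, ⟨⟨0, Matrix.mulVec_zero _⟩⟩⟩
      exact Matrix.mulVec_injective_iff_isUnit.2 S.hN2 (u.2.trans v.2.symm)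
    rw [hker] at hk
    have hlev : 1 ≤ levelSum (Polynomial.X - Polynomial.C (1 : F)) s 1 := by
      refine le_trans ?_ (Multiset.le_sum_of_mem (Multiset.mem_map_of_mem _ hxs))
      rw [if_pos hxe]; omega
    have := Nat.one_lt_pow (n := levelSum (Polynomial.X - Polynomial.C (1 : F)) s 1) (by omega)
      (Fintype.one_lt_card (α := F))
    omega

/-- The sum of signs over the whole space. -/
noncomputable def signTotal (qf : (Fin m → F) → F) : ℤ := ∑ v, sgn (qf v)

/-- The sum of signs of the second part. -/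
noncomputable def Split.signSecond {A : Matrix (Fin m) (Fin m) F} (S : Split o J qf A) : ℤ :=
  ∑ y : Fin S.b → F, sgn (qf (S.P *ᵥ Sum.elim 0 y))

theorem Split.signTotal_eq {A : Matrix (Fin m) (Fin m) F} (S : Split o J qf A) (ho : o = true)
    (hqadd : ∀ u v, qf (u + v) = qf u + qf v + u ⬝ᵥ J *ᵥ v) {L : List Atom} (hL : S.U.Dec L ⊤) :
    ∃ c : ℕ, 0 < c ∧ signTotal qf = c * sgnBit (parity L) * S.signSecond := by
  classical
  obtain ⟨c, hc, h⟩ := UForm.Dec.gsum S.U ho hL
  refine ⟨c, hc, ?_⟩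
  rw [← h]
  let e : ((Fin S.a → F) × (Fin S.b → F)) ≃ (Fin m → F) :=
    { toFun := fun p => S.P *ᵥ Sum.elim p.1 p.2
      invFun := fun v => ((S.R *ᵥ v) ∘ Sum.inl, (S.R *ᵥ v) ∘ Sum.inr)
      left_inv := fun p => by simp [Matrix.mulVec_mulVec, S.hRP]
      right_inv := fun v => by simp [Matrix.mulVec_mulVec, S.hPR] }
  have hel : UForm.elems (F := F) (⊤ : Submodule F (Fin S.a → F)) = Finset.univ := by
    ext v; simp [UForm.mem_elems]
  rw [signTotal, ← Equiv.sum_comp e, UForm.gsum, hel, Split.signSecond, Finset.sum_mul_sum, ← Finset.sum_product']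
  rw [Finset.univ_product_univ]
  refine Finset.sum_congr rfl fun p _ => ?_
  rw [← sgn_add, S.UQ ho]
  exact congrArg sgn (S.qf_split hqadd p.1 p.2)

theorem signSecond_eq (halt : ∀ v, v ⬝ᵥ J *ᵥ v = 0) (ho : o = true)
    (hqadd : ∀ u v, qf (u + v) = qf u + qf v + u ⬝ᵥ J *ᵥ v) {A A' : Matrix (Fin m) (Fin m) F}
    (hqA : ∀ v, qf (A *ᵥ v) = qf v) (hqA' : ∀ v, qf (A' *ᵥ v) = qf v) (S : Split o J qf A) (S' : Split o J qf A')
    (hb : S.b = S'.b) {s : Multiset (F[X] × ℕ)} (hd : HasDivisors (S.N2 + 1) s) (hd' : HasDivisors (S'.N2 + 1) s) :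
    S.signSecond = S'.signSecond := by
  classical
  have h2 := fun w => S.qf_second ho hqadd hqA w
  have h2' := fun w => S'.qf_second ho hqadd hqA' w
  obtain ⟨a, b, hab, P, R, hPR, hRP, N1, N2, hN2, eqA, G1, G2, eqG, i2, k2, u2, UU, UN, UB, UQ, piece⟩ := S
  obtain ⟨a', b', hab', P', R', hPR', hRP', N1', N2', hN2', eqA', G1', G2', eqG', i2', k2', u2', UU', UN', UB', UQ',
    piece'⟩ := S'
  subst hb
  simp only at *
  obtain ⟨U, hUu, hUc, hU⟩ := exists_second halt hN2 i2 k2 u2 i2' k2' u2' hd hd'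
  simp only [Split.signSecond]
  let e : (Fin b → F) ≃ (Fin b → F) := Equiv.ofBijective (fun y => U *ᵥ y)
    ⟨Matrix.mulVec_injective_iff_isUnit.2 hUu, Matrix.mulVec_surjective_iff_isUnit.2 hUu⟩
  rw [← Equiv.sum_comp e (fun y => sgn (qf (P' *ᵥ Sum.elim 0 y)))]
  refine Finset.sum_congr rfl fun y _ => congrArg sgn ?_
  obtain ⟨w, rfl⟩ := Matrix.mulVec_surjective_iff_isUnit.2 hN2 y
  change _ = qf (P' *ᵥ Sum.elim 0 (U *ᵥ (N2 *ᵥ w)))
  rw [h2, Matrix.mulVec_mulVec w U N2, hUc, ← Matrix.mulVec_mulVec, h2', Matrix.mulVec_mulVec _ N2' U, ← hUc,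
    ← Matrix.mulVec_mulVec, Matrix.mulVec_mulVec w G2' U, Matrix.dotProduct_mulVec (U *ᵥ (N2 *ᵥ w)),
    ← Matrix.vecMul_transpose U, Matrix.vecMul_vecMul, ← Matrix.mul_assoc, hU, ← Matrix.dotProduct_mulVec]

theorem card_second_le {j r : ℕ} (f : Finset (Fin r → F[X]))
    (hf : ∀ h ∈ f, (∀ i, (h i).Monic ∧ (h i).coeff 0 ≠ 0) ∧ (∑ i : Fin r, ((i : ℕ) + 1) * (h i).natDegree) = 2 * j ∧
      ∀ i, conjRev (RingHom.id F) (h i) = h i ∧ (h i).eval 1 ≠ 0) :
    f.card ≤ Fintype.card F ^ j := by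
  classical
  exact (Finset.card_le_card fun h hh => Finset.mem_filter.2 ⟨mem_tuples (hf h hh).1 (hf h hh).2.1, (hf h hh).2.2⟩).trans
    ((card_tuples_no_one r j).trans (tupleCount_le r j))

/-- Pairwise non-conjugate isometries, counted through the normal forms. -/
theorem card_classes_le {n : ℕ} (hm : m = n + n) (halt : ∀ v, v ⬝ᵥ J *ᵥ v = 0) (hJu : IsUnit J)
    (hqadd : o = true → ∀ u v, qf (u + v) = qf u + qf v + u ⬝ᵥ J *ᵥ v)
    (hqsmul : o = true → ∀ (c : F) v, qf (c • v) = c ^ 2 * qf v) (hsgn : o = true → signTotal qf ≠ 0)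
    {K : Type u} [Finite K] (A : K → Matrix (Fin m) (Fin m) F) (hA : ∀ k, (A k)ᵀ * J * A k = J)
    (hqA : o = true → ∀ k v, qf (A k *ᵥ v) = qf v)
    (hinj : ∀ k k' (Z : Matrix (Fin m) (Fin m) F), Zᵀ * J * Z = J → (o = true → ∀ v, qf (Z *ᵥ v) = qf v) →
      Z * A k = A k' * Z → k = k') :
    ∃ T : Finset (Multiset Atom), (∀ t ∈ T, NormalM o t ∧ (o = true → bpar t = false)) ∧
      (Nat.card K : ℝ) ≤ (Fintype.card F : ℝ) ^ n * ∑ t ∈ T, (1 / 2 : ℝ) ^ wt t := by
  classical
  haveI : Fintype K := Fintype.ofFinite K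
  choose S _ using fun k => (⟨(exists_split halt hJu hqadd hqsmul (hA k) (fun ho => hqA ho k)).some, trivial⟩ :
    ∃ _ : Split o J qf (A k), True)
  choose L hL hn using fun k => (S k).U.exists_normal_dec (S k).piece
  choose s hg hd hb2 hsum hok using fun k => exists_second_divisors (S k)
  let h : K → Fin m → F[X] := fun k i => exponentPoly (s k) i
  let u : K → Multiset Atom := fun k => (L k : Multiset Atom)
  let u' : K → Multiset Atom := fun k => if o = true ∧ bpar (u k) = true then toggle (u k) else u k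
  have hu : ∀ k, NormalM o (u k) ∧ 2 * wt (u k) = (S k).a := fun k => by
    refine ⟨normalM_coe (hL k).valid (hn k), ?_⟩
    have := (hL k).finrank
    rw [finrank_top, Module.finrank_fin_fun] at this
    simp only [u, wt_coe]
    omega
  have hu' : ∀ k, NormalM o (u' k) ∧ (o = true → bpar (u' k) = false) ∧ wt (u' k) = wt (u k) := fun k => by
    by_cases hc : o = true ∧ bpar (u k) = true
    · obtain ⟨rfl, hp⟩ := hc
      obtain ⟨t1, t2, t3, -⟩ := toggle_odd (hu k).1 hp
      simp only [u', hp, and_self, if_true]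
      exact ⟨t1, fun _ => t2, t3⟩
    · simp only [u', if_neg hc]
      exact ⟨(hu k).1, fun ho => by simpa [ho] using hc, trivial⟩
  have key : ∀ k k', u' k = u' k' → h k = h k' → k = k' := by
    intro k k' hue hhe
    have hb : (S k).b = (S k').b := by
      rw [← hsum k, ← hsum k']
      exact Finset.sum_congr rfl fun i _ => by rw [show exponentPoly (s k) i = exponentPoly (s k') i from congrFun hhe i]
    have hs : s k = s k' := GoodDivisors.eq_of_exponentPoly_eq (hg k) (hg k') (hb2 k) (hb2 k') fun i => congrFun hhe i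
    have hd' : HasDivisors ((S k').N2 + 1) (s k) := hs ▸ hd k'
    have hpar : o = true → parity (L k) = parity (L k') := fun ho => by
      obtain ⟨c, hc, e⟩ := (S k).signTotal_eq ho (hqadd ho) (hL k)
      obtain ⟨c', hc', e'⟩ := (S k').signTotal_eq ho (hqadd ho) (hL k')
      rw [signSecond_eq halt ho (hqadd ho) (hqA ho k) (hqA ho k') (S k) (S k') hb (hd k) hd'] at e
      have hne := hsgn ho
      rw [e] at e' hne
      have h2 := mul_right_cancel₀ (right_ne_zero_of_mul hne) e'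
      cases hp : parity (L k) <;> cases hp' : parity (L k') <;> simp [sgnBit, hp, hp'] at h2 ⊢ <;> omega
    have hu2 : u k = u k' := by
      by_cases ho : o = true
      · have hbp : bpar (u k) = bpar (u k') := by simp only [u, bpar_coe, hpar ho]
        simp only [u'] at hue
        by_cases hp : bpar (u k) = true
        · rw [if_pos ⟨ho, hp⟩, if_pos ⟨ho, hbp ▸ hp⟩] at hue
          have e1 := (toggle_odd (ho ▸ (hu k).1) hp).2.2.2
          have e2 := (toggle_odd (ho ▸ (hu k').1) (hbp ▸ hp)).2.2.2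
          rw [← e1, hue, e2]
        · rw [if_neg fun hh => hp hh.2, if_neg fun hh => hp (hbp.symm ▸ hh.2)] at hue
          exact hue
      · simpa [u', ho] using hue
    obtain ⟨Z, z1, z2, z3⟩ := exists_conj halt hqadd (fun ho => hqA ho k) (fun ho => hqA ho k') (S k) (S k') (hL k)
      ((hL k').perm (Multiset.coe_eq_coe.1 hu2).symm) hb (hd k) hd'
    exact hinj k k' Z z1 z3 z2
  refine ⟨Finset.univ.image u', fun t ht => ?_, ?_⟩
  · obtain ⟨k, -, rfl⟩ := Finset.mem_image.1 ht
    exact ⟨(hu' k).1, (hu' k).2.1⟩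
  rw [Nat.card_eq_fintype_card, ← Finset.card_univ,
    Finset.card_eq_sum_card_fiberwise (f := u') (t := Finset.univ.image u') fun k hk => Finset.mem_image_of_mem u' hk,
    Finset.mul_sum]
  push_cast
  refine Finset.sum_le_sum fun t ht => ?_
  obtain ⟨k₀, -, rfl⟩ := Finset.mem_image.1 ht
  set t := u' k₀
  have hwt : ∀ k, u' k = t → (S k).b = 2 * (n - wt t) ∧ wt t ≤ n := fun k hk => by
    have := (S k).hab; have := (hu k).2; have := (hu' k).2.2
    rw [hk] at this
    omega
  have hle : (Finset.univ.filter fun k => u' k = t).card ≤ Fintype.card F ^ (n - wt t) := by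
    rw [← Finset.card_image_of_injOn (f := h) fun k hk k' hk' he => key k k'
      ((Finset.mem_filter.1 hk).2.trans (Finset.mem_filter.1 hk').2.symm) he]
    refine card_second_le _ fun z hz => ?_
    obtain ⟨k, hk, rfl⟩ := Finset.mem_image.1 hz
    exact ⟨fun i => ⟨GoodDivisors.monic_exponentPoly (hg k) i, GoodDivisors.coeff_zero_exponentPoly (hg k) i⟩,
      (hsum k).trans (hwt k (Finset.mem_filter.1 hk).2).1, hok k⟩
  refine le_trans (Nat.cast_le.2 hle) ?_
  have hq : (2 : ℝ) ≤ Fintype.card F := by exact_mod_cast Fintype.one_lt_card (α := F)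
  obtain ⟨e, he⟩ := Nat.exists_eq_add_of_le (hwt k₀ rfl).2
  rw [he, Nat.add_sub_cancel_left, pow_add, one_div, inv_pow]
  push_cast
  rw [mul_comm, ← mul_assoc, inv_mul_eq_div]
  refine le_mul_of_one_le_left (by positivity) ?_
  rw [one_le_div (by positivity)]
  exact pow_le_pow_left₀ (by norm_num) hq _

end CfsgLib.CharTwoClassNum
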