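import Cfsg.Agent.Lib.CharTwoClassNum.Normal

/-!
Weighted sums over normal forms, computed level by level.
-/

set_option autoImplicit false

namespace CfsgLib.CharTwoClassNum

open Finset

namespace Atom

/-- Level of an atom. -/
def idx : Atom → ℕ
  | .cyc k _ => k
  | .pair m _ => m / 2

end Atom

/-- Half of the dimension of a multiset of atoms. -/
def wt (s : Multiset Atom) : ℕ := (s.map Atom.hdim).sum

/-- Parity of the bits of a multiset of atoms. -/
def bpar (s : Multiset Atom) : Bool := decide (s.countP (fun a => a.bit = true) % 2 = 1)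

theorem bpar_coe (L : List Atom) : bpar (L : Multiset Atom) = parity L := by
  induction L with
  | nil => rfl
  | cons a L ih =>
    rw [show parity (a :: L) = xor a.bit (parity L) from rfl, ← ih, bpar, bpar, ← Multiset.cons_coe,
      Multiset.countP_cons]
    generalize L.countP (fun a => decide (a.bit = true)) = A at *
    generalize Multiset.countP (fun a => a.bit = true) (L : Multiset Atom) = B
    cases a.bit <;> rcases Nat.mod_two_eq_zero_or_one B with h | h <;> simp [Nat.add_mod, h]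

theorem wt_coe (L : List Atom) : wt (L : Multiset Atom) = (L.map Atom.hdim).sum := by simp [wt]

/-- Normality for multisets. -/
structure NormalM (o : Bool) (s : Multiset Atom) : Prop where
  valid : ∀ a ∈ s, a.Valid o
  pair_le : ∀ m, s.count (.pair m true) ≤ 1
  cyc_le : ∀ k, s.count (.cyc k false) + s.count (.cyc k true) ≤ 2
  cyc_bit : ∀ k, s.count (.cyc k true) ≤ 1
  pair_free : ∀ k e, Atom.pair (2 * k + 1) true ∈ s → Atom.cyc k e ∉ s
  cyc_free : ∀ k e, Atom.cyc (k + 1) true ∈ s → Atom.cyc k e ∉ s ∧ Atom.pair (2 * k + 1) e ∉ s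

theorem normalM_coe {o : Bool} {L : List Atom} (hv : ∀ a ∈ L, a.Valid o) (h : Normal L) :
    NormalM o (L : Multiset Atom) :=
  ⟨hv, by simpa using h.pair_le, by simpa using h.cyc_le, by simpa using h.cyc_bit,
    by simpa using h.pair_free, by simpa using h.cyc_free⟩

theorem NormalM.filter {o : Bool} {s : Multiset Atom} (h : NormalM o s) (p : Atom → Prop) [DecidablePred p] :
    NormalM o (s.filter p) := by
  have hle : ∀ a, (s.filter p).count a ≤ s.count a := fun a => Multiset.count_le_of_le a (Multiset.filter_le p s)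
  exact ⟨fun a ha => h.valid a (Multiset.mem_of_mem_filter ha), fun m => (hle _).trans (h.pair_le m),
    fun k => le_trans (Nat.add_le_add (hle _) (hle _)) (h.cyc_le k), fun k => (hle _).trans (h.cyc_bit k),
    fun k e hp hc => h.pair_free k e (Multiset.mem_of_mem_filter hp) (Multiset.mem_of_mem_filter hc),
    fun k e hp => ⟨fun hc => (h.cyc_free k e (Multiset.mem_of_mem_filter hp)).1 (Multiset.mem_of_mem_filter hc),
      fun hc => (h.cyc_free k e (Multiset.mem_of_mem_filter hp)).2 (Multiset.mem_of_mem_filter hc)⟩⟩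

/-- The top level of a multiset carries a chain. -/
def Active (K : ℕ) (s : Multiset Atom) : Prop := ∃ e, Atom.cyc K e ∈ s ∨ Atom.pair (2 * K + 1) e ∈ s

/-- Bounds for the weighted sums over normal forms up to level `K`, by state and parity. -/
def Bound (o : Bool) (x : ℝ) (K : ℕ) (H : Bool → Bool → ℝ) : Prop :=
  ∀ (σ π : Bool) (S : Finset (Multiset Atom)),
    (∀ s ∈ S, NormalM o s ∧ (∀ a ∈ s, a.idx ≤ K) ∧ (σ = true ↔ Active K s) ∧ bpar s = π) →
    ∑ s ∈ S, x ^ wt s ≤ H σ π

theorem Bound.mono {o : Bool} {x : ℝ} {K : ℕ} {H H' : Bool → Bool → ℝ} (h : Bound o x K H)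
    (hle : ∀ σ π, H σ π ≤ H' σ π) : Bound o x K H' :=
  fun σ π S hS => (h σ π S hS).trans (hle σ π)

theorem Bound.nonneg {o : Bool} {x : ℝ} {K : ℕ} {H : Bool → Bool → ℝ} (h : Bound o x K H) (σ π : Bool) :
    0 ≤ H σ π := by simpa using h σ π ∅ (by simp)

theorem sum_pow_le {y : ℝ} (h0 : 0 ≤ y) (h1 : y < 1) (M : ℕ) : ∑ n ∈ range M, y ^ n ≤ 1 / (1 - y) := by
  rw [geom_sum_eq (ne_of_lt h1), ← neg_div_neg_eq, neg_sub, neg_sub]
  exact div_le_div_of_nonneg_right (by linarith [pow_nonneg h0 M]) (by linarith)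

theorem sum_pow_succ_le {y : ℝ} (h0 : 0 ≤ y) (h1 : y < 1) (M : ℕ) :
    ∑ n ∈ range M, y ^ (n + 1) ≤ y / (1 - y) := by
  rw [Finset.sum_congr rfl fun n _ => pow_succ' y n, ← Finset.mul_sum, div_eq_mul_one_div]
  exact mul_le_mul_of_nonneg_left (sum_pow_le h0 h1 M) h0

/-- Multiplicities at level `k`. -/
def params (k : ℕ) (s : Multiset Atom) : ℕ × (ℕ × ℕ) × (ℕ × ℕ) :=
  (s.count (.pair (2 * k) false), (s.count (.cyc k false), s.count (.cyc k true)),
    (s.count (.pair (2 * k + 1) false), s.count (.pair (2 * k + 1) true)))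

theorem wt_split {k : ℕ} {o : Bool} {s : Multiset Atom} (hs : NormalM o s) (hk : ∀ a ∈ s, a.idx ≤ k + 1) :
    wt s = wt (s.filter fun a => a.idx ≤ k) + ((2 * (k + 1)) * (params (k + 1) s).1 +
      (k + 1) * ((params (k + 1) s).2.1.1 + (params (k + 1) s).2.1.2) +
      (2 * (k + 1) + 1) * ((params (k + 1) s).2.2.1 + (params (k + 1) s).2.2.2)) := by
  conv_lhs => rw [wt, ← Multiset.filter_add_not (fun a => a.idx ≤ k) s, Multiset.map_add, Multiset.sum_add]
  rw [← wt]
  congr 1
  have hmem : ∀ a ∈ s.filter (fun a => ¬a.idx ≤ k), a = .pair (2 * (k + 1)) false ∨ a = .cyc (k + 1) false ∨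
      a = .cyc (k + 1) true ∨ a = .pair (2 * (k + 1) + 1) false ∨ a = .pair (2 * (k + 1) + 1) true := by
    intro a ha
    rw [Multiset.mem_filter] at ha
    have h1 := hk a ha.1
    have h2 := hs.valid a ha.1
    cases a with
    | cyc l e =>
      simp only [Atom.idx] at h1 ha
      obtain rfl : l = k + 1 := by omega
      cases e <;> simp
    | pair m e =>
      simp only [Atom.idx] at h1 ha
      rcases Nat.even_or_odd' m with ⟨l, rfl | rfl⟩
      · obtain rfl : l = k + 1 := by omega
        cases e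
        · simp
        · exact absurd (h2.2 rfl).1 (by omega)
      · obtain rfl : l = k + 1 := by omega
        cases e <;> simp
  have hc : ∀ a : Atom, k < a.idx → (s.filter fun a => ¬a.idx ≤ k).count a = s.count a := fun a ha =>
    Multiset.count_filter_of_pos (by omega)
  rw [Finset.sum_multiset_map_count]
  refine (Finset.sum_subset (s₂ := {Atom.pair (2 * (k + 1)) false, .cyc (k + 1) false, .cyc (k + 1) true,
    .pair (2 * (k + 1) + 1) false, .pair (2 * (k + 1) + 1) true}) ?_ ?_).trans ?_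
  · intro a ha
    simpa using hmem a (Multiset.mem_toFinset.1 ha)
  · intro a _ ha
    rw [Multiset.mem_toFinset, ← Multiset.count_eq_zero] at ha
    rw [ha, zero_nsmul]
  rw [Finset.sum_insert (by simp), Finset.sum_insert (by simp), Finset.sum_insert (by simp),
    Finset.sum_insert (by simp), Finset.sum_singleton, hc _ (by simp [Atom.idx]), hc _ (by simp [Atom.idx]),
    hc _ (by simp [Atom.idx]), hc _ (by simp only [Atom.idx]; omega), hc _ (by simp only [Atom.idx]; omega)]
  simp only [smul_eq_mul, Atom.hdim, params]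
  ring

theorem bpar_split {k : ℕ} {o : Bool} {s : Multiset Atom} (hs : NormalM o s) (hk : ∀ a ∈ s, a.idx ≤ k + 1) :
    bpar s = xor (bpar (s.filter fun a => a.idx ≤ k))
      (decide (((params (k + 1) s).2.1.2 + (params (k + 1) s).2.2.2) % 2 = 1)) := by
  have h : (s.filter fun a => ¬a.idx ≤ k).countP (fun a => a.bit = true) =
      (params (k + 1) s).2.1.2 + (params (k + 1) s).2.2.2 := by
    rw [Multiset.countP_eq_card_filter, Multiset.filter_filter]
    have : (s.filter fun a => a.bit = true ∧ ¬a.idx ≤ k) =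
        (s.filter fun a => a = Atom.cyc (k + 1) true) + s.filter fun a => a = Atom.pair (2 * (k + 1) + 1) true := by
      rw [Multiset.filter_add_filter, (Multiset.filter_eq_nil (p := fun a => a = Atom.cyc (k + 1) true ∧ a = Atom.pair (2 * (k + 1) + 1) true)).2
        (fun a _ h => absurd (h.1.symm.trans h.2) (by simp)), add_zero]
      refine Multiset.filter_congr fun a ha => ?_
      have h1 := hk a ha
      have h2 := hs.valid a ha
      cases a with
      | cyc l e => simp only [Atom.idx] at h1 ⊢; cases e <;> simp [Atom.bit]; omega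
      | pair m e =>
        simp only [Atom.idx] at h1 ⊢
        cases e <;> simp [Atom.bit]
        have := (h2.2 rfl).1
        omega
    rw [this, Multiset.card_add, Multiset.filter_eq', Multiset.filter_eq', Multiset.card_replicate,
      Multiset.card_replicate]
    rfl
  conv_lhs => rw [bpar, ← Multiset.filter_add_not (fun a => a.idx ≤ k) s, Multiset.countP_add, h]
  rw [bpar]
  generalize (s.filter fun a => a.idx ≤ k).countP (fun a => a.bit = true) = A
  generalize (params (k + 1) s).2.1.2 + (params (k + 1) s).2.2.2 = B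
  by_cases hA : A % 2 = 1 <;> by_cases hB : B % 2 = 1 <;> simp [hA, hB] <;> omega

theorem params_inj {k : ℕ} {o : Bool} {s t : Multiset Atom} (hs : NormalM o s) (ht : NormalM o t)
    (hks : ∀ a ∈ s, a.idx ≤ k + 1) (hkt : ∀ a ∈ t, a.idx ≤ k + 1)
    (h1 : (s.filter fun a => a.idx ≤ k) = t.filter fun a => a.idx ≤ k)
    (h2 : params (k + 1) s = params (k + 1) t) : s = t := by
  refine Multiset.ext.2 fun a => ?_
  by_cases ha : a.idx ≤ k
  · have := congrArg (Multiset.count a) h1
    rwa [Multiset.count_filter_of_pos (p := fun a : Atom => a.idx ≤ k) ha,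
      Multiset.count_filter_of_pos (p := fun a : Atom => a.idx ≤ k) ha] at this
  by_cases hb : a.idx ≤ k + 1
  swap
  · rw [Multiset.count_eq_zero.2 fun h => hb (hks a h), Multiset.count_eq_zero.2 fun h => hb (hkt a h)]
  simp only [params, Prod.mk.injEq] at h2
  obtain ⟨e1, ⟨e2, e3⟩, e4, e5⟩ := h2
  cases a with
  | cyc l e =>
    simp only [Atom.idx] at ha hb
    obtain rfl : l = k + 1 := by omega
    cases e <;> assumption
  | pair m e =>
    simp only [Atom.idx] at ha hb
    rcases Nat.even_or_odd' m with ⟨l, rfl | rfl⟩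
    · obtain rfl : l = k + 1 := by omega
      cases e
      · assumption
      · have hno : ∀ {u}, NormalM o u → u.count (Atom.pair (2 * (k + 1)) true) = 0 := fun hu =>
          Multiset.count_eq_zero.2 fun h => absurd ((hu.valid _ h).2 rfl).1 (by omega)
        rw [hno hs, hno ht]
    · obtain rfl : l = k + 1 := by omega
      cases e <;> assumption

/-- The next level. -/
noncomputable def step (o : Bool) (x : ℝ) (k : ℕ) (H : Bool → Bool → ℝ) : Bool → Bool → ℝ
  | false, π => 1 / (1 - x ^ (2 * k)) * (H false π + H true π)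
  | true, π => 1 / (1 - x ^ (2 * k)) *
      (x ^ (2 * k + 1) / (1 - x ^ (2 * k + 1)) * (H false π + H true π + (H false (!π) + H true (!π))) +
        (x ^ k + x ^ (2 * k)) * (1 / (1 - x ^ (2 * k + 1))) *
          (H false π + H true π + (if (o || decide (2 ≤ k)) then H false (!π) else 0)))

theorem Bound.step {o : Bool} {x : ℝ} (hx0 : 0 ≤ x) (hx1 : x < 1) {k : ℕ} {H : Bool → Bool → ℝ}
    (hH : Bound o x k H) : Bound o x (k + 1) (step o x (k + 1) H) := by
  classical
  intro σ π S hS
  let f : Multiset Atom → ℕ × (ℕ × ℕ) × (ℕ × ℕ) := params (k + 1)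
  obtain ⟨M, hM⟩ : ∃ M, ∀ s ∈ S, ∀ a, s.count a < M :=
    ⟨(S.sup Multiset.card) + 1, fun s hs a => Nat.lt_succ_of_le
      ((Multiset.count_le_card a s).trans (Finset.le_sup (f := Multiset.card) hs))⟩
  -- the bound for the lower part
  let G : ℕ × (ℕ × ℕ) × (ℕ × ℕ) → ℝ := fun p =>
    if p.2.1.2 = 0 ∨ (o || decide (2 ≤ k + 1)) = true then
      (if p.2.1.2 = 0 then H true (xor π (decide ((p.2.1.2 + p.2.2.2) % 2 = 1))) else 0) +
        H false (xor π (decide ((p.2.1.2 + p.2.2.2) % 2 = 1)))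
    else 0
  have hfib : ∀ p, ∑ s ∈ S.filter (fun s => f s = p), x ^ wt (s.filter fun a => a.idx ≤ k) ≤ G p := by
    intro p
    rcases (S.filter fun s => f s = p).eq_empty_or_nonempty with he | ⟨s₀, hs₀⟩
    · rw [he, Finset.sum_empty]
      simp only [G]
      split_ifs <;> linarith [hH.nonneg true (xor π (decide ((p.2.1.2 + p.2.2.2) % 2 = 1))),
        hH.nonneg false (xor π (decide ((p.2.1.2 + p.2.2.2) % 2 = 1)))]
    rw [Finset.mem_filter] at hs₀
    have hok : p.2.1.2 = 0 ∨ (o || decide (2 ≤ k + 1)) = true := by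
      rcases Nat.eq_zero_or_pos p.2.1.2 with h | h
      · exact Or.inl h
      · refine Or.inr ?_
        rw [← hs₀.2] at h
        have := ((hS s₀ hs₀.1).1.valid _ (Multiset.count_pos.1 h)).2 rfl
        rcases this with h' | h'
        · simp [h']
        · simp; omega
    simp only [G, if_pos hok]
    rw [← Finset.sum_image (f := fun t => x ^ wt t) fun s hs t ht h => ?_]
    swap
    · simp only [Finset.coe_filter, Set.mem_setOf_eq] at hs ht
      exact params_inj (hS s hs.1).1 (hS t ht.1).1 (hS s hs.1).2.1 (hS t ht.1).2.1 h (hs.2.trans ht.2.symm)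
    set T := (S.filter fun s => f s = p).image fun s => s.filter fun a => a.idx ≤ k
    have hT : ∀ t ∈ T, NormalM o t ∧ (∀ a ∈ t, a.idx ≤ k) ∧
        bpar t = xor π (decide ((p.2.1.2 + p.2.2.2) % 2 = 1)) ∧ (0 < p.2.1.2 → ¬Active k t) := by
      intro t ht
      obtain ⟨s, hs, rfl⟩ := Finset.mem_image.1 ht
      rw [Finset.mem_filter] at hs
      obtain ⟨h1, h2, -, h4⟩ := hS s hs.1
      refine ⟨h1.filter _, fun a ha => (Multiset.mem_filter.1 ha).2, ?_, fun hp => ?_⟩
      · have := bpar_split h1 h2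
        rw [h4, show params (k + 1) s = p from hs.2] at this
        rw [this, Bool.xor_assoc, Bool.xor_self, Bool.xor_false]
      · rintro ⟨e, he | he⟩
        · rw [← hs.2] at hp
          exact (h1.cyc_free k e (Multiset.count_pos.1 hp)).1 (Multiset.mem_of_mem_filter he)
        · rw [← hs.2] at hp
          exact (h1.cyc_free k e (Multiset.count_pos.1 hp)).2 (Multiset.mem_of_mem_filter he)
    rw [← Finset.sum_filter_add_sum_filter_not T (fun t => Active k t)]
    refine add_le_add ?_ (hH false _ _ fun t ht => ?_)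
    · split_ifs with h
      · refine hH true _ _ fun t ht => ?_
        rw [Finset.mem_filter] at ht
        exact ⟨(hT t ht.1).1, (hT t ht.1).2.1, by simp [ht.2], (hT t ht.1).2.2.1⟩
      · rw [Finset.filter_eq_empty_iff.2 fun t ht => (hT t ht).2.2.2 (Nat.pos_of_ne_zero h), Finset.sum_empty]
    · rw [Finset.mem_filter] at ht
      exact ⟨(hT t ht.1).1, (hT t ht.1).2.1, by simp [ht.2], (hT t ht.1).2.2.1⟩
  have hG0 : ∀ p, 0 ≤ G p := fun p => (Finset.sum_nonneg fun s _ => pow_nonneg hx0 _).trans (hfib p)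
  -- the sum over the multiplicities
  let Wt : ℕ × (ℕ × ℕ) × (ℕ × ℕ) → ℝ := fun p => (x ^ (2 * (k + 1))) ^ p.1 *
    ((x ^ (k + 1)) ^ (p.2.1.1 + p.2.1.2) * ((x ^ (2 * (k + 1) + 1)) ^ (p.2.2.1 + p.2.2.2) * G p))
  have hWt0 : ∀ p, 0 ≤ Wt p := fun p => by
    simp only [Wt]; exact mul_nonneg (by positivity) (mul_nonneg (by positivity) (mul_nonneg (by positivity) (hG0 p)))
  have hmain : ∀ P : Finset (ℕ × (ℕ × ℕ) × (ℕ × ℕ)), (∀ s ∈ S, f s ∈ P) → ∑ s ∈ S, x ^ wt s ≤ ∑ p ∈ P, Wt p := by
    intro P hP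
    rw [← Finset.sum_fiberwise_of_maps_to hP]
    refine Finset.sum_le_sum fun p _ => ?_
    calc ∑ s ∈ S.filter (fun s => f s = p), x ^ wt s
        = (x ^ (2 * (k + 1))) ^ p.1 * ((x ^ (k + 1)) ^ (p.2.1.1 + p.2.1.2) *
            ((x ^ (2 * (k + 1) + 1)) ^ (p.2.2.1 + p.2.2.2) *
              ∑ s ∈ S.filter (fun s => f s = p), x ^ wt (s.filter fun a => a.idx ≤ k))) := by
          simp only [Finset.mul_sum]
          refine Finset.sum_congr rfl fun s hs => ?_
          rw [Finset.mem_filter] at hs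
          rw [wt_split (hS s hs.1).1 (hS s hs.1).2.1, show params (k + 1) s = p from hs.2, pow_add, pow_add,
            pow_add, pow_mul, pow_mul, pow_mul]
          ring
      _ ≤ Wt p := mul_le_mul_of_nonneg_left (mul_le_mul_of_nonneg_left
          (mul_le_mul_of_nonneg_left (hfib p) (by positivity)) (by positivity)) (by positivity)
  have hfacts : ∀ s ∈ S, (f s).1 < M ∧ (f s).2.2.1 < M ∧ (f s).2.1.1 + (f s).2.1.2 ≤ 2 ∧ (f s).2.1.2 ≤ 1 ∧
      (f s).2.2.2 ≤ 1 ∧ ((f s).2.2.2 = 1 → (f s).2.1.1 = 0 ∧ (f s).2.1.2 = 0) ∧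
      (σ = true ↔ 0 < (f s).2.1.1 + (f s).2.1.2 + (f s).2.2.1 + (f s).2.2.2) := by
    intro s hs
    obtain ⟨h1, -, h3, -⟩ := hS s hs
    refine ⟨hM s hs _, hM s hs _, h1.cyc_le _, h1.cyc_bit _, h1.pair_le _, fun h => ?_, ?_⟩
    · have hp : Atom.pair (2 * (k + 1) + 1) true ∈ s := Multiset.count_pos.1 (by simp only [f, params] at h; omega)
      exact ⟨Multiset.count_eq_zero.2 (h1.pair_free _ _ hp), Multiset.count_eq_zero.2 (h1.pair_free _ _ hp)⟩
    · rw [h3]
      simp only [f, params]
      constructor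
      · rintro ⟨e, he | he⟩ <;> have := Multiset.count_pos.2 he <;> cases e <;> omega
      · intro h
        by_contra hne
        simp only [Active, not_exists, not_or] at hne
        have h4 := Multiset.count_eq_zero.2 (hne false).1
        have h5 := Multiset.count_eq_zero.2 (hne true).1
        have h6 := Multiset.count_eq_zero.2 (hne false).2
        have h7 := Multiset.count_eq_zero.2 (hne true).2
        omega
  have hy : ∀ n, 1 ≤ n → 0 ≤ x ^ n ∧ x ^ n < 1 := fun n hn =>
    ⟨pow_nonneg hx0 _, pow_lt_one₀ hx0 hx1 (by omega)⟩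
  obtain ⟨ha0, ha1⟩ := hy (2 * (k + 1)) (by omega)
  obtain ⟨hb0, hb1⟩ := hy (2 * (k + 1) + 1) (by omega)
  have hA : ∀ π', 0 ≤ H false π' + H true π' := fun π' => add_nonneg (hH.nonneg _ _) (hH.nonneg _ _)
  have hGval : ∀ a c e, G (a, (c, 0), (e, 0)) = H false π + H true π := fun a c e => by
    simp [G, add_comm]
  have hGval' : ∀ a e, G (a, (0, 0), (e, 1)) = H false (!π) + H true (!π) := fun a e => by
    simp [G, add_comm]
  have hGbit : ∀ a c e, G (a, (c, 1), (e, 0)) = if (o || decide (2 ≤ k + 1)) = true then H false (!π) else 0 :=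
    fun a c e => by simp [G]
  set u := if (o || decide (2 ≤ k + 1)) = true then H false (!π) else 0 with hu
  have hu0 : 0 ≤ u := by rw [hu]; split_ifs; exacts [hH.nonneg _ _, le_rfl]
  cases σ with
  | false =>
    refine (hmain ((range M).image fun a => (a, ((0, 0) : ℕ × ℕ), ((0, 0) : ℕ × ℕ))) fun s hs => ?_).trans ?_
    · obtain ⟨h1, -, -, -, -, -, h7⟩ := hfacts s hs
      simp only [Bool.false_eq_true, false_iff, not_lt, Nat.le_zero] at h7
      refine Finset.mem_image.2 ⟨(f s).1, Finset.mem_range.2 h1, ?_⟩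
      ext <;> simp <;> omega
    rw [Finset.sum_image fun a _ b _ h => by simpa using h]
    simp only [Wt, hGval, add_zero, pow_zero, one_mul]
    rw [← Finset.sum_mul, CharTwoClassNum.step]
    exact mul_le_mul_of_nonneg_right (sum_pow_le ha0 ha1 M) (hA π)
  | true =>
    let P1 := (range M).image fun b : ℕ => (((0, 0), (b + 1, 0)) : (ℕ × ℕ) × ℕ × ℕ)
    let P2 := (range M).image fun b : ℕ => (((0, 0), (b, 1)) : (ℕ × ℕ) × ℕ × ℕ)
    let P3 := (({(1, 0), (2, 0), (0, 1), (1, 1)} : Finset (ℕ × ℕ)) ×ˢ range M).image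
      fun q => ((q.1, (q.2, 0)) : (ℕ × ℕ) × ℕ × ℕ)
    refine (hmain (range M ×ˢ (P1 ∪ (P2 ∪ P3))) fun s hs => ?_).trans ?_
    · obtain ⟨h1, h2, h3, h4, h5, h6, h7⟩ := hfacts s hs
      simp only [true_iff] at h7
      rw [Finset.mem_product]
      refine ⟨Finset.mem_range.2 h1, ?_⟩
      generalize f s = p at *
      obtain ⟨a, ⟨c0, c1⟩, ⟨b0, b1⟩⟩ := p
      simp only at h2 h3 h4 h5 h6 h7 ⊢
      simp only [P1, P2, P3, Finset.mem_union, Finset.mem_image, Finset.mem_range, Finset.mem_product,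
        Finset.mem_insert, Finset.mem_singleton, Prod.mk.injEq, Prod.exists]
      by_cases hb : b1 = 1
      · obtain ⟨rfl, rfl⟩ := h6 hb
        exact Or.inr (Or.inl ⟨b0, h2, ⟨rfl, rfl⟩, rfl, hb.symm⟩)
      by_cases hc : c0 + c1 = 0
      · exact Or.inl ⟨b0 - 1, by omega, ⟨by omega, by omega⟩, by omega, by omega⟩
      · exact Or.inr (Or.inr ⟨c0, c1, b0, ⟨by omega, h2⟩, ⟨rfl, rfl⟩, rfl, by omega⟩)
    set V : ℝ := x ^ (2 * (k + 1) + 1) / (1 - x ^ (2 * (k + 1) + 1)) *
        (H false π + H true π + (H false (!π) + H true (!π))) +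
      (x ^ (k + 1) + x ^ (2 * (k + 1))) * (1 / (1 - x ^ (2 * (k + 1) + 1))) * (H false π + H true π + u)
    have hinner : ∀ a, ∑ q ∈ P1 ∪ (P2 ∪ P3), Wt (a, q) ≤ (x ^ (2 * (k + 1))) ^ a * V := by
      intro a
      have hun : ∀ A B : Finset ((ℕ × ℕ) × ℕ × ℕ), ∑ q ∈ A ∪ B, Wt (a, q) ≤ ∑ q ∈ A, Wt (a, q) + ∑ q ∈ B, Wt (a, q) :=
        fun A B => by
          rw [← Finset.sum_union_inter]
          exact le_add_of_nonneg_right (Finset.sum_nonneg fun q _ => hWt0 _)
      refine (hun _ _).trans ?_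
      refine (add_le_add le_rfl (hun _ _)).trans ?_
      simp only [P1, P2, P3]
      rw [Finset.sum_image fun p _ q _ h => by simpa using h, Finset.sum_image fun p _ q _ h => by simpa using h,
        Finset.sum_image fun p _ q _ h => by simpa [Prod.ext_iff] using h, Finset.sum_product,
        Finset.sum_insert (by simp), Finset.sum_insert (by simp), Finset.sum_insert (by simp), Finset.sum_singleton]
      simp only [Wt, hGval, hGval', hGbit, add_zero, zero_add, pow_zero, one_mul, ← hu]
      simp only [← Finset.mul_sum, ← mul_add, ← Finset.sum_mul]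
      refine mul_le_mul_of_nonneg_left ?_ (pow_nonneg ha0 a)
      have e1 := sum_pow_le hb0 hb1 M
      have e2 := sum_pow_succ_le hb0 hb1 M
      have hxk : 0 ≤ x ^ (k + 1) := pow_nonneg hx0 _
      have hx2 : (x ^ (k + 1)) ^ 2 = x ^ (2 * (k + 1)) := by rw [← pow_mul]; congr 1; ring
      have a1 := hA π
      have a2 := hA (!π)
      set Sg := ∑ n ∈ range M, (x ^ (2 * (k + 1) + 1)) ^ n
      set Sg1 := ∑ n ∈ range M, (x ^ (2 * (k + 1) + 1)) ^ (n + 1)
      have hB : 0 ≤ (x ^ (k + 1) + x ^ (2 * (k + 1))) * (H false π + H true π + u) := by positivity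
      have i1 := mul_le_mul_of_nonneg_right e2 a1
      have i2 := mul_le_mul_of_nonneg_right e2 a2
      have i3 := mul_le_mul_of_nonneg_right e1 hB
      rw [pow_one, hx2]
      simp only [V]
      nlinarith [i1, i2, i3]
    rw [Finset.sum_product]
    refine (Finset.sum_le_sum fun a _ => hinner a).trans ?_
    rw [← Finset.sum_mul, CharTwoClassNum.step]
    refine mul_le_mul_of_nonneg_right (sum_pow_le ha0 ha1 M) ?_
    simp only [V]
    have := (sub_pos.2 hb1).le
    exact add_nonneg (mul_nonneg (div_nonneg hb0 this) (add_nonneg (hA π) (hA (!π))))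
      (mul_nonneg (mul_nonneg (add_nonneg (pow_nonneg hx0 _) (pow_nonneg hx0 _)) (one_div_nonneg.2 this))
        (add_nonneg (hA π) hu0))

end CfsgLib.CharTwoClassNum
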