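import Cfsg.Agent.Lib.CharTwoClassNum.Atom

/-!
Orthogonal decompositions into atoms: existence, and the list of atoms determines the space up to isometry.
-/

set_option autoImplicit false

namespace CfsgLib.CharTwoClassNum

variable {F : Type*} [Field F] [CharP F 2]

namespace UForm

variable {o : Bool} {V : Type*} [AddCommGroup V] [Module F V] (A : UForm o F V)

/-- A subspace stable under `N` on which the alternating form is non-degenerate. -/
structure IsPiece (W : Submodule F V) : Prop where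
  stable : ∀ v ∈ W, A.N v ∈ W
  nondeg : ∀ v ∈ W, (∀ x ∈ W, A.B x v = 0) → v = 0

/-- The orthogonal of a subspace. -/
def orth (U : Submodule F V) : Submodule F V where
  carrier := {v | ∀ x ∈ U, A.B x v = 0}
  zero_mem' x _ := map_zero _
  add_mem' ha hb x hx := by rw [map_add, ha x hx, hb x hx, add_zero]
  smul_mem' c a ha x hx := by rw [map_smul, ha x hx, smul_zero]

omit [CharP F 2] in
theorem mem_orth {U : Submodule F V} {v : V} : v ∈ A.orth U ↔ ∀ x ∈ U, A.B x v = 0 := Iff.rfl

theorem orth_comm {U W : Submodule F V} (h : W ≤ A.orth U) : U ≤ A.orth W := fun x hx y hy => by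
  rw [A.symm]; exact h hy x hx

theorem IsRaw.isPiece {A : UForm o F V} {m w : ℕ} {g : Fin w → V} (hg : A.IsRaw m g) : A.IsPiece (A.span m g) :=
  ⟨fun _ => A.span_stable hg.killed, fun _ => hg.nondeg⟩

theorem orth_stable {m w : ℕ} {g : Fin w → V} (hg : A.IsRaw m g) {v : V} (hv : v ∈ A.orth (A.span m g)) :
    A.N v ∈ A.orth (A.span m g) := by
  refine A.orth_of_gens fun l s => ?_
  have h := A.B_pow_congr A (u := g l) (v := v) (u' := g l) (v' := 0) (hg.killed l) (hg.killed l)
    (fun a => by rw [hv _ (A.pow_mem_span hg.killed l a), map_zero]) 1 s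
  rwa [pow_one, map_zero, map_zero] at h

/-- The orthogonal of a block inside a piece is a piece, and a complement. -/
theorem IsPiece.split {A : UForm o F V} {W : Submodule F V} (hW : A.IsPiece W) {m w : ℕ} {g : Fin w → V}
    (hg : A.IsRaw m g) (hgW : A.span m g ≤ W) :
    A.IsPiece (W ⊓ A.orth (A.span m g)) ∧ A.span m g ⊔ (W ⊓ A.orth (A.span m g)) = W ∧
      A.span m g ⊓ (W ⊓ A.orth (A.span m g)) = ⊥ := by
  have hsup : A.span m g ⊔ (W ⊓ A.orth (A.span m g)) = W := by
    refine le_antisymm (sup_le hgW inf_le_left) fun v hv => ?_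
    obtain ⟨u, hu, horth⟩ := hg.exists_proj_span v
    refine Submodule.mem_sup.2 ⟨-u, Submodule.neg_mem _ hu, v + u, ⟨W.add_mem hv (hgW hu), horth⟩, by abel⟩
  refine ⟨⟨fun v hv => ⟨hW.stable v hv.1, A.orth_stable hg hv.2⟩, fun v hv h => ?_⟩, hsup, ?_⟩
  · refine hW.nondeg v hv.1 fun x hx => ?_
    rw [← hsup] at hx
    obtain ⟨y, hy, z, hz, rfl⟩ := Submodule.mem_sup.1 hx
    rw [map_add, LinearMap.add_apply, hv.2 y hy, h z hz, add_zero]
  · rw [Submodule.eq_bot_iff]
    rintro v ⟨hv, -, hv'⟩
    exact hg.nondeg hv hv'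

variable [Fintype F]

/-- An orthogonal decomposition into atoms. -/
inductive Dec : List Atom → Submodule F V → Prop
  | nil : Dec [] ⊥
  | cons {a : Atom} {L : List Atom} (g : Fin a.width → V) {W : Submodule F V} :
      A.IsAtom a g → Dec L W → W ≤ A.orth (A.span a.height g) → Dec (a :: L) (A.span a.height g ⊔ W)

theorem Dec.isPiece {A : UForm o F V} {L : List Atom} {W : Submodule F V} (h : A.Dec L W) : A.IsPiece W := by
  induction h with
  | nil => exact ⟨fun v hv => by simp_all, fun v hv _ => by simpa using hv⟩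
  | @cons a L g W hg _ horth ih =>
    have hU := hg.raw.isPiece
    refine ⟨fun v hv => ?_, fun v hv h => ?_⟩
    · obtain ⟨y, hy, z, hz, rfl⟩ := Submodule.mem_sup.1 hv
      rw [map_add]
      exact Submodule.add_mem_sup (hU.stable y hy) (ih.stable z hz)
    · obtain ⟨y, hy, z, hz, rfl⟩ := Submodule.mem_sup.1 hv
      have hy0 : y = 0 := hU.nondeg y hy fun x hx => by
        have := h x (Submodule.mem_sup_left hx)
        rwa [map_add, horth hz x hx, add_zero] at this
      subst hy0
      rw [zero_add] at *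
      exact ih.nondeg z hz fun x hx => h x (Submodule.mem_sup_right hx)

theorem Dec.valid {A : UForm o F V} {L : List Atom} {W : Submodule F V} (h : A.Dec L W) :
    ∀ a ∈ L, a.Valid o := by
  induction h with
  | nil => simp
  | cons g hg _ _ ih => exact List.forall_mem_cons.2 ⟨hg.valid, ih⟩

/-- Swapping and more generally permuting the atoms. -/
theorem Dec.perm {A : UForm o F V} {L L' : List Atom} (hp : L.Perm L') :
    ∀ {W : Submodule F V}, A.Dec L W → A.Dec L' W := by
  induction hp with
  | nil => exact fun h => h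
  | @cons a l l' _ ih =>
    intro W h
    cases h with
    | cons g hg hd ho => exact Dec.cons g hg (ih hd) ho
  | @swap a b l =>
    intro W h
    cases h with
    | @cons _ _ g W hg hd ho =>
      cases hd with
      | @cons _ _ g' W hg' hd' ho' =>
        rw [sup_left_comm]
        refine Dec.cons g' hg' (Dec.cons g hg hd' (le_trans le_sup_right ho)) (sup_le ?_ ho')
        exact A.orth_comm (le_trans le_sup_left ho)
  | trans _ _ ih1 ih2 => exact fun h => ih2 (ih1 h)

variable [FiniteDimensional F V]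

theorem Dec.finrank {A : UForm o F V} {L : List Atom} {W : Submodule F V} (h : A.Dec L W) :
    Module.finrank F W = 2 * (L.map Atom.hdim).sum := by
  induction h with
  | nil => simp
  | @cons a L g W hg _ ho ih =>
    have hdis : A.span a.height g ⊓ W = ⊥ := by
      rw [Submodule.eq_bot_iff]
      rintro v ⟨hv, hvW⟩
      exact hg.raw.nondeg hv (ho hvW)
    have h := Submodule.finrank_sup_add_finrank_inf_eq (A.span a.height g) W
    rw [hdis, finrank_bot, add_zero, hg.raw.finrank_span, ih, a.width_mul_height] at h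
    rw [h, List.map_cons, List.sum_cons, mul_add]

theorem exists_dec {W : Submodule F V} (hW : A.IsPiece W) : ∃ L, A.Dec L W := by
  induction hd : Module.finrank F W using Nat.strong_induction_on generalizing W with
  | _ d ih =>
    classical
    by_cases hbot : W = ⊥
    · subst hbot; exact ⟨[], Dec.nil⟩
    obtain ⟨v₁, hv₁, hv₁0⟩ := Submodule.exists_mem_ne_zero_of_ne_bot hbot
    have hex : ∃ M, ∀ v ∈ W, (A.N ^ M) v = 0 := by
      obtain ⟨M, hM⟩ := A.nil
      exact ⟨M, fun v _ => by rw [hM, LinearMap.zero_apply]⟩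
    obtain ⟨M, hM, hmin⟩ : ∃ M, (∀ v ∈ W, (A.N ^ M) v = 0) ∧ ∀ M' < M, ∃ v ∈ W, (A.N ^ M') v ≠ 0 :=
      ⟨Nat.find hex, Nat.find_spec hex, fun M' h => by
        have := Nat.find_min hex h
        push Not at this
        exact this⟩
    have hM0 : 1 ≤ M := Nat.pos_of_ne_zero fun h => hv₁0 (by simpa [h] using hM v₁ hv₁)
    obtain ⟨u, hu, hu0⟩ := hmin (M - 1) (by omega)
    have hstab : ∀ (i : ℕ), ∀ v ∈ W, (A.N ^ i) v ∈ W := by
      intro i
      induction i with
      | zero => exact fun v hv => by simpa using hv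
      | succ i ihi => exact fun v hv => by rw [A.pow_succ_apply]; exact hW.stable _ (ihi v hv)
    obtain ⟨a, g, hat, hgW⟩ : ∃ (a : Atom) (g : Fin a.width → V), A.IsAtom a g ∧ A.span a.height g ≤ W := by
      by_cases hsq : ∃ x ∈ W, A.B ((A.N ^ (M - 1)) x) x ≠ 0
      · obtain ⟨x, hx, hxx⟩ := hsq
        obtain ⟨k, rfl⟩ : ∃ k, M = 2 * k := by
          rcases Nat.even_or_odd' M with ⟨k, h | h⟩
          · exact ⟨k, h⟩
          · subst h
            exact absurd (A.top_self_odd (hM x hx)) (by simpa using hxx)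
        obtain ⟨c, hc⟩ := exists_sqrt (A.B ((A.N ^ (2 * k - 1)) x) x)⁻¹
        have hg : A.IsRaw (2 * k) (fun _ : Fin 1 => c • x) := by
          refine ⟨hM0, fun _ => by rw [map_smul, hM x hx, smul_zero], fun i j => ?_⟩
          rw [map_smul, map_smul, map_smul, LinearMap.smul_apply, smul_eq_mul, smul_eq_mul, pat,
            if_pos (Subsingleton.elim _ _), ← mul_assoc, ← sq, hc, inv_mul_cancel₀ hxx]
        obtain ⟨g', hg', hspan⟩ := A.exists_atom_cyc hg
        have hle : A.span (2 * k) g' ≤ W := hspan.le.trans (A.span_le hW.stable fun _ => W.smul_mem _ hx)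
        exact ⟨Atom.cyc k (bitOf o (k - 1) (A.P (k - 1) (c • x))), g', hg', hle⟩
      · push Not at hsq
        obtain ⟨y, hy, hyu⟩ : ∃ y ∈ W, A.B ((A.N ^ (M - 1)) u) y ≠ 0 := by
          by_contra h
          push Not at h
          exact hu0 (hW.nondeg _ (hstab _ u hu) fun x hx => by rw [A.symm]; exact h x hx)
        set c := (A.B ((A.N ^ (M - 1)) u) y)⁻¹
        have hg : A.IsRaw M ![u, c • y] := by
          refine ⟨hM0, fun j => ?_, fun i j => ?_⟩
          · fin_cases j
            · exact hM u hu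
            · simp [map_smul, hM y hy]
          · fin_cases i <;> fin_cases j <;> simp only [Fin.zero_eta, Fin.mk_one, Matrix.cons_val_zero,
              Matrix.cons_val_one, map_smul, LinearMap.smul_apply, smul_eq_mul, pat]
            · rw [if_neg (by decide), hsq u hu]
            · rw [if_pos (by decide)]; exact inv_mul_cancel₀ hyu
            · rw [if_pos (by decide), A.top_symm (hM y hy)]; exact inv_mul_cancel₀ hyu
            · rw [if_neg (by decide), hsq y hy, mul_zero, mul_zero]
        obtain ⟨g', hg', hspan⟩ := A.exists_atom_pair hg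
        refine ⟨Atom.pair M (A.pairBit M ![u, c • y]), g', hg', ?_⟩
        have hle : A.span M g' = A.span M ![u, c • y] := hspan
        refine hle.le.trans (A.span_le hW.stable fun j => ?_)
        fin_cases j
        · exact hu
        · exact W.smul_mem _ hy
    obtain ⟨hW', hsup, hinf⟩ := hW.split hat.raw hgW
    have hlt : Module.finrank F ↥(W ⊓ A.orth (A.span a.height g)) < d := by
      have h := Submodule.finrank_sup_add_finrank_inf_eq (A.span a.height g) (W ⊓ A.orth (A.span a.height g))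
      rw [hsup, hinf, finrank_bot, add_zero, hd, hat.raw.finrank_span] at h
      have : 0 < a.width * a.height := Nat.mul_pos (by cases a <;> exact Nat.succ_pos _) hat.raw.pos
      omega
    obtain ⟨L, hL⟩ := ih _ hlt hW' rfl
    exact ⟨a :: L, hsup ▸ Dec.cons g hat hL inf_le_right⟩

end UForm

/-- Isometries commuting with the nilpotent maps. -/
def UIso {o : Bool} {V V' : Type*} [AddCommGroup V] [Module F V] [AddCommGroup V'] [Module F V']
    (A : UForm o F V) (A' : UForm o F V') : Prop :=
  ∃ e : V ≃ₗ[F] V', (∀ v, e (A.N v) = A'.N (e v)) ∧ (∀ u v, A'.B (e u) (e v) = A.B u v) ∧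
    (o = true → ∀ v, A'.Q (e v) = A.Q v)

namespace UForm

variable [Fintype F] {o : Bool} {V V' : Type*} [AddCommGroup V] [Module F V] [AddCommGroup V'] [Module F V']
  {A : UForm o F V} {A' : UForm o F V'}

omit [CharP F 2] in
/-- A property of pairs which is preserved by sums and scalars. -/
theorem span_pairs_induction {s : Set (V × V')} {p : V × V' → Prop} (hs : ∀ x ∈ s, p x) (h0 : p 0)
    (hadd : ∀ x ∈ Submodule.span F s, ∀ y ∈ Submodule.span F s, p x → p y → p (x + y))
    (hsmul : ∀ (c : F), ∀ x ∈ Submodule.span F s, p x → p (c • x)) : ∀ x ∈ Submodule.span F s, p x :=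
  fun _ hx => Submodule.span_induction (p := fun x _ => p x) hs h0 (fun x y hx hy => hadd x hx y hy) hsmul hx

theorem IsAtom.congr_B {a : Atom} {g : Fin a.width → V} {g' : Fin a.width → V'} (hg : A.IsAtom a g)
    (hg' : A'.IsAtom a g') (i l : Fin a.width) (s r : ℕ) :
    A.B ((A.N ^ s) (g i)) ((A.N ^ r) (g l)) = A'.B ((A'.N ^ s) (g' i)) ((A'.N ^ r) (g' l)) := by
  have hlt : ∀ i l, i < l → ∀ s r,
      A.B ((A.N ^ s) (g i)) ((A.N ^ r) (g l)) = A'.B ((A'.N ^ s) (g' i)) ((A'.N ^ r) (g' l)) :=
    fun i l h s r => A.B_pow_congr A' (hg.raw.killed i) (hg'.raw.killed i)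
      (fun x => by rw [hg.cross i l h, hg'.cross i l h]) r s
  rcases lt_trichotomy i l with h | rfl | h
  · exact hlt i l h s r
  · exact A.B_self_congr A' (fun j hj => by rw [hg.vals i j (Or.inr hj), hg'.vals i j (Or.inr hj)]) s r
  · rw [A.symm, A'.symm]; exact hlt l i h r s

theorem Dec.exists_rel {L : List Atom} {W : Submodule F V} (h : A.Dec L W) :
    ∀ {W' : Submodule F V'}, A'.Dec L W' → ∃ R : Submodule F (V × V'),
      (∀ p ∈ R, (A.N p.1, A'.N p.2) ∈ R) ∧ (∀ p ∈ R, ∀ q ∈ R, A.B p.1 q.1 = A'.B p.2 q.2) ∧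
      (o = true → ∀ p ∈ R, A.Q p.1 = A'.Q p.2) ∧
      R.map (LinearMap.fst F V V') = W ∧ R.map (LinearMap.snd F V V') = W' := by
  induction h with
  | nil =>
    intro W' h'
    cases h'
    refine ⟨⊥, fun p hp => ?_, fun p hp q hq => ?_, fun ho p hp => ?_, Submodule.map_bot _, Submodule.map_bot _⟩
    · rw [Submodule.mem_bot] at hp; subst hp; simp
    · rw [Submodule.mem_bot] at hp; subst hp; simp
    · rw [Submodule.mem_bot] at hp; subst hp
      have e1 : A.P 0 (0 : V) = 0 := A.P_zero (Or.inl ho)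
      have e2 : A'.P 0 (0 : V') = 0 := A'.P_zero (Or.inl ho)
      exact e1.trans e2.symm
  | @cons a L g W hg _ horth ih =>
    intro W' h'
    cases h' with
    | @cons _ _ g' W' hg' hd' horth' =>
      obtain ⟨R, r1, r2, r3, r4, r5⟩ := ih hd'
      let s : Set (V × V') := Set.range fun p : Fin a.width × Fin a.height =>
        ((A.N ^ (p.2 : ℕ)) (g p.1), (A'.N ^ (p.2 : ℕ)) (g' p.1))
      let S := Submodule.span F s
      have hm1 : S.map (LinearMap.fst F V V') = A.span a.height g := by
        rw [Submodule.map_span, ← Set.range_comp]; rfl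
      have hm2 : S.map (LinearMap.snd F V V') = A'.span a.height g' := by
        rw [Submodule.map_span, ← Set.range_comp]; rfl
      have s1 : ∀ p ∈ S, (A.N p.1, A'.N p.2) ∈ S := by
        refine span_pairs_induction ?_ (by simp only [Prod.fst_zero, Prod.snd_zero, map_zero]; exact S.zero_mem) (fun x _ y _ hx hy => by simpa using S.add_mem hx hy)
          (fun c x _ hx => by simpa using S.smul_mem c hx)
        rintro _ ⟨⟨i, t⟩, rfl⟩
        simp only [← A.pow_succ_apply, ← A'.pow_succ_apply]
        rcases Nat.lt_or_ge ((t : ℕ) + 1) a.height with h | h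
        · exact Submodule.subset_span ⟨(i, ⟨(t : ℕ) + 1, h⟩), rfl⟩
        · rw [A.pow_eq_zero_of_le (hg.raw.killed i) h, A'.pow_eq_zero_of_le (hg'.raw.killed i) h]
          exact S.zero_mem
      have s2 : ∀ p ∈ S, ∀ q ∈ S, A.B p.1 q.1 = A'.B p.2 q.2 := by
        refine span_pairs_induction ?_ (fun q _ => by simp) (fun x _ y _ hx hy q hq => by simp [hx q hq, hy q hq])
          (fun c x _ hx q hq => by simp [hx q hq])
        rintro _ ⟨⟨i, t⟩, rfl⟩
        refine span_pairs_induction ?_ (by simp) (fun x _ y _ hx hy => by simp [hx, hy]) (fun c x _ hx => by simp [hx])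
        rintro _ ⟨⟨l, r⟩, rfl⟩
        exact hg.congr_B hg' i l t r
      have s3 : o = true → ∀ p ∈ S, A.Q p.1 = A'.Q p.2 := fun ho => by
        refine span_pairs_induction ?_ ?_ (fun x hx y hy ex ey => ?_) (fun c x _ hx => ?_)
        · rintro _ ⟨⟨i, t⟩, rfl⟩
          have e1 := A.P_pow (j := 0) (Or.inl ho) t (g i)
          have e2 := A'.P_pow (j := 0) (Or.inl ho) t (g' i)
          rw [Nat.add_zero, hg.vals i _ (Or.inl ho)] at e1
          rw [Nat.add_zero, hg'.vals i _ (Or.inl ho)] at e2
          exact e1.trans e2.symm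
        · have e1 : A.P 0 (0 : V) = 0 := A.P_zero (Or.inl ho)
          have e2 : A'.P 0 (0 : V') = 0 := A'.P_zero (Or.inl ho)
          exact e1.trans e2.symm
        · change A.Q (x.1 + y.1) = A'.Q (x.2 + y.2)
          rw [A.Q_add ho, A'.Q_add ho, ex, ey, s2 x hx y hy]
        · change A.Q (c • x.1) = A'.Q (c • x.2)
          rw [A.Q_smul ho, A'.Q_smul ho, hx]
      have hmemS : ∀ p ∈ S, p.1 ∈ A.span a.height g ∧ p.2 ∈ A'.span a.height g' := fun p hp =>
        ⟨hm1 ▸ Submodule.mem_map_of_mem (f := LinearMap.fst F V V') hp,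
          hm2 ▸ Submodule.mem_map_of_mem (f := LinearMap.snd F V V') hp⟩
      have hmemR : ∀ p ∈ R, p.1 ∈ W ∧ p.2 ∈ W' := fun p hp =>
        ⟨r4 ▸ Submodule.mem_map_of_mem (f := LinearMap.fst F V V') hp,
          r5 ▸ Submodule.mem_map_of_mem (f := LinearMap.snd F V V') hp⟩
      refine ⟨S ⊔ R, fun p hp => ?_, fun p hp q hq => ?_, fun ho p hp => ?_,
        by rw [Submodule.map_sup, hm1, r4], by rw [Submodule.map_sup, hm2, r5]⟩
      · obtain ⟨x, hx, y, hy, rfl⟩ := Submodule.mem_sup.1 hp
        simp only [Prod.fst_add, Prod.snd_add, map_add]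
        exact Submodule.add_mem_sup (s1 x hx) (r1 y hy)
      · obtain ⟨x, hx, y, hy, rfl⟩ := Submodule.mem_sup.1 hp
        obtain ⟨x', hx', y', hy', rfl⟩ := Submodule.mem_sup.1 hq
        simp only [Prod.fst_add, Prod.snd_add, map_add, LinearMap.add_apply]
        rw [s2 x hx x' hx', r2 y hy y' hy', horth (hmemR y' hy').1 _ (hmemS x hx).1,
          horth' (hmemR y' hy').2 _ (hmemS x hx).2, A.symm y.1 x'.1, A'.symm y.2 x'.2,
          horth (hmemR y hy).1 _ (hmemS x' hx').1, horth' (hmemR y hy).2 _ (hmemS x' hx').2]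
      · obtain ⟨x, hx, y, hy, rfl⟩ := Submodule.mem_sup.1 hp
        simp only [Prod.fst_add, Prod.snd_add]
        rw [A.Q_add ho, A'.Q_add ho, s3 ho x hx, r3 ho y hy, horth (hmemR y hy).1 _ (hmemS x hx).1,
          horth' (hmemR y hy).2 _ (hmemS x hx).2]

/-- Spaces with the same atoms are isometric. -/
theorem Dec.uiso {L : List Atom} (h : A.Dec L ⊤) (h' : A'.Dec L ⊤) : UIso A A' := by
  obtain ⟨R, r1, r2, r3, r4, r5⟩ := h.exists_rel h'
  have hz : ∀ p ∈ R, p.1 = 0 ↔ p.2 = 0 := fun p hp => by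
    constructor
    · intro h0
      refine h'.isPiece.nondeg _ Submodule.mem_top fun x _ => ?_
      obtain ⟨q, hq, rfl⟩ : ∃ q ∈ R, q.2 = x := by
        have := r5.ge (Submodule.mem_top (x := x))
        simpa [Submodule.mem_map] using this
      rw [← r2 q hq p hp, h0, map_zero]
    · intro h0
      refine h.isPiece.nondeg _ Submodule.mem_top fun x _ => ?_
      obtain ⟨q, hq, rfl⟩ : ∃ q ∈ R, q.1 = x := by
        have := r4.ge (Submodule.mem_top (x := x))
        simpa [Submodule.mem_map] using this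
      rw [r2 q hq p hp, h0, map_zero]
  have b1 : Function.Bijective ((LinearMap.fst F V V').domRestrict R) := by
    refine ⟨(injective_iff_map_eq_zero _).2 fun p hp => Subtype.ext (Prod.ext hp ((hz p p.2).1 hp)), fun x => ?_⟩
    obtain ⟨q, hq, hqx⟩ := Submodule.mem_map.1 (r4.ge (Submodule.mem_top (x := x)))
    exact ⟨⟨q, hq⟩, hqx⟩
  have b2 : Function.Bijective ((LinearMap.snd F V V').domRestrict R) := by
    refine ⟨(injective_iff_map_eq_zero _).2 fun p hp => Subtype.ext (Prod.ext ((hz p p.2).2 hp) hp), fun x => ?_⟩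
    obtain ⟨q, hq, hqx⟩ := Submodule.mem_map.1 (r5.ge (Submodule.mem_top (x := x)))
    exact ⟨⟨q, hq⟩, hqx⟩
  let e1 := LinearEquiv.ofBijective _ b1
  let e2 := LinearEquiv.ofBijective _ b2
  have key : ∀ v, ∃ p : R, (p : V × V').1 = v ∧ (e1.symm.trans e2) v = (p : V × V').2 := fun v =>
    ⟨e1.symm v, e1.apply_symm_apply v, rfl⟩
  refine ⟨e1.symm.trans e2, fun v => ?_, fun u v => ?_, fun ho v => ?_⟩
  · obtain ⟨p, hp1, hp2⟩ := key v
    have : e1.symm (A.N v) = ⟨(A.N (p : V × V').1, A'.N (p : V × V').2), r1 _ p.2⟩ := by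
      rw [LinearEquiv.symm_apply_eq, ← hp1]; rfl
    rw [hp2, LinearEquiv.trans_apply, this]; rfl
  · obtain ⟨p, hp1, hp2⟩ := key u
    obtain ⟨q, hq1, hq2⟩ := key v
    rw [hp2, hq2, ← r2 _ p.2 _ q.2, hp1, hq1]
  · obtain ⟨p, hp1, hp2⟩ := key v
    rw [hp2, ← r3 ho _ p.2, hp1]

end UForm

end CfsgLib.CharTwoClassNum
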