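import Cfsg.Agent.Lib.CharTwoClassNum.Relations

/-!
Normal forms of decompositions into atoms.
-/

set_option autoImplicit false

namespace CfsgLib.CharTwoClassNum

namespace Atom

/-- Position of an atom along the chain. -/
def pos : Atom → ℕ
  | .cyc k _ => 2 * k
  | .pair m _ => m

/-- Cyclic atoms. -/
def isCyc : Atom → Bool
  | .cyc _ _ => true
  | .pair _ _ => false

/-- Contribution to the potential. -/
def pot (a : Atom) : ℕ := if a.bit then a.pos + 1 else 0

end Atom

/-- The bit is at the lowest atom of each chain, and there are at most two cyclic atoms of each height. -/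
structure Normal (L : List Atom) : Prop where
  pair_le : ∀ m, L.count (.pair m true) ≤ 1
  cyc_le : ∀ k, L.count (.cyc k false) + L.count (.cyc k true) ≤ 2
  cyc_bit : ∀ k, L.count (.cyc k true) ≤ 1
  pair_free : ∀ k e, Atom.pair (2 * k + 1) true ∈ L → Atom.cyc k e ∉ L
  cyc_free : ∀ k e, Atom.cyc (k + 1) true ∈ L → Atom.cyc k e ∉ L ∧ Atom.pair (2 * k + 1) e ∉ L

/-- Parity of the bits. -/
def parity (L : List Atom) : Bool := L.foldr (fun a b => xor a.bit b) false

theorem exists_perm_two {L : List Atom} {a b : Atom} (ha : a ∈ L) (hb : b ∈ L.erase a) :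
    ∃ R, L.Perm ([a, b] ++ R) :=
  ⟨(L.erase a).erase b, (List.perm_cons_erase ha).trans ((List.perm_cons_erase hb).cons a)⟩

theorem exists_perm_two_ne {L : List Atom} {a b : Atom} (ha : a ∈ L) (hb : b ∈ L) (hne : b ≠ a) :
    ∃ R, L.Perm ([a, b] ++ R) :=
  exists_perm_two ha ((List.mem_erase_of_ne hne).2 hb)

theorem exists_perm_twice {L : List Atom} {a : Atom} (h : 2 ≤ L.count a) : ∃ R, L.Perm ([a, a] ++ R) := by
  refine exists_perm_two (List.count_pos_iff.1 (by omega)) (List.count_pos_iff.1 ?_)
  rw [List.count_erase_self]; omega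

theorem exists_perm_three {L : List Atom} {k : ℕ} (h : 3 ≤ L.count (.cyc k false) + L.count (.cyc k true)) :
    ∃ e₁ e₂ e₃ R, L.Perm ([Atom.cyc k e₁, .cyc k e₂, .cyc k e₃] ++ R) := by
  have step : ∀ (M : List Atom) (n : ℕ), n + 1 ≤ M.count (.cyc k false) + M.count (.cyc k true) →
      ∃ e M', M.Perm (Atom.cyc k e :: M') ∧ n ≤ M'.count (.cyc k false) + M'.count (.cyc k true) := by
    intro M n hn
    obtain ⟨e, he⟩ : ∃ e, Atom.cyc k e ∈ M := by
      rcases Nat.eq_zero_or_pos (M.count (.cyc k false)) with h0 | h0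
      · exact ⟨true, List.count_pos_iff.1 (by omega)⟩
      · exact ⟨false, List.count_pos_iff.1 h0⟩
    refine ⟨e, M.erase (.cyc k e), List.perm_cons_erase he, ?_⟩
    cases e <;> simp [List.count_erase] <;> omega
  obtain ⟨e₁, M₁, p₁, c₁⟩ := step L 2 h
  obtain ⟨e₂, M₂, p₂, c₂⟩ := step M₁ 1 c₁
  obtain ⟨e₃, M₃, p₃, -⟩ := step M₂ 0 c₂
  exact ⟨e₁, e₂, e₃, M₃, p₁.trans ((p₂.trans (p₃.cons _)).cons _)⟩

/-- A non-normal list contains one of the patterns which can be simplified. -/
theorem not_normal_cases {L : List Atom} (h : ¬Normal L) :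
    (∃ m R, L.Perm ([Atom.pair m true, .pair m true] ++ R)) ∨
    (∃ k e₁ e₂ e₃ R, L.Perm ([Atom.cyc k e₁, .cyc k e₂, .cyc k e₃] ++ R)) ∨
    (∃ k R, L.Perm ([Atom.cyc k true, .cyc k true] ++ R)) ∨
    (∃ k e R, L.Perm ([Atom.cyc k e, .pair (2 * k + 1) true] ++ R)) ∨
    (∃ k e R, L.Perm ([Atom.cyc k e, .cyc (k + 1) true] ++ R)) ∨
    (∃ k e R, L.Perm ([Atom.cyc (k + 1) true, .pair (2 * k + 1) e] ++ R)) := by
  by_contra hc
  simp only [not_or, not_exists] at hc
  obtain ⟨h1, h2, h3, h4, h5, h6⟩ := hc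
  refine h ⟨fun m => ?_, fun k => ?_, fun k => ?_, fun k e hp hc' => ?_, fun k e hc' => ⟨fun hd => ?_, fun hp => ?_⟩⟩
  · by_contra hlt
    obtain ⟨R, hR⟩ := exists_perm_twice (L := L) (a := .pair m true) (by omega)
    exact h1 m R hR
  · by_contra hlt
    obtain ⟨e₁, e₂, e₃, R, hR⟩ := exists_perm_three (L := L) (k := k) (by omega)
    exact h2 k e₁ e₂ e₃ R hR
  · by_contra hlt
    obtain ⟨R, hR⟩ := exists_perm_twice (L := L) (a := .cyc k true) (by omega)
    exact h3 k R hR
  · obtain ⟨R, hR⟩ := exists_perm_two_ne hc' hp (by simp)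
    exact h4 k e R hR
  · obtain ⟨R, hR⟩ := exists_perm_two_ne hd hc' (by simp)
    exact h5 k e R hR
  · obtain ⟨R, hR⟩ := exists_perm_two_ne hc' hp (by simp)
    exact h6 k e R hR

variable {F : Type*} [Field F] [CharP F 2] [Fintype F]

namespace UForm

variable {o : Bool} {V : Type*} [AddCommGroup V] [Module F V] [FiniteDimensional F V] {A : UForm o F V}

/-- Rewriting an initial segment. -/
theorem Dec.replace {L P P' R : List Atom} (hp : L.Perm (P ++ R)) {W : Submodule F V} (h : A.Dec L W)
    (hstep : ∀ W₁, A.Dec P W₁ → A.Dec P' W₁) : A.Dec (P' ++ R) W := by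
  obtain ⟨W₁, W₂, h1, h2, ho, rfl⟩ := Dec.split (h.perm hp)
  exact (hstep W₁ h1).append h2 ho

theorem Dec.exists_normal {W : Submodule F V} : ∀ (c p : ℕ) (L : List Atom),
    (L.map fun a => if a.isCyc then 1 else 0).sum = c → (L.map Atom.pot).sum = p → A.Dec L W →
    ∃ L', A.Dec L' W ∧ Normal L' := by
  intro c
  induction c using Nat.strong_induction_on with
  | _ c ihc =>
    intro p
    induction p using Nat.strong_induction_on with
    | _ p ihp =>
      intro L hc hp h
      by_cases hn : Normal L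
      · exact ⟨L, h, hn⟩
      have next_step : ∀ {P P' R : List Atom}, L.Perm (P ++ R) → (∀ W₁, A.Dec P W₁ → A.Dec P' W₁) →
          ((P'.map fun a => if a.isCyc then 1 else 0).sum < (P.map fun a => if a.isCyc then 1 else 0).sum ∨
            ((P'.map fun a => if a.isCyc then 1 else 0).sum = (P.map fun a => if a.isCyc then 1 else 0).sum ∧
              (P'.map Atom.pot).sum < (P.map Atom.pot).sum)) →
          ∃ L', A.Dec L' W ∧ Normal L' := by
        intro P P' R hperm hstep hlt
        have hd := h.replace hperm hstep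
        have e1 := (hperm.map fun a => if a.isCyc then 1 else 0).sum_eq
        have e2 := (hperm.map Atom.pot).sum_eq
        rw [List.map_append, List.sum_append, hc] at e1
        rw [List.map_append, List.sum_append, hp] at e2
        rcases hlt with h' | ⟨h', h''⟩
        · exact ihc _ (by rw [List.map_append, List.sum_append]; omega) _ (P' ++ R) rfl rfl hd
        · exact ihp _ (by rw [List.map_append, List.sum_append]; omega) (P' ++ R)
            (by rw [List.map_append, List.sum_append]; omega) rfl hd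
      rcases not_normal_cases hn with ⟨m, R, hR⟩ | ⟨k, e₁, e₂, e₃, R, hR⟩ | ⟨k, R, hR⟩ | ⟨k, e, R, hR⟩ |
        ⟨k, e, R, hR⟩ | ⟨k, e, R, hR⟩
      · exact next_step hR (fun W₁ h1 => rel_pair_pair h1) (Or.inr ⟨rfl, by simp [Atom.pot, Atom.bit]⟩)
      · have hv : ∀ W₁, A.Dec [Atom.cyc k e₁, .cyc k e₂, .cyc k e₃] W₁ →
            ∃ e, A.Dec [Atom.pair (2 * k) false, .cyc k e] W₁ := fun W₁ h1 =>
          let ⟨e, he, _⟩ := rel_three h1; ⟨e, he⟩
        obtain ⟨W₁, W₂, h1, h2, ho, rfl⟩ := Dec.split (h.perm hR)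
        obtain ⟨e, he⟩ := hv W₁ h1
        have hd := he.append h2 ho
        have e1 := (hR.map fun a => if a.isCyc then 1 else 0).sum_eq
        rw [List.map_append, List.sum_append, hc] at e1
        simp only [List.map_cons, List.map_nil, List.sum_cons, List.sum_nil, Atom.isCyc, if_true] at e1
        exact ihc _ (by simp [Atom.isCyc]; omega) _ _ rfl rfl hd
      · refine next_step (P' := [Atom.cyc k false, .cyc k false]) hR (fun W₁ h1 => ?_) (Or.inr ⟨rfl, by simp [Atom.pot, Atom.bit]⟩)
        exact rel_cyc_cyc ((h1.valid _ (List.mem_cons_self ..)).2 rfl) h1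
      · refine next_step (P' := [Atom.cyc k (flipBit o (k - 1) e), .pair (2 * k + 1) false]) hR
          (fun W₁ h1 => rel_up h1) (Or.inr ⟨rfl, ?_⟩)
        simp only [List.map_cons, List.map_nil, List.sum_cons, List.sum_nil, Atom.pot, Atom.bit, Atom.pos,
          Bool.false_eq_true, if_false, if_true]
        cases e <;> simp [flipBit] <;> (try split_ifs) <;> omega
      · refine next_step (P' := [Atom.cyc k (flipBit o (k - 1) e), .cyc (k + 1) false]) hR
          (fun W₁ h1 => rel_cyc_next h1) (Or.inr ⟨rfl, ?_⟩)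
        simp only [List.map_cons, List.map_nil, List.sum_cons, List.sum_nil, Atom.pot, Atom.bit, Atom.pos,
          Bool.false_eq_true, if_false, if_true]
        cases e <;> simp [flipBit] <;> (try split_ifs) <;> omega
      · refine next_step (P' := [Atom.cyc (k + 1) false, .pair (2 * k + 1) (!e)]) hR (fun W₁ h1 => ?_)
          (Or.inr ⟨rfl, ?_⟩)
        · exact rel_down (e := true) (by simpa using (h1.valid _ (List.mem_cons_self ..)).2 rfl) h1
        simp only [List.map_cons, List.map_nil, List.sum_cons, List.sum_nil, Atom.pot, Atom.bit, Atom.pos,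
          Bool.false_eq_true, if_false, if_true]
        cases e <;> simp [flipBit] <;> (try split_ifs) <;> omega

/-- Every piece has a normal decomposition. -/
theorem exists_normal_dec {W : Submodule F V} (hW : A.IsPiece W) : ∃ L, A.Dec L W ∧ Normal L := by
  obtain ⟨L, hL⟩ := A.exists_dec hW
  exact Dec.exists_normal _ _ L rfl rfl hL

end UForm

end CfsgLib.CharTwoClassNum
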