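import Cfsg.Agent.Lib.CharTwoClassNum.Count

/-!
Weighted sums over all normal forms at weight one half.
-/

set_option autoImplicit false

namespace CfsgLib.CharTwoClassNum

open Finset

/-- Four values. -/
def quad (a b c d : ℝ) : Bool → Bool → ℝ
  | false, false => a
  | false, true => b
  | true, false => c
  | true, true => d

/-- The values at level zero. -/
noncomputable def base (o : Bool) (x : ℝ) : Bool → Bool → ℝ :=
  quad 1 0 (x / (1 - x)) (if o then x / (1 - x) else 0)

theorem bound_zero {o : Bool} : Bound o (1 / 2 : ℝ) 0 (base o (1 / 2)) := by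
  classical
  intro σ π S hS
  set x : ℝ := 1 / 2 with hx
  have hx0 : 0 ≤ x := by norm_num [hx]
  have hx1 : x < 1 := by norm_num [hx]
  set f : Multiset Atom → ℕ × ℕ := fun s => (s.count (.pair 1 false), s.count (.pair 1 true))
  have hrep : ∀ s ∈ S, s = Multiset.replicate (f s).1 (Atom.pair 1 false) +
      Multiset.replicate (f s).2 (Atom.pair 1 true) := by
    intro s hs
    obtain ⟨h1, h2, -, -⟩ := hS s hs
    refine Multiset.ext.2 fun a => ?_
    rw [Multiset.count_add, Multiset.count_replicate, Multiset.count_replicate]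
    by_cases ha : a ∈ s
    · have hidx := h2 a ha
      have hv := h1.valid a ha
      cases a with
      | cyc l e => simp only [Atom.idx] at hidx; exact absurd hv.1 (by omega)
      | pair m e =>
        simp only [Atom.idx] at hidx
        have hm1 : 1 ≤ m := hv.1
        obtain rfl : m = 1 := by omega
        cases e <;> simp [f]
    · have h0 := Multiset.count_eq_zero.2 ha
      split_ifs with e1 e2 e3 <;> subst_vars <;> simp_all [f]
  obtain ⟨M, hM⟩ : ∃ M, ∀ s ∈ S, (f s).1 < M :=
    ⟨(S.sup Multiset.card) + 1, fun s hs => Nat.lt_succ_of_le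
      ((Multiset.count_le_card _ s).trans (Finset.le_sup (f := Multiset.card) hs))⟩
  have hwt : ∀ s ∈ S, x ^ wt s = x ^ ((f s).1 + (f s).2) := fun s hs => by
    conv_lhs => rw [hrep s hs]
    simp [wt, Atom.hdim, Multiset.map_replicate, Multiset.sum_replicate]
  have hfacts : ∀ s ∈ S, (σ = true ↔ 0 < (f s).1 + (f s).2) ∧ (π = true ↔ (f s).2 = 1) ∧ (f s).2 ≤ 1 ∧
      ((f s).2 = 1 → o = true) := by
    intro s hs
    obtain ⟨h1, h2, h3, h4⟩ := hS s hs
    refine ⟨?_, ?_, h1.pair_le 1, fun h => ?_⟩
    · rw [h3]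
      constructor
      · rintro ⟨e, he | he⟩
        · exact absurd (h1.valid _ he).1 (by simp)
        · have := Multiset.count_pos.2 he
          cases e <;> simp only [f, Nat.mul_zero, Nat.zero_add] at * <;> omega
      · intro h
        rcases Nat.eq_zero_or_pos (f s).1 with h0 | h0
        · exact ⟨true, Or.inr (Multiset.count_pos.1 (show 0 < s.count (Atom.pair 1 true) by simp only [f] at h h0 ⊢; omega))⟩
        · exact ⟨false, Or.inr (Multiset.count_pos.1 h0)⟩
    · rw [← h4]
      have hle : (f s).2 ≤ 1 := h1.pair_le 1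
      conv_lhs => rw [hrep s hs]
      have e0 : ∀ n, (Multiset.replicate n (Atom.pair 1 false)).countP (fun a => a.bit = true) = 0 := fun n =>
        Multiset.countP_eq_zero.2 fun a ha => by rw [Multiset.eq_of_mem_replicate ha]; exact Bool.false_ne_true
      rw [bpar, Multiset.countP_add, e0]
      rcases Nat.le_one_iff_eq_zero_or_eq_one.1 hle with e | e
      · simp [e]
      · rw [e, Multiset.replicate_one, ← Multiset.cons_zero, Multiset.countP_cons, Multiset.countP_zero]
        simp [Atom.bit]
    · have := ((h1.valid _ (Multiset.count_pos.1 (show 0 < s.count (Atom.pair 1 true) by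
        simp only [f] at h; omega))).2 rfl).2
      rcases this with h' | h'
      · exact h'
      · simp at h'
  have hfinj : Set.InjOn f S := fun s hs t ht h => by rw [hrep s hs, hrep t ht, h]
  rw [Finset.sum_congr rfl hwt, ← Finset.sum_image (f := fun p : ℕ × ℕ => x ^ (p.1 + p.2)) (g := f) hfinj]
  set T := S.image f
  have hT : ∀ p ∈ T, (σ = true ↔ 0 < p.1 + p.2) ∧ (π = true ↔ p.2 = 1) ∧ p.2 ≤ 1 ∧ (p.2 = 1 → o = true) ∧ p.1 < M := by
    intro p hp
    obtain ⟨s, hs, rfl⟩ := Finset.mem_image.1 hp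
    obtain ⟨a, b, c, d⟩ := hfacts s hs
    exact ⟨a, b, c, d, hM s hs⟩
  have hempty : (∀ p ∈ T, False) → ∑ p ∈ T, x ^ (p.1 + p.2) ≤ base o x σ π := fun h => by
    rw [Finset.eq_empty_of_forall_notMem h, Finset.sum_empty]
    cases σ <;> cases π <;> cases o <;> norm_num [base, quad, hx]
  cases π with
  | true =>
    by_cases ho : o = true
    · cases σ with
      | false =>
        refine hempty fun p hp => ?_
        obtain ⟨a, b, -, -, -⟩ := hT p hp
        have := b.1 rfl
        simp at a; omega
      | true =>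
        refine (Finset.sum_le_sum_of_subset_of_nonneg (t := (range M).image fun n => (n, 1)) (fun p hp => ?_)
          fun p _ _ => pow_nonneg hx0 _).trans ?_
        · obtain ⟨-, b, -, -, e⟩ := hT p hp
          exact Finset.mem_image.2 ⟨p.1, Finset.mem_range.2 e, Prod.ext rfl (b.1 rfl).symm⟩
        · rw [Finset.sum_image fun a _ b _ h => by simpa using h]
          simpa [base, quad, ho] using sum_pow_succ_le hx0 hx1 M
    · refine hempty fun p hp => ho ?_
      obtain ⟨-, b, -, d, -⟩ := hT p hp
      exact d (b.1 rfl)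
  | false =>
    have hz : ∀ p ∈ T, p.2 = 0 := fun p hp => by
      obtain ⟨-, b, c, -, -⟩ := hT p hp
      simp at b; omega
    cases σ with
    | false =>
      refine (Finset.sum_le_sum_of_subset_of_nonneg (t := {((0 : ℕ), (0 : ℕ))}) (fun p hp => ?_)
        fun p _ _ => pow_nonneg hx0 _).trans (by simp [base, quad])
      obtain ⟨a, -, -, -, -⟩ := hT p hp
      simp at a
      exact Finset.mem_singleton.2 (Prod.ext (by omega) (by omega))
    | true =>
      refine (Finset.sum_le_sum_of_subset_of_nonneg (t := (range M).image fun n => (n + 1, 0)) (fun p hp => ?_)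
        fun p _ _ => pow_nonneg hx0 _).trans ?_
      · obtain ⟨a, -, -, -, e⟩ := hT p hp
        have h0 := hz p hp
        have h1 := a.1 rfl
        exact Finset.mem_image.2 ⟨p.1 - 1, Finset.mem_range.2 (by omega), Prod.ext (by simp only; omega) h0.symm⟩
      · rw [Finset.sum_image fun a _ b _ h => by simpa using h]
        simpa [base, quad] using sum_pow_succ_le hx0 hx1 M

theorem symp_table : Bound false (1 / 2 : ℝ) 12 (quad (10741515 / 1000000) (4422262 / 1000000) (3702 / 1000000) (3702 / 1000000)) := by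
  have h0 : Bound false (1 / 2 : ℝ) 0 (quad (1000000 / 1000000) (0 / 1000000) (1000000 / 1000000) (0 / 1000000)) :=
    bound_zero.mono (by intro σ π; cases σ <;> cases π <;> norm_num [base, quad])
  have h1 : Bound false (1 / 2 : ℝ) 1 (quad (2666667 / 1000000) (0 / 1000000) (2666667 / 1000000) (380953 / 1000000)) :=
    (h0.step (by norm_num) (by norm_num)).mono (by intro σ π; cases σ <;> cases π <;> norm_num [step, quad])
  have h2 : Bound false (1 / 2 : ℝ) 2 (quad (5688890 / 1000000) (406350 / 1000000) (2031747 / 1000000) (1245265 / 1000000)) :=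
    (h1.step (by norm_num) (by norm_num)).mono (by intro σ π; cases σ <;> cases π <;> norm_num [step, quad])
  have h3 : Bound false (1 / 2 : ℝ) 3 (quad (7843187 / 1000000) (1677832 / 1000000) (1245109 / 1000000) (1131870 / 1000000)) :=
    (h2.step (by norm_num) (by norm_num)).mono (by intro σ π; cases σ <;> cases π <;> norm_num [step, quad])
  have h4 : Bound false (1 / 2 : ℝ) 4 (quad (9123937 / 1000000) (2820721 / 1000000) (742522 / 1000000) (734958 / 1000000)) :=
    (h3.step (by norm_num) (by norm_num)).mono (by intro σ π; cases σ <;> cases π <;> norm_num [step, quad])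
  have h5 : Bound false (1 / 2 : ℝ) 5 (quad (9876104 / 1000000) (3559155 / 1000000) (416028 / 1000000) (415784 / 1000000)) :=
    (h4.step (by norm_num) (by norm_num)).mono (by intro σ π; cases σ <;> cases π <;> norm_num [step, quad])
  have h6 : Bound false (1 / 2 : ℝ) 6 (quad (10294646 / 1000000) (3975910 / 1000000) (221631 / 1000000) (221627 / 1000000)) :=
    (h5.step (by norm_num) (by norm_num)).mono (by intro σ π; cases σ <;> cases π <;> norm_num [step, quad])
  have h7 : Bound false (1 / 2 : ℝ) 7 (quad (10516919 / 1000000) (4197794 / 1000000) (114565 / 1000000) (114565 / 1000000)) :=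
    (h6.step (by norm_num) (by norm_num)).mono (by intro σ π; cases σ <;> cases π <;> norm_num [step, quad])
  have h8 : Bound false (1 / 2 : ℝ) 8 (quad (10631647 / 1000000) (4312425 / 1000000) (58269 / 1000000) (58269 / 1000000)) :=
    (h7.step (by norm_num) (by norm_num)).mono (by intro σ π; cases σ <;> cases π <;> norm_num [step, quad])
  have h9 : Bound false (1 / 2 : ℝ) 9 (quad (10689957 / 1000000) (4370711 / 1000000) (29388 / 1000000) (29388 / 1000000)) :=
    (h8.step (by norm_num) (by norm_num)).mono (by intro σ π; cases σ <;> cases π <;> norm_num [step, quad])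
  have h10 : Bound false (1 / 2 : ℝ) 10 (quad (10719356 / 1000000) (4400104 / 1000000) (14759 / 1000000) (14759 / 1000000)) :=
    (h9.step (by norm_num) (by norm_num)).mono (by intro σ π; cases σ <;> cases π <;> norm_num [step, quad])
  have h11 : Bound false (1 / 2 : ℝ) 11 (quad (10734118 / 1000000) (4414865 / 1000000) (7396 / 1000000) (7396 / 1000000)) :=
    (h10.step (by norm_num) (by norm_num)).mono (by intro σ π; cases σ <;> cases π <;> norm_num [step, quad])
  have h12 : Bound false (1 / 2 : ℝ) 12 (quad (10741515 / 1000000) (4422262 / 1000000) (3702 / 1000000) (3702 / 1000000)) :=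
    (h11.step (by norm_num) (by norm_num)).mono (by intro σ π; cases σ <;> cases π <;> norm_num [step, quad])
  exact h12

theorem orth_table : Bound true (1 / 2 : ℝ) 12 (quad (13477362 / 1000000) (12025009 / 1000000) (6226 / 1000000) (6226 / 1000000)) := by
  have h0 : Bound true (1 / 2 : ℝ) 0 (quad (1000000 / 1000000) (0 / 1000000) (1000000 / 1000000) (1000000 / 1000000)) :=
    bound_zero.mono (by intro σ π; cases σ <;> cases π <;> norm_num [base, quad])
  have h1 : Bound true (1 / 2 : ℝ) 1 (quad (2666667 / 1000000) (1333334 / 1000000) (2857143 / 1000000) (2857143 / 1000000)) :=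
    (h0.step (by norm_num) (by norm_num)).mono (by intro σ π; cases σ <;> cases π <;> norm_num [step, quad])
  have h2 : Bound true (1 / 2 : ℝ) 2 (quad (5892064 / 1000000) (4469843 / 1000000) (2693703 / 1000000) (2693703 / 1000000)) :=
    (h1.step (by norm_num) (by norm_num)).mono (by intro σ π; cases σ <;> cases π <;> norm_num [step, quad])
  have h3 : Bound true (1 / 2 : ℝ) 3 (quad (8722050 / 1000000) (7277254 / 1000000) (2005752 / 1000000) (2005752 / 1000000)) :=
    (h2.step (by norm_num) (by norm_num)).mono (by intro σ π; cases σ <;> cases π <;> norm_num [step, quad])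
  have h4 : Bound true (1 / 2 : ℝ) 4 (quad (10769872 / 1000000) (9319410 / 1000000) (1242000 / 1000000) (1242000 / 1000000)) :=
    (h3.step (by norm_num) (by norm_num)).mono (by intro σ π; cases σ <;> cases π <;> norm_num [step, quad])
  have h5 : Bound true (1 / 2 : ℝ) 5 (quad (12023614 / 1000000) (10571734 / 1000000) (699481 / 1000000) (699481 / 1000000)) :=
    (h4.step (by norm_num) (by norm_num)).mono (by intro σ π; cases σ <;> cases π <;> norm_num [step, quad])
  have h6 : Bound true (1 / 2 : ℝ) 6 (quad (12726202 / 1000000) (11273968 / 1000000) (372735 / 1000000) (372735 / 1000000)) :=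
    (h5.step (by norm_num) (by norm_num)).mono (by intro σ π; cases σ <;> cases π <;> norm_num [step, quad])
  have h7 : Bound true (1 / 2 : ℝ) 7 (quad (13099737 / 1000000) (11647414 / 1000000) (192674 / 1000000) (192674 / 1000000)) :=
    (h6.step (by norm_num) (by norm_num)).mono (by intro σ π; cases σ <;> cases π <;> norm_num [step, quad])
  have h8 : Bound true (1 / 2 : ℝ) 8 (quad (13292614 / 1000000) (11840269 / 1000000) (97996 / 1000000) (97996 / 1000000)) :=
    (h7.step (by norm_num) (by norm_num)).mono (by intro σ π; cases σ <;> cases π <;> norm_num [step, quad])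
  have h9 : Bound true (1 / 2 : ℝ) 9 (quad (13390662 / 1000000) (11938311 / 1000000) (49424 / 1000000) (49424 / 1000000)) :=
    (h8.step (by norm_num) (by norm_num)).mono (by intro σ π; cases σ <;> cases π <;> norm_num [step, quad])
  have h10 : Bound true (1 / 2 : ℝ) 10 (quad (13440099 / 1000000) (11987747 / 1000000) (24820 / 1000000) (24820 / 1000000)) :=
    (h9.step (by norm_num) (by norm_num)).mono (by intro σ π; cases σ <;> cases π <;> norm_num [step, quad])
  have h11 : Bound true (1 / 2 : ℝ) 11 (quad (13464923 / 1000000) (12012570 / 1000000) (12438 / 1000000) (12438 / 1000000)) :=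
    (h10.step (by norm_num) (by norm_num)).mono (by intro σ π; cases σ <;> cases π <;> norm_num [step, quad])
  have h12 : Bound true (1 / 2 : ℝ) 12 (quad (13477362 / 1000000) (12025009 / 1000000) (6226 / 1000000) (6226 / 1000000)) :=
    (h11.step (by norm_num) (by norm_num)).mono (by intro σ π; cases σ <;> cases π <;> norm_num [step, quad])
  exact h12

/-- Growth of one level. -/
theorem level_factor {k : ℕ} (hk : 13 ≤ k) :
    1 / (1 - (1 / 2 : ℝ) ^ (2 * k)) * (1 + 2 * ((1 / 2 : ℝ) ^ (2 * k + 1) / (1 - (1 / 2 : ℝ) ^ (2 * k + 1))) +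
      2 * (((1 / 2 : ℝ) ^ k + (1 / 2 : ℝ) ^ (2 * k)) * (1 / (1 - (1 / 2 : ℝ) ^ (2 * k + 1))))) ≤
      1 + 3 * (1 / 2 : ℝ) ^ k := by
  have h1 : (1 / 2 : ℝ) ^ (2 * k) = ((1 / 2 : ℝ) ^ k) ^ 2 := by rw [← pow_mul]; congr 1; ring
  rw [pow_succ, h1]
  have hy0 : 0 < (1 / 2 : ℝ) ^ k := by positivity
  have hy1 : (1 / 2 : ℝ) ^ k ≤ 1 / 8192 :=
    (pow_le_pow_of_le_one (by norm_num) (by norm_num) hk).trans (by norm_num)
  generalize (1 / 2 : ℝ) ^ k = y at *
  have a1 : 0 < 1 - y ^ 2 := by nlinarith
  have a2 : 0 < 1 - y ^ 2 * (1 / 2) := by nlinarith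
  rw [div_mul_eq_mul_div, one_mul, div_le_iff₀ a1]
  have a3 : 0 < 2 - y ^ 2 := by linarith
  field_simp
  nlinarith [pow_pos hy0 2, pow_pos hy0 3, pow_pos hy0 4, pow_pos hy0 5, mul_le_mul_of_nonneg_left hy1 hy0.le,
    mul_le_mul_of_nonneg_left hy1 (pow_pos hy0 2).le, mul_le_mul_of_nonneg_left hy1 (pow_pos hy0 3).le,
    mul_le_mul_of_nonneg_left hy1 (pow_pos hy0 4).le]

/-- The sum of both states at one parity. -/
def colSum (H : Bool → Bool → ℝ) (π : Bool) : ℝ := H false π + H true π

theorem colSum_step {o : Bool} {k : ℕ} (hk : 13 ≤ k) {H : Bool → Bool → ℝ} (h0 : ∀ σ π, 0 ≤ H σ π) :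
    (colSum (step o (1 / 2) k H) false + colSum (step o (1 / 2) k H) true ≤
      (1 + 3 * (1 / 2 : ℝ) ^ k) * (colSum H false + colSum H true)) ∧
    ∀ M, (∀ π, colSum H π ≤ M) → ∀ π, colSum (step o (1 / 2) k H) π ≤ (1 + 3 * (1 / 2 : ℝ) ^ k) * M := by
  have hf := level_factor hk
  have p1 : 0 < 1 - (1 / 2 : ℝ) ^ (2 * k) := sub_pos.2 (pow_lt_one₀ (by norm_num) (by norm_num) (by omega))
  have p2 : 0 < 1 - (1 / 2 : ℝ) ^ (2 * k + 1) := sub_pos.2 (pow_lt_one₀ (by norm_num) (by norm_num) (by omega))
  set a := 1 / (1 - (1 / 2 : ℝ) ^ (2 * k)) with hadef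
  set b := (1 / 2 : ℝ) ^ (2 * k + 1) / (1 - (1 / 2 : ℝ) ^ (2 * k + 1)) with hbdef
  set v := ((1 / 2 : ℝ) ^ k + (1 / 2 : ℝ) ^ (2 * k)) * (1 / (1 - (1 / 2 : ℝ) ^ (2 * k + 1))) with hvdef
  have ha : 0 ≤ a := by rw [hadef]; positivity
  have hb : 0 ≤ b := by rw [hbdef]; positivity
  have hv : 0 ≤ v := by rw [hvdef]; positivity
  have hstep : ∀ π, colSum (step o (1 / 2) k H) π ≤
      a * (colSum H π + (b * (colSum H π + colSum H (!π)) + v * (colSum H π + colSum H (!π)))) := by
    intro π
    simp only [colSum, step, ← hadef, ← hbdef, ← hvdef]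
    rw [← mul_add]
    refine mul_le_mul_of_nonneg_left (add_le_add le_rfl (add_le_add le_rfl (mul_le_mul_of_nonneg_left
      (add_le_add le_rfl ?_) hv))) ha
    split_ifs <;> linarith [h0 false (!π), h0 true (!π)]
  have hnn : ∀ π, 0 ≤ colSum H π := fun π => add_nonneg (h0 _ _) (h0 _ _)
  refine ⟨?_, fun M hM π => ?_⟩
  · refine (add_le_add (hstep false) (hstep true)).trans ?_
    simp only [Bool.not_false, Bool.not_true]
    refine le_trans (le_of_eq ?_) (mul_le_mul_of_nonneg_right hf (add_nonneg (hnn _) (hnn _)))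
    ring
  · refine (hstep π).trans ?_
    have hM0 : 0 ≤ M := (hnn π).trans (hM π)
    refine le_trans ?_ (mul_le_mul_of_nonneg_right hf hM0)
    rw [mul_assoc a]
    refine mul_le_mul_of_nonneg_left ?_ ha
    nlinarith [mul_le_mul_of_nonneg_left (add_le_add (hM π) (hM (!π))) hb,
      mul_le_mul_of_nonneg_left (add_le_add (hM π) (hM (!π))) hv, hM π]

theorem symp_level : ∀ j : ℕ, ∃ H, Bound false (1 / 2 : ℝ) (12 + j) H ∧
    colSum H false + colSum H true + 228 / 5 * (1 / 2 : ℝ) ^ (12 + j) ≤ 76 / 5 := by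
  intro j
  induction j with
  | zero => exact ⟨_, symp_table, by norm_num [colSum, quad]⟩
  | succ j ih =>
    obtain ⟨H, hH, hle⟩ := ih
    refine ⟨_, hH.step (by norm_num) (by norm_num), ?_⟩
    have h := (colSum_step (o := false) (k := 12 + j + 1) (by omega) hH.nonneg).1
    rw [show 12 + (j + 1) = 12 + j + 1 by omega, pow_succ]
    rw [pow_succ] at h
    have hp : 0 ≤ (1 / 2 : ℝ) ^ (12 + j) := by positivity
    nlinarith

theorem orth_level : ∀ j : ℕ, ∃ H, Bound true (1 / 2 : ℝ) (12 + j) H ∧
    ∀ π, colSum H π + 45 * (1 / 2 : ℝ) ^ (12 + j) ≤ 15 := by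
  intro j
  induction j with
  | zero => exact ⟨_, orth_table, fun π => by cases π <;> norm_num [colSum, quad]⟩
  | succ j ih =>
    obtain ⟨H, hH, hle⟩ := ih
    refine ⟨_, hH.step (by norm_num) (by norm_num), fun π => ?_⟩
    have hp : 0 ≤ (1 / 2 : ℝ) ^ (12 + j) := by positivity
    have h := (colSum_step (o := true) (k := 12 + j + 1) (by omega) hH.nonneg).2
      (15 - 45 * (1 / 2 : ℝ) ^ (12 + j)) (fun π' => by linarith [hle π']) π
    rw [show 12 + (j + 1) = 12 + j + 1 by omega, pow_succ]
    rw [pow_succ] at h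
    nlinarith

theorem exists_level (S : Finset (Multiset Atom)) : ∃ j : ℕ, ∀ s ∈ S, ∀ a ∈ s, a.idx ≤ 12 + j :=
  ⟨S.sup fun s => (s.map Atom.idx).sum, fun s hs a ha =>
    ((Multiset.le_sum_of_mem (Multiset.mem_map_of_mem Atom.idx ha)).trans
      (Finset.le_sup (f := fun s : Multiset Atom => (s.map Atom.idx).sum) hs)).trans (Nat.le_add_left _ _)⟩

open scoped Classical in
theorem sum_le_colSum {o : Bool} {K : ℕ} {H : Bool → Bool → ℝ} (hH : Bound o (1 / 2 : ℝ) K H) {π : Bool}
    {S : Finset (Multiset Atom)} (hS : ∀ s ∈ S, NormalM o s ∧ (∀ a ∈ s, a.idx ≤ K) ∧ bpar s = π) :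
    ∑ s ∈ S, (1 / 2 : ℝ) ^ wt s ≤ colSum H π := by
  rw [← Finset.sum_filter_add_sum_filter_not S (fun s => Active K s), colSum, add_comm]
  refine add_le_add (hH false π _ fun s hs => ?_) (hH true π _ fun s hs => ?_) <;>
  · rw [Finset.mem_filter] at hs
    exact ⟨(hS s hs.1).1, (hS s hs.1).2.1, by simp [hs.2], (hS s hs.1).2.2⟩

/-- Weighted number of unipotent classes of the symplectic groups in characteristic two. -/
theorem symp_sum_le {S : Finset (Multiset Atom)} (hS : ∀ s ∈ S, NormalM false s) :
    ∑ s ∈ S, (1 / 2 : ℝ) ^ wt s ≤ 76 / 5 := by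
  classical
  obtain ⟨j, hj⟩ := exists_level S
  obtain ⟨H, hH, hle⟩ := symp_level j
  rw [← Finset.sum_filter_add_sum_filter_not S (fun s => bpar s = true)]
  have h1 := sum_le_colSum hH (π := true) (S := S.filter fun s => bpar s = true) fun s hs =>
    ⟨hS s (Finset.mem_filter.1 hs).1, hj s (Finset.mem_filter.1 hs).1, (Finset.mem_filter.1 hs).2⟩
  have h2 := sum_le_colSum hH (π := false) (S := S.filter fun s => ¬bpar s = true) fun s hs =>
    ⟨hS s (Finset.mem_filter.1 hs).1, hj s (Finset.mem_filter.1 hs).1, by simpa using (Finset.mem_filter.1 hs).2⟩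
  have hp : 0 ≤ (1 / 2 : ℝ) ^ (12 + j) := by positivity
  linarith

/-- Weighted number of unipotent classes of the orthogonal groups of one type in characteristic two. -/
theorem orth_sum_le {S : Finset (Multiset Atom)} (π : Bool) (hS : ∀ s ∈ S, NormalM true s ∧ bpar s = π) :
    ∑ s ∈ S, (1 / 2 : ℝ) ^ wt s ≤ 15 := by
  obtain ⟨j, hj⟩ := exists_level S
  obtain ⟨H, hH, hle⟩ := orth_level j
  have h1 := sum_le_colSum hH (π := π) fun s hs => ⟨(hS s hs).1, hj s hs, (hS s hs).2⟩
  have hp : 0 ≤ (1 / 2 : ℝ) ^ (12 + j) := by positivity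
  linarith [hle π]

end CfsgLib.CharTwoClassNum
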