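import Cfsg.Agent.Lib.CharTwoClassNum.OrthElem
import Cfsg.Prelude.Def_Classical

/-!
Lower and upper bounds for the class numbers of orthogonal groups in characteristic two.
-/

set_option autoImplicit false

namespace CfsgLib.CharTwoClassNum

open Polynomial Matrix

universe u

variable {F : Type u} [Field F] [CharP F 2] [Fintype F]

/-- A non-degenerate quadratic form with sign, on any finite index type. -/
structure QuadSign {ι : Type*} [Fintype ι] [DecidableEq ι] (J : Matrix ι ι F) (qf : (ι → F) → F) (e : Bool) : Prop where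
  alt : ∀ v, v ⬝ᵥ J *ᵥ v = 0
  unit : IsUnit J
  add : ∀ u v, qf (u + v) = qf u + qf v + u ⬝ᵥ J *ᵥ v
  smul : ∀ (c : F) v, qf (c • v) = c ^ 2 * qf v
  sign : ∃ c : ℕ, 0 < c ∧ ∑ v, sgn (qf v) = c * sgnBit e

/-- Orthogonal sums. -/
theorem QuadSign.sum {α β : Type*} [Fintype α] [DecidableEq α] [Fintype β] [DecidableEq β] {Ja : Matrix α α F}
    {qa : (α → F) → F} {Jb : Matrix β β F} {qb : (β → F) → F} {ea eb : Bool} (ha : QuadSign Ja qa ea)
    (hb : QuadSign Jb qb eb) :
    QuadSign (fromBlocks Ja 0 0 Jb) (fun x => qa (x ∘ Sum.inl) + qb (x ∘ Sum.inr)) (xor ea eb) := by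
  have hv : ∀ u w : α ⊕ β → F, u ⬝ᵥ fromBlocks Ja 0 0 Jb *ᵥ w =
      (u ∘ Sum.inl) ⬝ᵥ Ja *ᵥ (w ∘ Sum.inl) + (u ∘ Sum.inr) ⬝ᵥ Jb *ᵥ (w ∘ Sum.inr) := fun u w => by
    conv_lhs => rw [← Sum.elim_comp_inl_inr u, Matrix.fromBlocks_mulVec, sumElim_dotProduct_sumElim]
    simp
  refine ⟨fun v => by rw [hv, ha.alt, hb.alt, add_zero], ?_, fun u w => ?_, fun c v => ?_, ?_⟩
  · rw [Matrix.isUnit_iff_isUnit_det, det_fromBlocks_zero₁₂]
    exact ((Matrix.isUnit_iff_isUnit_det _).1 ha.unit).mul ((Matrix.isUnit_iff_isUnit_det _).1 hb.unit)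
  · change qa (u ∘ Sum.inl + w ∘ Sum.inl) + qb (u ∘ Sum.inr + w ∘ Sum.inr) = _
    rw [ha.add, hb.add, hv]
    ring
  · change qa (c • (v ∘ Sum.inl)) + qb (c • (v ∘ Sum.inr)) = _
    rw [ha.smul, hb.smul]
    ring
  · obtain ⟨c, hc, hs⟩ := ha.sign
    obtain ⟨c', hc', hs'⟩ := hb.sign
    refine ⟨c * c', Nat.mul_pos hc hc', ?_⟩
    rw [← Equiv.sum_comp (Equiv.sumArrowEquivProdArrow α β F).symm, Fintype.sum_prod_type, sgnBit_xor]
    push_cast
    rw [show (c : ℤ) * c' * (sgnBit ea * sgnBit eb) = (c * sgnBit ea) * (c' * sgnBit eb) by ring, ← hs, ← hs',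
      Finset.sum_mul_sum]
    refine Finset.sum_congr rfl fun u _ => Finset.sum_congr rfl fun w _ => ?_
    rw [← sgn_add]
    rfl

/-- Transport to coordinates. -/
theorem QuadSign.transport {ι κ : Type*} [Fintype ι] [DecidableEq ι] [Fintype κ] [DecidableEq κ] {J : Matrix ι ι F}
    {qf : (ι → F) → F} {e : Bool} (h : QuadSign J qf e) (σ : ι ≃ κ) :
    QuadSign (Matrix.reindexAlgEquiv F F σ J) (fun v : κ → F => qf (v ∘ σ)) e := by
  have hdot : ∀ u w : κ → F, u ⬝ᵥ Matrix.reindexAlgEquiv F F σ J *ᵥ w = (u ∘ σ) ⬝ᵥ J *ᵥ (w ∘ σ) := fun u w => by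
    rw [show Matrix.reindexAlgEquiv F F σ J *ᵥ w = (J *ᵥ (w ∘ σ)) ∘ σ.symm by simp [Matrix.submatrix_mulVec_equiv],
      ← comp_equiv_dotProduct_comp_equiv _ _ σ, Function.comp_assoc, Equiv.symm_comp_self, Function.comp_id]
  refine ⟨fun v => by rw [hdot]; exact h.alt _, h.unit.map _, fun u v => by rw [hdot]; exact h.add _ _,
    fun c v => h.smul c _, ?_⟩
  obtain ⟨c, hc, hs⟩ := h.sign
  refine ⟨c, hc, ?_⟩
  rw [← hs]
  exact Equiv.sum_comp (σ.arrowCongr (Equiv.refl F)).symm fun w => sgn (qf w)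

omit [CharP F 2] [Fintype F] in
theorem dot_two (u w : Fin 2 → F) (a : F) : u ⬝ᵥ !![0, a; a, 0] *ᵥ w = a * (u 0 * w 1 + u 1 * w 0) := by
  simp [dotProduct, Matrix.mulVec, Fin.sum_univ_two]
  ring

/-- The binary forms. -/
theorem quadSign_binary (p a q : F) (ha : a ≠ 0) :
    QuadSign !![0, a; a, 0] (fun z : Fin 2 → F => p * z 0 ^ 2 + a * z 0 * z 1 + q * z 1 ^ 2) (cls (p * q / a ^ 2)) := by
  refine ⟨fun v => ?_, ?_, fun u v => ?_, fun c v => ?_, ⟨Fintype.card F, Fintype.card_pos, ?_⟩⟩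
  · rw [dot_two, mul_comm (v 1), CharTwo.add_self_eq_zero, mul_zero]
  · rw [Matrix.isUnit_iff_isUnit_det, Matrix.det_fin_two_of]
    simp [ha]
  · simp only [dot_two, Pi.add_apply, CharTwo.add_sq]
    ring
  · simp only [Pi.smul_apply, smul_eq_mul]
    ring
  · rw [← Equiv.sum_comp (finTwoArrowEquiv F).symm, Fintype.sum_prod_type, Finset.sum_comm,
      ← Equiv.sum_comp (Equiv.mulLeft₀ a⁻¹ (inv_ne_zero ha))]
    rw [show p * q / a ^ 2 = p * (q / a ^ 2) by ring, ← sum_plane]
    refine Finset.sum_congr rfl fun b _ => Finset.sum_congr rfl fun x _ => congrArg sgn ?_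
    simp
    field_simp

/-- The hyperbolic forms. -/
theorem quadSign_hyperbolic (n : ℕ) :
    QuadSign (fromBlocks 0 1 1 0) (fun x : Fin n ⊕ Fin n → F => ∑ i, x (.inl i) * x (.inr i)) false := by
  have hv : ∀ u w : Fin n ⊕ Fin n → F, u ⬝ᵥ fromBlocks 0 1 1 0 *ᵥ w =
      (u ∘ Sum.inl) ⬝ᵥ (w ∘ Sum.inr) + (u ∘ Sum.inr) ⬝ᵥ (w ∘ Sum.inl) := fun u w => by
    conv_lhs => rw [← Sum.elim_comp_inl_inr u, Matrix.fromBlocks_mulVec, sumElim_dotProduct_sumElim]
    simp
  refine ⟨fun v => ?_, ?_, fun u w => ?_, fun c v => ?_, ⟨Fintype.card F ^ n, pow_pos Fintype.card_pos _, ?_⟩⟩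
  · rw [hv, dotProduct_comm]; exact CharTwo.add_self_eq_zero _
  · refine IsUnit.of_mul_eq_one (fromBlocks 0 1 1 0) ?_
    simp [Matrix.fromBlocks_multiply, Matrix.fromBlocks_one]
  · rw [hv]
    simp only [dotProduct, Function.comp_apply, Pi.add_apply, ← Finset.sum_add_distrib]
    exact Finset.sum_congr rfl fun i _ => by ring
  · simp only [Pi.smul_apply, smul_eq_mul, Finset.mul_sum]
    exact Finset.sum_congr rfl fun i _ => by ring
  · rw [← Equiv.sum_comp (Equiv.sumArrowEquivProdArrow (Fin n) (Fin n) F).symm, Fintype.sum_prod_type_right,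
      Finset.sum_eq_single (0 : Fin n → F)]
    · simp [sgn_zero, sgnBit]
    · exact fun w _ hw => sum_sgn_dot hw
    · simp

theorem realised_zero : Realised 0 (1 : F[X]) false := by
  refine ⟨1, fun _ => 0, 1, ⟨fun v => by simp [dotProduct], isUnit_one, fun u v => by simp [dotProduct],
    fun c v => by simp⟩, ⟨1, one_pos, ?_⟩, isUnit_one, fun v => rfl, by simp⟩
  simp [signTotal, sgn_zero, sgnBit]

/-- Adding a plane fixed pointwise. -/
theorem realised_plane {n : ℕ} {f : F[X]} {π : Bool} (h : Realised n f π) (π' : Bool) :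
    Realised (n + 1) ((X ^ 2 + 1) * f) π' := by
  obtain ⟨J, qf, g, hq, hs, hg, hiso, rfl⟩ := h
  have hb := quadSign_binary 1 1 (bitVal (xor π π') : F) one_ne_zero
  rw [one_pow, div_one, one_mul, cls_bitVal] at hb
  have hsum := (QuadSign.mk (e := π) hq.alt hq.unit hq.add hq.smul hs).sum hb
  rw [← Bool.xor_assoc, Bool.xor_self, Bool.false_xor] at hsum
  have hX : ((X : F[X]) - 1) ^ 2 = X ^ 2 + 1 := by
    rw [CharTwo.sub_eq_add, CharTwo.add_sq, one_pow]
  have hc : (fromBlocks g 0 0 (1 : Matrix (Fin 2) (Fin 2) F)).charpoly = (X ^ 2 + 1) * g.charpoly := by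
    rw [charpoly_fromBlocks_zero₂₁, charpoly_one, Fintype.card_fin, hX, mul_comm]
  rw [← hc]
  refine realised_of_equiv (finSumFinEquiv.trans (finCongr (by omega))) _ _ _ hsum.alt hsum.unit hsum.add hsum.smul
    hsum.sign ?_ fun x => ?_
  · rw [Matrix.isUnit_iff_isUnit_det, det_fromBlocks_zero₁₂, det_one, mul_one]
    exact (Matrix.isUnit_iff_isUnit_det _).1 hg
  · simp [Matrix.fromBlocks_mulVec, hiso]

theorem exists_realised : ∀ (n : ℕ) (v : Fin n → F), ∃ π, Realised n (recipPoly v) π := by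
  intro n
  induction n with
  | zero =>
    intro v
    exact ⟨false, by simpa [recipPoly, hPoly] using realised_zero⟩
  | succ n ih =>
    intro v
    by_cases h : v 0 = 0
    · obtain ⟨π, hπ⟩ := ih (Fin.tail v)
      rw [← Fin.cons_self_tail v, h, recipPoly_cons_zero]
      exact ⟨false, realised_plane hπ false⟩
    · exact ⟨_, realised_direct v h⟩

theorem card_realised (k : ℕ) (π : Bool) : ∃ s : Finset (Fin (k + 2) → F),
    (∀ v ∈ s, Realised (k + 2) (recipPoly v) π) ∧ Fintype.card F ^ (k + 2) ≤ 2 * s.card := by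
  classical
  obtain ⟨d, hd⟩ := exists_cls (F := F) true
  set s := (Finset.univ : Finset (Fin (k + 2) → F)).filter fun v => Realised (k + 2) (recipPoly v) π with hs
  refine ⟨s, fun v hv => (Finset.mem_filter.1 hv).2, ?_⟩
  let φ : (Fin (k + 2) → F) → Fin (k + 2) → F := fun v => Function.update v 1 (v 1 + v 0 * d)
  have h10 : (0 : Fin (k + 2)) ≠ 1 := zero_ne_one
  have hφ : Function.Involutive φ := fun v => by
    simp only [φ, Function.update_self, Function.update_of_ne h10, Function.update_idem, add_assoc,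
      CharTwo.add_self_eq_zero, add_zero, Function.update_eq_self]
  have hbad : ((Finset.univ : Finset (Fin (k + 2) → F)).filter fun v => ¬ Realised (k + 2) (recipPoly v) π).card ≤
      s.card := by
    refine Finset.card_le_card_of_injOn φ (fun v hv => ?_) hφ.injective.injOn
    rw [Finset.coe_filter] at hv
    obtain ⟨-, hv⟩ := hv
    have h0 : v 0 ≠ 0 := fun h => hv <| by
      obtain ⟨π₀, hπ⟩ := exists_realised (k + 1) (Fin.tail v)
      rw [← Fin.cons_self_tail v, h, recipPoly_cons_zero]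
      exact realised_plane hπ π
    have hne : cls (v 1 / v 0) ≠ π := fun h => hv <| by
      have := realised_direct v h0
      rwa [show (hPoly v).coeff 1 = v 1 by simpa using hPoly_coeff v 1, h] at this
    have hφ0 : φ v 0 = v 0 := Function.update_of_ne h10 _ _
    refine Finset.mem_coe.2 (Finset.mem_filter.2 ⟨Finset.mem_univ _, ?_⟩)
    have := realised_direct (φ v) (by rw [hφ0]; exact h0)
    rw [show (hPoly (φ v)).coeff 1 = φ v 1 by simpa using hPoly_coeff (φ v) 1, hφ0] at this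
    have hval : cls (φ v 1 / v 0) = π := by
      simp only [φ, Function.update_self]
      rw [add_div, mul_div_cancel_left₀ d h0, cls_add, hd]
      revert hne; cases cls (v 1 / v 0) <;> cases π <;> simp
    rwa [hval] at this
  have := Finset.card_filter_add_card_filter_not (s := (Finset.univ : Finset (Fin (k + 2) → F)))
    (fun v => Realised (k + 2) (recipPoly v) π)
  rw [Finset.card_univ, Fintype.card_fun, Fintype.card_fin] at this
  rw [← hs] at this
  omega

variable {ι : Type} [Fintype ι] [DecidableEq ι] {J : Matrix ι ι F} {Q : (ι → F) → F} {π : Bool}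

theorem QuadSign.isQuad {m : ℕ} {J' : Matrix (Fin m) (Fin m) F} {qf : (Fin m → F) → F} (h : QuadSign J' qf π) :
    IsQuad J' qf ∧ HasSign qf π :=
  ⟨⟨h.alt, h.unit, h.add, h.smul⟩, h.sign⟩

/-- At least half of the reciprocal polynomials occur. -/
theorem lower_classes {n : ℕ} (hn : 2 ≤ n) (hι : Fintype.card ι = n + n) (h : QuadSign J Q π) :
    Fintype.card F ^ n ≤ 2 * Nat.card (ConjClasses ↥(Cfsg.isometryGroup F Q)) := by
  classical
  obtain ⟨k, rfl⟩ := Nat.exists_eq_add_of_le hn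
  rw [add_comm 2 k] at *
  let σ := Fintype.equivFinOfCardEq hι
  obtain ⟨hq, hsg⟩ := (h.transport σ).isQuad
  obtain ⟨s, hs, hcard⟩ := card_realised (F := F) k π
  refine hcard.trans (Nat.mul_le_mul_left 2 ?_)
  have key : ∀ v : s, ∃ x : ↥(Cfsg.isometryGroup F Q),
      ((x : GL ι F) : Matrix ι ι F).charpoly = recipPoly (v : Fin (k + 2) → F) := by
    intro v
    obtain ⟨J', qf', g, hq', hs', hg, hiso, hpoly⟩ := hs v.1 v.2
    obtain ⟨T, hT⟩ := hq.exists_isometry rfl hq' hsg hs'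
    have hM : ∀ w, Q (((((T⁻¹ : GL _ F) : Matrix _ _ F) * g * (T : Matrix _ _ F)) *ᵥ w) ∘ σ) = Q (w ∘ σ) := fun w => by
      rw [← hT, ← hT w, Matrix.mulVec_mulVec, ← Matrix.mul_assoc, ← Matrix.mul_assoc, ← Units.val_mul,
        mul_inv_cancel, Units.val_one, one_mul, ← Matrix.mulVec_mulVec, hiso]
    let ρ := Matrix.reindexAlgEquiv F F σ.symm
    have hu : IsUnit (ρ (((T⁻¹ : GL _ F) : Matrix _ _ F) * g * (T : Matrix _ _ F))) := ((T⁻¹.isUnit.mul hg).mul T.isUnit).map ρ
    refine ⟨⟨hu.unit, fun u _ => ?_⟩, ?_⟩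
    · change Q ((ρ (((T⁻¹ : GL _ F) : Matrix _ _ F) * g * (T : Matrix _ _ F))) *ᵥ u) = Q u
      have := hM (u ∘ σ.symm)
      rw [Function.comp_assoc, Equiv.symm_comp_self, Function.comp_id] at this
      rw [← this]
      exact congrArg Q (by simp [ρ, Matrix.submatrix_mulVec_equiv])
    · rw [IsUnit.unit_spec]
      exact ((Matrix.charpoly_reindex σ.symm _).trans (by rw [Matrix.coe_units_inv, charpoly_units_conj'])).trans hpoly
  choose x hx using key
  haveI : Finite (ConjClasses ↥(Cfsg.isometryGroup F Q)) := Finite.of_surjective _ ConjClasses.mk_surjective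
  rw [← Fintype.card_coe s, ← Nat.card_eq_fintype_card]
  refine Nat.card_le_card_of_injective (fun v => ConjClasses.mk (x v)) fun v w hvw => ?_
  obtain ⟨c, hc⟩ := isConj_iff.1 (ConjClasses.mk_eq_mk_iff_isConj.1 hvw)
  refine Subtype.ext (recipPoly_injective ?_)
  rw [← hx, ← hx, ← hc]
  simp only [Subgroup.coe_mul, Units.val_mul, Subgroup.coe_inv]
  rw [Matrix.coe_units_inv, charpoly_units_conj]

/-- The upper bound. -/
theorem upper_classes {n : ℕ} (hι : Fintype.card ι = n + n) (h : QuadSign J Q π) :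
    Nat.card (ConjClasses ↥(Cfsg.isometryGroup F Q)) ≤ 15 * Fintype.card F ^ n := by
  classical
  let σ := Fintype.equivFinOfCardEq hι
  obtain ⟨hq, hsg⟩ := (h.transport σ).isQuad
  let ρ := Matrix.reindexAlgEquiv F F σ
  have hmv : ∀ (M : Matrix ι ι F) (v : Fin (n + n) → F), (ρ M *ᵥ v) ∘ σ = M *ᵥ (v ∘ σ) := fun M v => by
    funext i
    simp [ρ, Matrix.submatrix_mulVec_equiv]
  haveI : Finite (ConjClasses ↥(Cfsg.isometryGroup F Q)) := Finite.of_surjective _ ConjClasses.mk_surjective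
  have hpres : ∀ M : Matrix ι ι F, (∀ v, Q (M *ᵥ v) = Q v) → (ρ M)ᵀ * ρ J * ρ M = ρ J := by
    intro M hM
    have hp : ∀ u w : Fin (n + n) → F, (ρ M *ᵥ u) ⬝ᵥ ρ J *ᵥ (ρ M *ᵥ w) = u ⬝ᵥ ρ J *ᵥ w := fun u w => by
      have e1 := hq.add (ρ M *ᵥ u) (ρ M *ᵥ w)
      rw [← Matrix.mulVec_add] at e1
      simp only [hmv, hM] at e1
      rw [hq.add u w] at e1
      exact (add_left_cancel e1).symm
    ext i j
    have := hp (Pi.single i 1) (Pi.single j 1)
    rw [dotProduct_comm, Matrix.dotProduct_mulVec, ← Matrix.mulVec_transpose, Matrix.mulVec_mulVec,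
      Matrix.mulVec_mulVec, dotProduct_comm] at this
    simpa [single_one_dotProduct, Matrix.mul_assoc] using this
  have hne : signTotal (fun v : Fin (n + n) → F => Q (v ∘ σ)) ≠ 0 := by
    obtain ⟨c, hc, e⟩ := hsg
    rw [e]
    cases π <;> simp [sgnBit] <;> omega
  obtain ⟨T, hT, hle⟩ := card_classes_le (o := true) (n := n) rfl hq.alt hq.unit (fun _ => hq.add) (fun _ => hq.smul)
    (fun _ => hne) (fun c : ConjClasses ↥(Cfsg.isometryGroup F Q) => ρ ((c.out.1 : GL ι F) : Matrix ι ι F))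
    (fun c => hpres _ fun v => c.out.2 v v)
    (fun _ c v => by simp only [hmv]; exact c.out.2 _ (v ∘ σ))
    fun c c' Z hZ hZq hZA => by
      obtain ⟨W, rfl⟩ := ρ.surjective Z
      have hW : ∀ v, Q (W *ᵥ v) = Q v := fun v => by
        have := hZq rfl (v ∘ σ.symm)
        simpa [hmv, Function.comp_assoc] using this
      have hu : IsUnit W := by
        have hd : IsUnit ((ρ W).det) := by
          have e := congrArg Matrix.det hZ
          rw [det_mul, det_mul, det_transpose] at e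
          have hJd := (Matrix.isUnit_iff_isUnit_det _).1 hq.unit
          exact isUnit_of_mul_isUnit_right (e ▸ hJd)
        have := ((Matrix.isUnit_iff_isUnit_det _).2 hd).map ρ.symm
        rwa [AlgEquiv.symm_apply_apply] at this
      rw [← c.out_eq, ← c'.out_eq]
      refine Quotient.sound (isConj_iff.2 ⟨⟨hu.unit, fun v _ => hW v⟩, ?_⟩)
      rw [mul_inv_eq_iff_eq_mul]
      rw [← map_mul, ← map_mul] at hZA
      exact Subtype.ext (Units.ext (ρ.injective hZA))
  have h15 := hle.trans (mul_le_mul_of_nonneg_left (orth_sum_le false fun t ht => ⟨(hT t ht).1, (hT t ht).2 rfl⟩)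
    (by positivity))
  rw [mul_comm]
  exact_mod_cast h15

end CfsgLib.CharTwoClassNum
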