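import Cfsg.Agent.Lib.CharTwoClassNum.OrthForms
import Cfsg.Agent.Lib.SpClassNum.Lower

/-!
Elements of orthogonal groups with given characteristic polynomial, characteristic two.
-/

set_option autoImplicit false

namespace CfsgLib.CharTwoClassNum

open Polynomial Matrix CfsgLib.SpClassNum

variable {F : Type*} [Field F] [CharP F 2] [Fintype F]

omit [Fintype F] in
/-- A symmetric quadratic expression only sees the diagonal. -/
theorem quad_diag {κ : Type*} [Fintype κ] [DecidableEq κ] (M : Matrix κ κ F) (hM : Mᵀ = M) (v : κ → F) :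
    v ⬝ᵥ M *ᵥ v = ∑ i, v i ^ 2 * M i i := by
  have h : v ⬝ᵥ M *ᵥ v = ∑ p : κ × κ, v p.1 * (M p.1 p.2 * v p.2) := by
    rw [Fintype.sum_prod_type]
    simp only [dotProduct, Matrix.mulVec, Finset.mul_sum]
  rw [h, ← Finset.sum_filter_add_sum_filter_not Finset.univ (fun p : κ × κ => p.1 = p.2)]
  have h2 : ∑ p ∈ Finset.univ.filter (fun p : κ × κ => ¬p.1 = p.2), v p.1 * (M p.1 p.2 * v p.2) = 0 := by
    refine Finset.sum_involution (fun p _ => Prod.swap p) (fun p _ => ?_) (fun p hp _ => ?_) (fun p hp => ?_)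
      fun p _ => Prod.swap_swap p
    · have e : M p.2 p.1 = M p.1 p.2 := congrFun (congrFun hM p.1) p.2
      simp only [Prod.fst_swap, Prod.snd_swap, e]
      linear_combination (v p.1 * v p.2 * M p.1 p.2) * CharTwo.two_eq_zero (R := F)
    · simp only [Finset.mem_filter] at hp
      exact fun e => hp.2 (by rw [← congrArg Prod.snd e]; rfl)
    · simp only [Finset.mem_filter, Finset.mem_univ, true_and, Prod.fst_swap, Prod.snd_swap] at hp ⊢
      exact fun e => hp e.symm
  rw [h2, add_zero]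
  refine Finset.sum_bij' (fun p _ => p.1) (fun i _ => (i, i)) (fun p _ => Finset.mem_univ _)
    (fun i _ => by simp) (fun p hp => ?_) (fun i _ => rfl) (fun p hp => ?_)
  all_goals simp only [Finset.mem_filter] at hp
  · exact Prod.ext rfl hp.2
  · rw [← hp.2]; ring

theorem sum_sgn_dot {n : ℕ} {w : Fin n → F} (hw : w ≠ 0) : ∑ u : Fin n → F, sgn (u ⬝ᵥ w) = 0 := by
  obtain ⟨i, hi⟩ := Function.ne_iff.1 hw
  obtain ⟨d, hd⟩ := exists_cls (F := F) true
  set x : Fin n → F := Pi.single i (d / w i)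
  have hx : sgn (x ⬝ᵥ w) = -1 := by
    rw [single_dotProduct, div_mul_cancel₀ d hi]; simp [sgn, hd]
  have h : ∑ u : Fin n → F, sgn (u ⬝ᵥ w) = ∑ u : Fin n → F, sgn ((u + x) ⬝ᵥ w) :=
    (Fintype.sum_equiv (Equiv.addRight x) (fun u => sgn ((u + x) ⬝ᵥ w)) (fun u => sgn (u ⬝ᵥ w)) fun u => rfl).symm
  simp only [add_dotProduct, sgn_add, hx, mul_neg_one, Finset.sum_neg_distrib] at h
  omega

/-- The monic polynomial with the given lower coefficients. -/
noncomputable def hPoly {n : ℕ} (v : Fin n → F) : F[X] :=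
  X ^ n + ∑ j : Fin n, Polynomial.C (v j) * X ^ (j : ℕ)

omit [CharP F 2] [Fintype F] in
theorem hPoly_coeff {n : ℕ} (v : Fin n → F) (j : Fin n) : (hPoly v).coeff j = v j := by
  simp only [hPoly, coeff_add, coeff_X_pow, finsetSum_coeff, coeff_C_mul_X_pow]
  rw [if_neg (by omega), zero_add, Finset.sum_eq_single j]
  · simp
  · intro b _ hb; exact if_neg fun h => hb (Fin.ext h.symm)
  · simp

omit [CharP F 2] [Fintype F] in
theorem hPoly_monic {n : ℕ} (v : Fin n → F) : (hPoly v).Monic :=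
  monic_X_pow_add (degree_sum_fin_lt v)

omit [CharP F 2] [Fintype F] in
theorem hPoly_natDegree {n : ℕ} (v : Fin n → F) : (hPoly v).natDegree = n := by
  apply natDegree_eq_of_degree_eq_some
  have hlt : (∑ j : Fin n, Polynomial.C (v j) * X ^ (j : ℕ)).degree < (n : WithBot ℕ) := degree_sum_fin_lt v
  rw [hPoly, degree_add_eq_left_of_degree_lt (by rwa [degree_X_pow]), degree_X_pow]

/-- The reciprocal polynomial attached to `v`. -/
noncomputable def recipPoly {n : ℕ} (v : Fin n → F) : F[X] :=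
  ∑ k ∈ Finset.range (n + 1), Polynomial.C ((hPoly v).coeff k) * (X ^ 2 + 1) ^ k * X ^ (n - k)

omit [CharP F 2] [Fintype F] in
theorem recipPoly_injective {n : ℕ} : Function.Injective (recipPoly (F := F) (n := n)) := by
  classical
  intro v w hsum
  funext j
  by_contra hne
  set s := (Finset.univ : Finset (Fin n)).filter fun i => v i ≠ w i with hs
  obtain ⟨k, hk, hmax⟩ := Finset.exists_max_image s (fun i => (i : ℕ)) ⟨j, by simp [hs, hne]⟩
  rw [hs, Finset.mem_filter] at hk
  have h0 : ∑ i ∈ Finset.range (n + 1),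
      Polynomial.C ((hPoly v).coeff i - (hPoly w).coeff i) * (X ^ 2 + 1) ^ i * X ^ (n - i) = 0 := by
    simp only [map_sub, sub_mul, Finset.sum_sub_distrib]
    exact sub_eq_zero.2 hsum
  have hc := congrArg (fun p : F[X] => p.coeff (n + (k : ℕ))) h0
  simp only [coeff_zero, finsetSum_coeff] at hc
  rw [Finset.sum_eq_single (k : ℕ)] at hc
  · rw [mul_assoc, coeff_C_mul, hPoly_coeff, hPoly_coeff] at hc
    have hco : (((X : F[X]) ^ 2 + 1) ^ (k : ℕ) * X ^ (n - (k : ℕ))).coeff (n + (k : ℕ)) = 1 := by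
      have hk2 := k.2
      rw [coeff_mul_X_pow', if_pos (by omega), show n + (k : ℕ) - (n - (k : ℕ)) = (k : ℕ) * 2 by omega]
      have hm2 : (((X : F[X]) ^ 2 + 1) ^ (k : ℕ)).Monic := by
        have := (monic_X_pow_add_C (1 : F) two_ne_zero).pow (k : ℕ)
        simpa using this
      have hd2 : (((X : F[X]) ^ 2 + 1) ^ (k : ℕ)).natDegree = (k : ℕ) * 2 := by
        rw [natDegree_pow, ← Polynomial.C_1, natDegree_X_pow_add_C]
      rw [← hd2]
      exact hm2
    rw [hco, mul_one] at hc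
    exact hk.2 (sub_eq_zero.1 hc)
  · intro i hi hik
    rw [Finset.mem_range] at hi
    rcases Nat.lt_or_ge (k : ℕ) i with h | h
    · rcases Nat.eq_or_lt_of_le (Nat.lt_succ_iff.1 hi) with h' | h'
      · subst h'
        have e1 : (hPoly v).coeff i = 1 := by
          have := (hPoly_monic v).coeff_natDegree
          rwa [hPoly_natDegree] at this
        have e2 : (hPoly w).coeff i = 1 := by
          have := (hPoly_monic w).coeff_natDegree
          rwa [hPoly_natDegree] at this
        rw [e1, e2, sub_self, map_zero, zero_mul, zero_mul, coeff_zero]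
      · have e1 : v ⟨i, h'⟩ = w ⟨i, h'⟩ := by
          by_contra hvi
          have := hmax ⟨i, h'⟩ (by simp [hs, hvi])
          simp at this
          omega
        rw [show (hPoly v).coeff i = v ⟨i, h'⟩ from hPoly_coeff v ⟨i, h'⟩,
          show (hPoly w).coeff i = w ⟨i, h'⟩ from hPoly_coeff w ⟨i, h'⟩, e1, sub_self, map_zero, zero_mul, zero_mul,
          coeff_zero]
    · refine coeff_eq_zero_of_natDegree_lt ?_
      refine lt_of_le_of_lt natDegree_mul_le ?_
      refine lt_of_le_of_lt (Nat.add_le_add natDegree_mul_le le_rfl) ?_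
      have h2 : ((X : F[X]) ^ 2 + 1).natDegree = 2 := by rw [← Polynomial.C_1, natDegree_X_pow_add_C]
      rw [natDegree_C, natDegree_pow, h2, natDegree_X_pow]
      have := k.2
      omega
  · intro hk'
    exact absurd (Finset.mem_range.2 (by have := k.2; omega)) hk'

omit [CharP F 2] [Fintype F] in
theorem recipPoly_cons_zero {n : ℕ} (v : Fin n → F) :
    recipPoly (Fin.cons 0 v : Fin (n + 1) → F) = (X ^ 2 + 1) * recipPoly v := by
  have h : hPoly (Fin.cons 0 v : Fin (n + 1) → F) = X * hPoly v := by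
    simp only [hPoly, Fin.sum_univ_succ, Fin.cons_zero, Fin.cons_succ, Fin.val_succ, map_zero, zero_mul, zero_add,
      mul_add, Finset.mul_sum, pow_succ']
    congr 1
    exact Finset.sum_congr rfl fun i _ => by ring
  rw [recipPoly, Finset.sum_range_succ']
  simp only [h, coeff_X_mul, mul_coeff_zero, coeff_X_zero, zero_mul, map_zero, add_zero]
  rw [recipPoly, Finset.mul_sum]
  refine Finset.sum_congr rfl fun k _ => ?_
  rw [Nat.add_sub_add_right, pow_succ]
  ring

/-- `f` is the characteristic polynomial of an isometry of a form with sign `e`. -/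
def Realised (n : ℕ) (f : F[X]) (e : Bool) : Prop :=
  ∃ (J : Matrix (Fin (n + n)) (Fin (n + n)) F) (qf : (Fin (n + n) → F) → F)
    (g : Matrix (Fin (n + n)) (Fin (n + n)) F),
    IsQuad J qf ∧ HasSign qf e ∧ IsUnit g ∧ (∀ v, qf (g *ᵥ v) = qf v) ∧ g.charpoly = f

/-- Transport of a realisation to coordinates. -/
theorem realised_of_equiv {ι : Type*} [Fintype ι] [DecidableEq ι] {n : ℕ} (σ : ι ≃ Fin (n + n)) {e : Bool}
    (J g : Matrix ι ι F) (qf : (ι → F) → F) (halt : ∀ v, v ⬝ᵥ J *ᵥ v = 0) (hJ : IsUnit J)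
    (hadd : ∀ u v, qf (u + v) = qf u + qf v + u ⬝ᵥ J *ᵥ v) (hsmul : ∀ (c : F) v, qf (c • v) = c ^ 2 * qf v)
    (hsign : ∃ c : ℕ, 0 < c ∧ ∑ v, sgn (qf v) = c * sgnBit e) (hg : IsUnit g) (hiso : ∀ v, qf (g *ᵥ v) = qf v) :
    Realised n g.charpoly e := by
  let ρ := Matrix.reindexAlgEquiv F F σ
  have hmv : ∀ (M : Matrix ι ι F) v, ρ M *ᵥ v = (M *ᵥ (v ∘ σ)) ∘ σ.symm := fun M v => by
    simp [ρ, Matrix.submatrix_mulVec_equiv]
  have hdot : ∀ (u w : Fin (n + n) → F) (M : Matrix ι ι F), u ⬝ᵥ ρ M *ᵥ w = (u ∘ σ) ⬝ᵥ M *ᵥ (w ∘ σ) := fun u w M => by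
    rw [hmv, ← comp_equiv_dotProduct_comp_equiv _ _ σ, Function.comp_assoc, Equiv.symm_comp_self, Function.comp_id]
  refine ⟨ρ J, fun v => qf (v ∘ σ), ρ g, ⟨fun v => by rw [hdot]; exact halt _, hJ.map ρ,
    fun u v => by rw [hdot]; exact hadd _ _, fun c v => hsmul c _⟩, ?_, hg.map ρ, fun v => ?_,
    Matrix.charpoly_reindex σ g⟩
  · obtain ⟨c, hc, hs⟩ := hsign
    refine ⟨c, hc, ?_⟩
    rw [← hs, signTotal]
    exact (Equiv.sum_comp (σ.arrowCongr (Equiv.refl F)).symm fun w => sgn (qf w))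
  · simp only [hmv, Function.comp_assoc, Equiv.symm_comp_self, Function.comp_id]
    exact hiso _

/-- An element without eigenvalue one, and the sign of its form. -/
theorem realised_direct {e : ℕ} (v : Fin (e + 1) → F) (h0 : v 0 ≠ 0) :
    Realised (e + 1) (recipPoly v) (cls ((hPoly v).coeff 1 / v 0)) := by
  classical
  set g := hPoly v with hgdef
  have hm : g.Monic := hPoly_monic v
  have hd : g.natDegree = e + 1 := hPoly_natDegree v
  let R := AdjoinRoot g
  let pb := AdjoinRoot.powerBasis hm.ne_zero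
  haveI : Nontrivial R := AdjoinRoot.nontrivial g (by rw [degree_eq_natDegree hm.ne_zero, hd]; exact_mod_cast Nat.succ_ne_zero e)
  haveI : CharP R 2 := charP_of_injective_algebraMap (algebraMap F R).injective 2
  have hdim : pb.dim = e + 1 := hd
  let b : Module.Basis (Fin (e + 1)) F R := pb.basis.reindex (finCongr hdim)
  set r : R := AdjoinRoot.root g with hr
  have hb : ∀ i : Fin (e + 1), b i = r ^ (i : ℕ) := fun i => by
    simp [b, pb, hr]
  let l : R →ₗ[F] F := (lcoeff F e).comp (AdjoinRoot.modByMonicHom hm)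
  have hl : ∀ p : F[X], p.natDegree ≤ e → l (AdjoinRoot.mk g p) = p.coeff e := fun p hp => by
    change (AdjoinRoot.modByMonicHom hm (AdjoinRoot.mk g p)).coeff e = _
    rw [AdjoinRoot.modByMonicHom_mk, (modByMonic_eq_self_iff hm).2]
    exact degree_lt_degree (by omega)
  have hrp : ∀ i, r ^ i = AdjoinRoot.mk g (X ^ i) := fun i => by rw [map_pow, AdjoinRoot.mk_X]
  let D : Matrix (Fin (e + 1)) (Fin (e + 1)) F := Algebra.leftMulMatrix b r
  let S : Matrix (Fin (e + 1)) (Fin (e + 1)) F := Matrix.of fun i j => l (b i * b j)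
  let Y : ℕ → F[X] := fun k => ∑ j ∈ Finset.range (e + 1 - k), Polynomial.C (g.coeff (j + k + 1)) * X ^ j
  let T : Matrix (Fin (e + 1)) (Fin (e + 1)) F := Matrix.of fun i j => g.coeff ((i : ℕ) + j + 1)
  have hYdeg : ∀ k, (Y k).natDegree ≤ e - k := fun k => by
    refine natDegree_sum_le_of_forall_le _ _ fun j hj => (natDegree_C_mul_X_pow_le _ _).trans ?_
    rw [Finset.mem_range] at hj; omega
  have hYc : ∀ k j, (Y k).coeff j = g.coeff (j + k + 1) := fun k j => by
    simp only [Y, finsetSum_coeff, coeff_C_mul_X_pow]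
    rw [Finset.sum_eq_single j]
    · simp
    · exact fun b _ hb => if_neg (Ne.symm hb)
    · intro h
      rw [Finset.mem_range] at h
      rw [if_pos rfl, coeff_eq_zero_of_natDegree_lt]
      rw [hd]; omega
  have hYid : ∀ k ≤ e, X ^ (k + 1) * Y k + ∑ i ∈ Finset.range (k + 1), Polynomial.C (g.coeff i) * X ^ i = g := by
    intro k hk
    conv_rhs => rw [g.as_sum_range_C_mul_X_pow, hd, show e + 1 + 1 = (k + 1) + (e + 1 - k) by omega,
      Finset.sum_range_add]
    rw [add_comm, Finset.mul_sum]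
    congr 1
    refine Finset.sum_congr rfl fun j _ => ?_
    rw [show k + 1 + j = j + k + 1 by omega, show j + k + 1 = (k + 1) + j by omega, pow_add]
    ring
  -- the dual basis
  have hdual : ∀ i k : Fin (e + 1), l (b i * AdjoinRoot.mk g (Y k)) = if i = k then 1 else 0 := by
    intro i k
    rw [hb, hrp, ← map_mul]
    have hi := i.2; have hk := k.2
    rcases Nat.lt_or_ge (k : ℕ) i with h | h
    · rw [if_neg (fun e => by subst e; omega)]
      obtain ⟨c, hc⟩ : ∃ c, (i : ℕ) = c + ((k : ℕ) + 1) := ⟨(i : ℕ) - (k + 1), by omega⟩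
      have hz : AdjoinRoot.mk g (X ^ (i : ℕ) * Y k) =
          AdjoinRoot.mk g (X ^ c * ∑ j ∈ Finset.range ((k : ℕ) + 1), Polynomial.C (g.coeff j) * X ^ j) := by
        rw [hc, pow_add, mul_assoc, map_mul (AdjoinRoot.mk g) (X ^ c), map_mul (AdjoinRoot.mk g) (X ^ c)]
        congr 1
        rw [AdjoinRoot.mk_eq_mk]
        refine ⟨1, ?_⟩
        have h2 := hYid k (by omega)
        linear_combination h2 - (∑ j ∈ Finset.range ((k : ℕ) + 1), Polynomial.C (g.coeff j) * X ^ j) *
          (CharTwo.two_eq_zero (R := F[X]))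
      rw [hz, hl]
      · rw [coeff_X_pow_mul', if_pos (by omega)]
        simp only [finsetSum_coeff, coeff_C_mul_X_pow]
        exact Finset.sum_eq_zero fun j hj => if_neg (by rw [Finset.mem_range] at hj; omega)
      · refine natDegree_mul_le.trans ?_
        rw [natDegree_X_pow]
        have : (∑ j ∈ Finset.range ((k : ℕ) + 1), Polynomial.C (g.coeff j) * X ^ j).natDegree ≤ (k : ℕ) :=
          natDegree_sum_le_of_forall_le _ _ fun j hj => (natDegree_C_mul_X_pow_le _ _).trans
            (by rw [Finset.mem_range] at hj; omega)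
        omega
    · rw [hl]
      · rw [coeff_X_pow_mul', if_pos (by omega), hYc]
        by_cases hik : i = k
        · subst hik
          rw [if_pos rfl, show e - (i : ℕ) + (i : ℕ) + 1 = g.natDegree by omega, hm.coeff_natDegree]
        · rw [if_neg hik, coeff_eq_zero_of_natDegree_lt]
          rw [hd]
          have : (i : ℕ) ≠ k := fun h => hik (Fin.ext h)
          omega
      · refine natDegree_mul_le.trans ?_
        rw [natDegree_X_pow]
        have := hYdeg k
        omega
  have hS : Sᵀ = S := by ext i j; simp [S, mul_comm]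
  have hST : S * T = 1 := by
    ext i k
    rw [Matrix.mul_apply, Matrix.one_apply, ← hdual i k]
    have hY : AdjoinRoot.mk g (Y k) = ∑ j : Fin (e + 1), g.coeff ((j : ℕ) + k + 1) • b j := by
      rw [(Y k).as_sum_range' (e + 1) (Nat.lt_succ_of_le ((hYdeg k).trans (Nat.sub_le _ _))), Finset.sum_range,
        map_sum]
      refine Finset.sum_congr rfl fun j _ => ?_
      rw [← C_mul_X_pow_eq_monomial, map_mul, AdjoinRoot.mk_C, hYc, hb, hrp, Algebra.smul_def,
        AdjoinRoot.algebraMap_eq]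
    rw [hY, Finset.mul_sum, map_sum]
    refine Finset.sum_congr rfl fun j _ => ?_
    rw [mul_smul_comm, map_smul, smul_eq_mul, mul_comm]
    simp only [S, T, Matrix.of_apply]
  have hTS : T * S = 1 := mul_eq_one_comm.1 hST
  have hSD : ∀ i j, (S * D) i j = l (b i * (r * b j)) := by
    intro i j
    conv_rhs => rw [← b.sum_repr (r * b j)]
    rw [Matrix.mul_apply, Finset.mul_sum, map_sum]
    refine Finset.sum_congr rfl fun k _ => ?_
    rw [mul_smul_comm, map_smul, smul_eq_mul, mul_comm]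
    simp only [S, D, Matrix.of_apply, Algebra.leftMulMatrix_eq_repr_mul]
  have hSDt : (S * D)ᵀ = S * D := by
    ext i j
    rw [Matrix.transpose_apply, hSD, hSD]
    congr 1
    ring
  -- the inverse of the root
  have hg0 : g.coeff 0 = v 0 := by simpa using hPoly_coeff v 0
  set ri : R := (v 0)⁻¹ • AdjoinRoot.mk g (Y 0) with hri
  have hrri : r * ri = 1 := by
    have h2 := congrArg (AdjoinRoot.mk g) (hYid 0 (by omega))
    simp only [AdjoinRoot.mk_self, map_add, Finset.sum_range_one, map_mul, map_pow, AdjoinRoot.mk_X, pow_zero,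
      mul_one, AdjoinRoot.mk_C, hg0, Nat.zero_add, pow_one] at h2
    have h3 : r * AdjoinRoot.mk g (Y 0) = algebraMap F R (v 0) := by
      rw [AdjoinRoot.algebraMap_eq]
      have h4 : AdjoinRoot.of g (v 0) + AdjoinRoot.of g (v 0) = 0 := by
        rw [← map_add, CharTwo.add_self_eq_zero, map_zero]
      linear_combination h2 - h4
    rw [hri, mul_smul_comm, h3, Algebra.smul_def, ← map_mul, inv_mul_cancel₀ h0, map_one]
  choose c hc using fun j => exists_sqrt (l (b j * b j * ri))
  set a : Fin (e + 1) → F := T *ᵥ c with hadef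
  have haS : ∀ w, a ⬝ᵥ (S *ᵥ w) = c ⬝ᵥ w := fun w => by
    rw [hadef, Matrix.dotProduct_mulVec, ← Matrix.mulVec_transpose, hS, Matrix.mulVec_mulVec, hST, Matrix.one_mulVec]
  have hTt : Tᵀ = T := by ext i j; simp [T, add_comm]
  -- the key identity
  have hc2 : ∀ z : Fin (e + 1) → F, (c ⬝ᵥ z) ^ 2 = l ((∑ i, z i • b i) * (∑ i, z i • b i) * ri) := by
    intro z
    rw [dotProduct, CharTwo.sum_sq, ← pow_two (∑ i, z i • b i), CharTwo.sum_sq, Finset.sum_mul, map_sum]
    refine Finset.sum_congr rfl fun i _ => ?_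
    rw [_root_.smul_pow, smul_mul_assoc, map_smul, smul_eq_mul, pow_two (b i), ← hc i]
    ring
  have hkey : ∀ w, (S *ᵥ w) ⬝ᵥ (D *ᵥ w) + (c ⬝ᵥ (D *ᵥ w)) ^ 2 = 0 := fun w => by
    have hDw : ∑ i, (D *ᵥ w) i • b i = r * ∑ j, w j • b j := by
      have h2 : ∀ j, r * b j = ∑ i, D i j • b i := fun j => by
        conv_lhs => rw [← b.sum_repr (r * b j)]
        simp only [D, Algebra.leftMulMatrix_eq_repr_mul]
      rw [Finset.mul_sum]
      simp only [mul_smul_comm, h2, Finset.smul_sum, smul_smul, Matrix.mulVec, dotProduct, Finset.sum_smul]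
      rw [Finset.sum_comm]
      exact Finset.sum_congr rfl fun j _ => Finset.sum_congr rfl fun i _ => by rw [mul_comm]
    have e1 : (S *ᵥ w) ⬝ᵥ (D *ᵥ w) = l ((∑ j, w j • b j) * (∑ j, w j • b j) * r) := by
      rw [dotProduct_comm, Matrix.dotProduct_mulVec, ← Matrix.mulVec_transpose, hS, Matrix.mulVec_mulVec,
        dotProduct_comm, quad_diag _ hSDt, ← pow_two (∑ j, w j • b j), CharTwo.sum_sq, Finset.sum_mul, map_sum]
      refine Finset.sum_congr rfl fun i _ => ?_
      rw [hSD, _root_.smul_pow, smul_mul_assoc, map_smul, smul_eq_mul]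
      congr 2
      ring
    rw [e1, hc2, hDw, ← CharTwo.add_self_eq_zero (l ((∑ j, w j • b j) * (∑ j, w j • b j) * r))]
    congr 2
    linear_combination ((∑ j, w j • b j) * (∑ j, w j • b j) * r) * hrri
  -- assemble
  let qf : (Fin (e + 1) ⊕ Fin (e + 1) → F) → F := fun x =>
    (x ∘ Sum.inl) ⬝ᵥ (x ∘ Sum.inr) + (a ⬝ᵥ (x ∘ Sum.inl)) ^ 2 + (c ⬝ᵥ (x ∘ Sum.inr)) ^ 2
  let J : Matrix (Fin (e + 1) ⊕ Fin (e + 1)) (Fin (e + 1) ⊕ Fin (e + 1)) F := fromBlocks 0 1 1 0
  have hJv : ∀ u w, u ⬝ᵥ J *ᵥ w = (u ∘ Sum.inl) ⬝ᵥ (w ∘ Sum.inr) + (u ∘ Sum.inr) ⬝ᵥ (w ∘ Sum.inl) := fun u w => by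
    conv_lhs => rw [← Sum.elim_comp_inl_inr u]
    rw [Matrix.fromBlocks_mulVec, sumElim_dotProduct_sumElim]
    simp
  have hneg : (-T : Matrix (Fin (e + 1)) (Fin (e + 1)) F) = T := by ext i j; exact CharTwo.neg_eq _
  have hchar : (fromBlocks 0 S (-T) D).charpoly = recipPoly v := by
    rw [charpoly_symm_block hTS, homogenize_det]
    have hre : D = Matrix.reindex (finCongr hdim) (finCongr hdim) (Algebra.leftMulMatrix pb.basis pb.gen) := by
      ext i j
      simp [D, b, pb, hr, Algebra.leftMulMatrix_eq_repr_mul]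
    have hDg : D.charpoly = g := by
      rw [hre, Matrix.charpoly_reindex, charpoly_leftMulMatrix, AdjoinRoot.powerBasis_gen,
        AdjoinRoot.minpoly_root hm.ne_zero, hm.leadingCoeff, inv_one, map_one, mul_one]
    rw [hDg]; rfl
  rw [← hchar]
  refine realised_of_equiv finSumFinEquiv J _ qf (fun x => ?_) ?_ (fun u w => ?_) (fun k w => ?_) ?_ ?_ fun x => ?_
  · rw [hJv, dotProduct_comm]; exact CharTwo.add_self_eq_zero _
  · refine IsUnit.of_mul_eq_one J ?_
    simp [J, Matrix.fromBlocks_multiply, Matrix.fromBlocks_one]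
  · rw [hJv]
    simp only [qf]
    have p1 : ∀ s : Fin (e + 1) ⊕ Fin (e + 1) → F, ∀ t, (s + t) ∘ Sum.inl = s ∘ Sum.inl + t ∘ Sum.inl := fun _ _ => rfl
    have p2 : ∀ s : Fin (e + 1) ⊕ Fin (e + 1) → F, ∀ t, (s + t) ∘ Sum.inr = s ∘ Sum.inr + t ∘ Sum.inr := fun _ _ => rfl
    simp only [p1, p2, dotProduct_add, add_dotProduct, CharTwo.add_sq]
    rw [dotProduct_comm (u ∘ Sum.inr) (w ∘ Sum.inl)]
    ring
  · simp only [qf]
    have p1 : (k • w) ∘ Sum.inl = k • (w ∘ Sum.inl) := rfl
    have p2 : (k • w) ∘ Sum.inr = k • (w ∘ Sum.inr) := rfl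
    simp only [p1, p2, smul_dotProduct, dotProduct_smul, smul_eq_mul]
    ring
  · refine ⟨Fintype.card F ^ (e + 1), pow_pos Fintype.card_pos _, ?_⟩
    have hsign : sgn (c ⬝ᵥ a) = sgnBit (cls (g.coeff 1 / v 0)) := by
      have e2 : (c ⬝ᵥ a) = g.coeff 1 / v 0 := by
        rw [hadef, quad_diag _ hTt, Finset.sum_eq_single (0 : Fin (e + 1))]
        · rw [hc, hb]
          simp only [T, Matrix.of_apply, Fin.val_zero, Nat.add_zero, Nat.zero_add, pow_zero, one_mul, hri, map_smul,
            smul_eq_mul]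
          rw [hl _ (by simpa using hYdeg 0), hYc 0 e, (show g.coeff (e + 0 + 1) = 1 by
            have h1 := hm.coeff_natDegree; rw [hd] at h1; exact h1)]
          ring
        · intro i _ hi
          rw [hc, hb, ← pow_add]
          simp only [T, Matrix.of_apply]
          have hi1 : 1 ≤ (i : ℕ) := Nat.pos_of_ne_zero fun h => hi (Fin.ext h)
          by_cases hbig : e + 1 < (i : ℕ) + i + 1
          · rw [coeff_eq_zero_of_natDegree_lt (by rw [hd]; omega), mul_zero]
          · obtain ⟨j, hj⟩ : ∃ j, (i : ℕ) + i = j + 1 := ⟨(i : ℕ) + i - 1, by omega⟩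
            rw [hj, pow_succ, mul_assoc, hrri, mul_one, hrp, hl _ (by rw [natDegree_X_pow]; omega), coeff_X_pow,
              if_neg (by omega), zero_mul]
        · simp
      rw [e2]; simp [sgn, sgnBit]
    rw [← Equiv.sum_comp (Equiv.sumArrowEquivProdArrow _ _ _).symm fun x => sgn (qf x), Fintype.sum_prod_type_right]
    have hterm : ∀ (u w : Fin (e + 1) → F), sgn (qf ((Equiv.sumArrowEquivProdArrow _ _ _).symm (u, w))) =
        sgn (c ⬝ᵥ w) * sgn (u ⬝ᵥ (w + a)) := fun u w => by
      simp only [qf, Equiv.sumArrowEquivProdArrow_symm_apply_inl, Function.comp_def]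
      rw [← sgn_add]
      change sgn ((u ⬝ᵥ w) + (a ⬝ᵥ u) ^ 2 + (c ⬝ᵥ w) ^ 2) = _
      rw [sgn_add, sgn_add, sgn_sq, sgn_sq, ← sgn_add, ← sgn_add, dotProduct_add, dotProduct_comm a u]
      congr 1
      ring
    simp only [hterm, ← Finset.mul_sum]
    rw [Finset.sum_eq_single a]
    · rw [hsign]
      simp [show a + a = 0 from funext fun i => CharTwo.add_self_eq_zero _, sgn_zero, mul_comm]
    · intro w _ hw
      rw [sum_sgn_dot (w := w + a) fun h => hw (funext fun i => CharTwo.add_eq_zero.1 (congrFun h i)), mul_zero]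
    · simp
  · exact (Matrix.isUnit_iff_isUnit_det _).2 (Matrix.isUnit_det_of_left_inverse (A := fromBlocks 0 S (-T) D)
      (B := fromBlocks (S * D * T) S T 0)
      (by
        rw [hneg]
        simp [Matrix.fromBlocks_multiply, hTS, hST, Matrix.mul_assoc, show S * D + S * D = 0 from Matrix.ext fun _ _ => CharTwo.add_self_eq_zero _]))
  · rw [hneg]
    conv_lhs => rw [← Sum.elim_comp_inl_inr x, Matrix.fromBlocks_mulVec]
    simp only [qf, Sum.elim_comp_inl, Sum.elim_comp_inr, Matrix.zero_mulVec, zero_add]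
    set u := x ∘ Sum.inl
    set w := x ∘ Sum.inr
    have e1 : (S *ᵥ w) ⬝ᵥ (T *ᵥ u) = u ⬝ᵥ w := by
      rw [dotProduct_comm, Matrix.dotProduct_mulVec, ← Matrix.mulVec_transpose, hS, Matrix.mulVec_mulVec, hST,
        Matrix.one_mulVec]
    have e2 : c ⬝ᵥ (T *ᵥ u) = a ⬝ᵥ u := by
      rw [hadef, Matrix.dotProduct_mulVec, ← Matrix.mulVec_transpose, hTt]
    rw [dotProduct_add, dotProduct_add, e1, e2, haS, CharTwo.add_sq]
    linear_combination hkey w

end CfsgLib.CharTwoClassNum
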