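import Cfsg.Agent.Lib.CharTwoClassNum.ClassBound

/-!
Quadratic forms in characteristic two with the same sign are isometric.
-/

set_option autoImplicit false

namespace CfsgLib.CharTwoClassNum

open Matrix

variable {F : Type*} [Field F] [CharP F 2] [Fintype F] {m : ℕ}

/-- A non-degenerate quadratic form together with its polar matrix. -/
structure IsQuad (J : Matrix (Fin m) (Fin m) F) (qf : (Fin m → F) → F) : Prop where
  alt : ∀ v, v ⬝ᵥ J *ᵥ v = 0
  unit : IsUnit J
  add : ∀ u v, qf (u + v) = qf u + qf v + u ⬝ᵥ J *ᵥ v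
  smul : ∀ (c : F) v, qf (c • v) = c ^ 2 * qf v

/-- The sign of a quadratic form. -/
def HasSign (qf : (Fin m → F) → F) (e : Bool) : Prop :=
  ∃ c : ℕ, 0 < c ∧ signTotal qf = c * sgnBit e

theorem hasSign_unique {qf : (Fin m → F) → F} {e e' : Bool} (h : HasSign qf e) (h' : HasSign qf e') : e = e' := by
  obtain ⟨c, hc, h1⟩ := h
  obtain ⟨c', hc', h2⟩ := h'
  rw [h1] at h2
  cases e <;> cases e' <;> simp [sgnBit] at h2 ⊢ <;> omega

/-- The space of a quadratic form with trivial nilpotent part. -/
def IsQuad.form {J : Matrix (Fin m) (Fin m) F} {qf : (Fin m → F) → F} (h : IsQuad J qf) :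
    UForm true F (Fin m → F) where
  N := 0
  B := Matrix.toLinearMap₂' F J
  Q := qf
  alt v := by rw [Matrix.toLinearMap₂'_apply']; exact h.alt v
  inv u v := by simp
  Q_add _ u v := by rw [Matrix.toLinearMap₂'_apply']; exact h.add u v
  Q_smul _ c v := h.smul c v
  Q_N _ v := by
    have := h.smul 0 v
    rw [zero_smul, zero_pow two_ne_zero, zero_mul] at this
    simp [this]
  nil := ⟨1, by simp⟩

theorem IsQuad.exists_form_dec {n : ℕ} (hm : m = n + n) {J : Matrix (Fin m) (Fin m) F} {qf : (Fin m → F) → F}
    (h : IsQuad J qf) {e : Bool} (he : HasSign qf e) :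
    ∃ L : List Atom, h.form.Dec L ⊤ ∧
      (L : Multiset Atom) = if e = true then Atom.pair 1 true ::ₘ Multiset.replicate (n - 1) (Atom.pair 1 false)
        else Multiset.replicate n (Atom.pair 1 false) := by
  classical
  have hP : h.form.IsPiece ⊤ := ⟨fun _ _ => trivial, fun v _ hv => by
    refine Matrix.mulVec_injective_iff_isUnit.2 h.unit ?_
    rw [Matrix.mulVec_zero]
    funext i
    have := hv (Pi.single i 1) trivial
    change Matrix.toLinearMap₂' F J (Pi.single i 1) v = 0 at this
    rw [Matrix.toLinearMap₂'_apply', single_one_dotProduct] at this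
    exact this⟩
  obtain ⟨L, hL, hn⟩ := h.form.exists_normal_dec hP
  -- all heights are one
  have hh : ∀ a ∈ L, a = Atom.pair 1 true ∨ a = Atom.pair 1 false := by
    intro a ha
    have hperm := List.perm_cons_erase ha
    obtain ⟨W₁, W₂, h1, -, -, -⟩ := UForm.Dec.split (L₁ := [a]) (L₂ := L.erase a) (hL.perm hperm)
    cases h1 with
    | @cons _ _ g W hg _ _ =>
      have h2 : ∀ i, (h.form.N ^ (a.height - 1)) (g i) = 0 → False := fun i hi => by
        have h3 := hg.raw.top i i.rev
        rw [hi, map_zero, LinearMap.zero_apply, pat, Fin.rev_rev, if_pos rfl] at h3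
        exact zero_ne_one h3
      have h4 : a.height = 1 := by
        have h5 := hg.raw.pos
        by_contra hne
        refine h2 ⟨0, by cases a <;> simp⟩ ?_
        rw [show a.height - 1 = a.height - 2 + 1 by omega, pow_succ]
        simp [IsQuad.form]
      cases a with
      | cyc k e => simp at h4
      | pair l e =>
        obtain rfl : l = 1 := h4
        cases e <;> simp
  have hpar : parity L = e := by
    obtain ⟨c, hc, hg⟩ := UForm.Dec.gsum h.form rfl hL
    refine hasSign_unique ⟨c, hc, ?_⟩ he
    rw [← hg]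
    simp only [UForm.gsum, signTotal]
    have hel : UForm.elems (F := F) (⊤ : Submodule F (Fin m → F)) = Finset.univ := by
      ext v; simp [UForm.mem_elems]
    rw [hel]
    rfl
  have hdim := hL.finrank
  rw [finrank_top, Module.finrank_fin_fun] at hdim
  refine ⟨L, hL, ?_⟩
  set a := (L : Multiset Atom).count (Atom.pair 1 false)
  set b := (L : Multiset Atom).count (Atom.pair 1 true)
  have hrep : (L : Multiset Atom) =
      Multiset.replicate b (Atom.pair 1 true) + Multiset.replicate a (Atom.pair 1 false) := by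
    refine Multiset.ext.2 fun x => ?_
    rw [Multiset.count_add, Multiset.count_replicate, Multiset.count_replicate]
    by_cases hx : x ∈ L
    · rcases hh x hx with rfl | rfl <;> simp [a, b]
    · have h0 : (L : Multiset Atom).count x = 0 := Multiset.count_eq_zero.2 (by simpa using hx)
      split_ifs <;> subst_vars <;> simp_all [a, b]
  have hb : b ≤ 1 := by simpa [b] using hn.pair_le 1
  have hw : b + a = n := by
    have h5 := wt_coe L
    rw [hrep, wt] at h5
    simp [Atom.hdim, Multiset.map_replicate, Multiset.sum_replicate] at h5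
    omega
  rw [← bpar_coe, hrep, bpar, Multiset.countP_add] at hpar
  have e0 : (Multiset.replicate a (Atom.pair 1 false)).countP (fun x => x.bit = true) = 0 :=
    Multiset.countP_eq_zero.2 fun x hx => by rw [Multiset.eq_of_mem_replicate hx]; exact Bool.false_ne_true
  rw [e0] at hpar
  rw [hrep]
  rcases Nat.le_one_iff_eq_zero_or_eq_one.1 hb with h0 | h0
  · rw [h0] at hpar hw ⊢
    simp at hpar hw
    subst hpar
    rw [hw]; simp
  · rw [h0, Multiset.replicate_one, ← Multiset.cons_zero, Multiset.countP_cons, Multiset.countP_zero] at hpar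
    simp [Atom.bit] at hpar
    rw [← hpar, h0, if_pos rfl, show a = n - 1 by omega, Multiset.replicate_one, Multiset.singleton_add]

/-- Forms of the same sign are isometric. -/
theorem IsQuad.exists_isometry {n : ℕ} (hm : m = n + n) {J J' : Matrix (Fin m) (Fin m) F} {qf qf' : (Fin m → F) → F}
    (h : IsQuad J qf) (h' : IsQuad J' qf') {e : Bool} (he : HasSign qf e) (he' : HasSign qf' e) :
    ∃ T : GL (Fin m) F, ∀ v, qf' ((T : Matrix (Fin m) (Fin m) F) *ᵥ v) = qf v := by
  obtain ⟨L, hL, e1⟩ := h.exists_form_dec hm he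
  obtain ⟨L', hL', e2⟩ := h'.exists_form_dec hm he'
  obtain ⟨f, -, -, hQ⟩ := UForm.Dec.uiso hL (hL'.perm (Multiset.coe_eq_coe.1 (e2.trans e1.symm)))
  refine ⟨⟨LinearMap.toMatrix' f.toLinearMap, LinearMap.toMatrix' f.symm.toLinearMap,
    by rw [← LinearMap.toMatrix'_comp, f.comp_symm, LinearMap.toMatrix'_id],
    by rw [← LinearMap.toMatrix'_comp, f.symm_comp, LinearMap.toMatrix'_id]⟩, fun v => ?_⟩
  rw [LinearMap.toMatrix'_mulVec]
  exact hQ rfl v

end CfsgLib.CharTwoClassNum
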