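import Cfsg.Agent.Lib.CharTwoClassNum.Sign
import Cfsg.Agent.Lib.CharTwoClassNum.Numeric
import Cfsg.Agent.Lib.SpClassNum.Divisors
import Cfsg.Agent.Lib.SpecGL.WeightCount
import Cfsg.Agent.Lib.SpecGL.SLClassBound

/-!
Classes of isometries in characteristic two: the divisors away from one and the normal form of the unipotent part.
-/

set_option autoImplicit false

namespace CfsgLib.CharTwoClassNum

open Polynomial Matrix CfsgLib.SpecGL CfsgLib.SpecUnitary CfsgLib.SpClassNum CfsgLib.UnitaryUnip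

universe u

variable {F : Type u} [Field F] [CharP F 2] [Fintype F]

section tuples

omit [Fintype F] in
/-- A reciprocal polynomial without root one. -/
theorem recip_facts {g : F[X]} (hm : g.Monic) (h0 : g.coeff 0 ≠ 0) (hfix : conjRev (RingHom.id F) g = g)
    (h1 : g.eval 1 ≠ 0) :
    g.coeff 0 = 1 ∧ (∀ i ≤ g.natDegree, g.coeff i = g.coeff (g.natDegree - i)) ∧
      ∃ d, g.natDegree = 2 * d ∧ g.coeff d ≠ 0 := by
  classical
  obtain ⟨e1, e2⟩ := fixed_relation hm hfix
  have hc : g.coeff 0 = 1 := by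
    have h : g.coeff 0 * g.coeff 0 = 1 := by
      nth_rw 1 [← e1]
      exact inv_mul_cancel₀ (by simpa using h0)
    rcases mul_self_eq_one_iff.1 h with h' | h'
    · exact h'
    · rw [h', CharTwo.neg_eq]
  have hsym : ∀ i ≤ g.natDegree, g.coeff i = g.coeff (g.natDegree - i) := fun i hi => by
    rw [e2 i hi, hc, one_mul, RingHom.id_apply]
  refine ⟨hc, hsym, ?_⟩
  have heval : g.eval 1 = ∑ i ∈ Finset.range (g.natDegree + 1), g.coeff i := by
    rw [eval_eq_sum_range]; simp
  rcases Nat.even_or_odd' g.natDegree with ⟨d, hd | hd⟩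
  · refine ⟨d, hd, fun hmid => h1 ?_⟩
    rw [heval, ← Finset.sum_erase_add _ _ (Finset.mem_range.2 (show d < g.natDegree + 1 by omega)), hmid, add_zero]
    refine Finset.sum_involution (fun i _ => g.natDegree - i) (fun i hi => ?_) (fun i hi _ => ?_) (fun i hi => ?_)
      fun i hi => ?_
    all_goals rw [Finset.mem_erase, Finset.mem_range] at hi
    · rw [← hsym i (by omega)]; exact CharTwo.add_self_eq_zero _
    · omega
    · rw [Finset.mem_erase, Finset.mem_range]; omega
    · omega
  · refine absurd ?_ h1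
    rw [heval]
    refine Finset.sum_involution (fun i _ => g.natDegree - i) (fun i hi => ?_) (fun i hi _ => ?_) (fun i hi => ?_)
      fun i hi => ?_
    all_goals rw [Finset.mem_range] at hi
    · rw [← hsym i (by omega)]; exact CharTwo.add_self_eq_zero _
    · omega
    · rw [Finset.mem_range]; omega
    · omega

open scoped Classical in
theorem card_recip_no_one (D : ℕ) :
    ((polys F D).filter fun g => conjRev (RingHom.id F) g = g ∧ g.eval 1 ≠ 0).card ≤
      if D % 2 = 1 then 0 else polyCount (Fintype.card F) (D / 2) := by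
  split_ifs with hD
  · refine Nat.le_zero.2 (Finset.card_eq_zero.2 (Finset.filter_eq_empty_iff.2 fun g hg h => ?_))
    obtain ⟨hm, hd, h0⟩ := spec_polys hg
    obtain ⟨-, -, d, hd', -⟩ := recip_facts hm h0 h.1 h.2
    omega
  obtain ⟨d, rfl⟩ : ∃ d, D = 2 * d := ⟨D / 2, by omega⟩
  rw [Nat.mul_div_cancel_left d two_pos]
  rcases d with _ | d
  · refine (Finset.card_filter_le _ _).trans ?_
    rw [card_polys]
  rw [show polyCount (Fintype.card F) (d + 1) = Fintype.card ({a : F // a ≠ 0} × (Fin d → F)) by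
    rw [Fintype.card_prod, Fintype.card_fun, Fintype.card_fin, Fintype.card_subtype_compl, Fintype.card_subtype_eq,
      polyCount], ← Finset.card_univ]
  refine Finset.card_le_card_of_injOn (fun g => ((if h : g.coeff (d + 1) = 0 then ⟨1, one_ne_zero⟩ else
    ⟨g.coeff (d + 1), h⟩), fun j => g.coeff ((j : ℕ) + 1))) (fun _ _ => Finset.mem_univ _) ?_
  intro g hg g' hg' h
  simp only [Finset.coe_filter, Set.mem_setOf_eq] at hg hg'
  obtain ⟨hm, hd, h0⟩ := spec_polys hg.1
  obtain ⟨hm', hd', h0'⟩ := spec_polys hg'.1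
  obtain ⟨c0, sy, e, he, hmid⟩ := recip_facts hm h0 hg.2.1 hg.2.2
  obtain ⟨c0', sy', e', he', hmid'⟩ := recip_facts hm' h0' hg'.2.1 hg'.2.2
  obtain rfl : e = d + 1 := by omega
  obtain rfl : e' = d + 1 := by omega
  simp only [Prod.mk.injEq] at h
  obtain ⟨ht, hl⟩ := h
  rw [dif_neg hmid, dif_neg hmid'] at ht
  have hlow : ∀ i ≤ d + 1, g.coeff i = g'.coeff i := fun i hi => by
    rcases i with _ | i
    · rw [c0, c0']
    · rcases Nat.eq_or_lt_of_le hi with h | h
      · rw [h]; exact congrArg Subtype.val ht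
      · exact congrFun hl ⟨i, by omega⟩
  refine Polynomial.ext fun i => ?_
  rcases Nat.lt_or_ge (2 * (d + 1)) i with hi | hi
  · rw [coeff_eq_zero_of_natDegree_lt (by omega), coeff_eq_zero_of_natDegree_lt (by omega)]
  rcases Nat.lt_or_ge (d + 1) i with hj | hj
  · rw [sy i (by omega), sy' i (by omega), hd, hd', hlow _ (by omega)]
  · exact hlow i hj

open scoped Classical in
theorem card_tuples_no_one : ∀ r n : ℕ,
    ((tuples F r (2 * n)).filter fun h => ∀ i, conjRev (RingHom.id F) (h i) = h i ∧ (h i).eval 1 ≠ 0).card ≤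
      tupleCount (Fintype.card F) r n := by
  intro r
  induction r with
  | zero =>
    intro n
    refine (Finset.card_filter_le _ _).trans ?_
    rw [tuples, tupleCount]
    rcases n with _ | n <;> simp
  | succ r ih =>
    intro n
    letI := Classical.decEq (Fin (r + 1) → F[X])
    rw [tuples, tupleCount, Finset.filter_biUnion]
    refine Finset.card_biUnion_le.trans ?_
    calc ∑ D ∈ Finset.range (2 * n / (r + 1) + 1), _ ≤ ∑ D ∈ Finset.range (2 * n / (r + 1) + 1),
          if D % 2 = 1 then 0 else polyCount (Fintype.card F) (D / 2) * tupleCount (Fintype.card F) r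
            (n - (r + 1) * (D / 2)) := Finset.sum_le_sum fun D hD => ?_
      _ = ∑ d ∈ Finset.range (n / (r + 1) + 1), polyCount (Fintype.card F) d *
            tupleCount (Fintype.card F) r (n - (r + 1) * d) := by
        simp only [Finset.sum_ite, Finset.sum_const_zero, zero_add]
        refine Finset.sum_nbij' (fun D => D / 2) (fun d => 2 * d) ?_ ?_ ?_ ?_ (fun D _ => rfl)
        · intro D hD
          simp only [Finset.mem_coe, Finset.mem_filter, Finset.mem_range] at hD ⊢
          have : D / 2 ≤ n / (r + 1) := by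
            rw [Nat.le_div_iff_mul_le (by omega)]
            have h1 := (Nat.le_div_iff_mul_le (by omega : 0 < r + 1)).1 (Nat.le_of_lt_succ hD.1)
            obtain ⟨t, rfl⟩ : ∃ t, D = 2 * t := ⟨D / 2, by omega⟩
            rw [Nat.mul_div_cancel_left t two_pos]
            nlinarith
          omega
        · intro d hd
          simp only [Finset.mem_coe, Finset.mem_filter, Finset.mem_range] at hd ⊢
          refine ⟨Nat.lt_succ_of_le ?_, by omega⟩
          rw [Nat.le_div_iff_mul_le (by omega)]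
          have h1 := (Nat.le_div_iff_mul_le (by omega : 0 < r + 1)).1 (Nat.le_of_lt_succ hd)
          nlinarith
        · intro D hD
          simp only [Finset.mem_coe, Finset.mem_filter] at hD
          omega
        · intro d _; simp
    refine le_trans (Finset.card_le_card (t := (((polys F D).filter fun g => conjRev (RingHom.id F) g = g ∧ g.eval 1 ≠ 0)
      ×ˢ ((tuples F r (2 * n - (r + 1) * D)).filter fun h => ∀ i, conjRev (RingHom.id F) (h i) = h i ∧
        (h i).eval 1 ≠ 0)).image fun x => Fin.snoc x.2 x.1) fun z hz => ?_) ?_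
    · obtain ⟨hz, hp⟩ := Finset.mem_filter.1 hz
      obtain ⟨⟨g, t⟩, hgt, rfl⟩ := Finset.mem_image.1 hz
      rw [Finset.mem_product] at hgt
      refine Finset.mem_image.2 ⟨(g, t), Finset.mem_product.2 ⟨Finset.mem_filter.2 ⟨hgt.1, ?_⟩,
        Finset.mem_filter.2 ⟨hgt.2, fun i => ?_⟩⟩, rfl⟩
      · have := hp (Fin.last r)
        simpa using this
      · have := hp i.castSucc
        simpa using this
    refine Finset.card_image_le.trans ?_
    rw [Finset.card_product]
    refine (Nat.mul_le_mul_right _ (card_recip_no_one D)).trans ?_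
    split_ifs with hodd
    · simp
    · refine Nat.mul_le_mul_left _ ?_
      obtain ⟨t, rfl⟩ : ∃ t, D = 2 * t := ⟨D / 2, by omega⟩
      rw [Nat.mul_div_cancel_left t two_pos, show 2 * n - (r + 1) * (2 * t) = 2 * (n - (r + 1) * t) by
        rw [Nat.mul_sub, ← mul_assoc, ← mul_assoc, mul_comm 2 (r + 1)]]
      exact ih _

theorem tupleCount_le (r n : ℕ) : tupleCount (Fintype.card F) r n ≤ Fintype.card F ^ n := by
  rcases Nat.eq_zero_or_pos n with rfl | hn
  · simp [tupleCount_zero_right]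
  · exact tupleCount_le_pow Fintype.card_pos r hn

end tuples

section toggle

/-- Atoms able to carry a bit. -/
def Chain : Atom → Prop
  | .cyc _ _ => True
  | .pair m _ => m % 2 = 1

instance : DecidablePred Chain := fun a => by cases a <;> (simp only [Chain]; infer_instance)

/-- Flip the bit of an atom. -/
def Atom.flip : Atom → Atom
  | .cyc k e => .cyc k (!e)
  | .pair m e => .pair m (!e)

omit [CharP F 2] [Fintype F] in
theorem exists_low {s : Multiset Atom} (h : ∃ a ∈ s, Chain a) :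
    ∃ a ∈ s, Chain a ∧ (∀ b ∈ s, Chain b → a.pos ≤ b.pos) ∧ (a.flip ∈ s → a.bit = true) := by
  classical
  obtain ⟨a, ha, hmin⟩ := (s.toFinset.filter Chain).exists_min_image Atom.pos
    ⟨h.choose, by simp [h.choose_spec]⟩
  rw [Finset.mem_filter, Multiset.mem_toFinset] at ha
  have hmin' : ∀ b ∈ s, Chain b → a.pos ≤ b.pos := fun b hb hc => hmin b (by simp [hb, hc])
  by_cases hf : a.flip ∈ s ∧ a.bit = false
  · refine ⟨a.flip, hf.1, ?_, fun b hb hc => ?_, fun _ => ?_⟩
    · cases a <;> exact ha.2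
    · have := hmin' b hb hc
      cases a <;> exact this
    · cases a <;> simp_all [Atom.flip, Atom.bit]
  · exact ⟨a, ha.1, ha.2, hmin', fun h' => by simpa [h'] using hf⟩

/-- The lowest atom able to carry a bit, taking the one with bit if possible. -/
noncomputable def low (s : Multiset Atom) (h : ∃ a ∈ s, Chain a) : Atom := (exists_low h).choose

/-- Flip the bit at the bottom of the lowest chain. -/
noncomputable def toggle (s : Multiset Atom) : Multiset Atom :=
  open scoped Classical in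
  if h : ∃ a ∈ s, Chain a then (s.erase (low s h)) + {(low s h).flip} else s

omit [CharP F 2] [Fintype F] in
theorem flip_flip (a : Atom) : a.flip.flip = a := by cases a <;> simp [Atom.flip]

omit [CharP F 2] [Fintype F] in
theorem chain_of_bit {o : Bool} {a : Atom} (hv : a.Valid o) (hb : a.bit = true) : Chain a := by
  cases a with
  | cyc k e => trivial
  | pair m e => exact (hv.2 hb).1

omit [CharP F 2] [Fintype F] in
/-- Flipping an odd normal form gives an even one, and loses nothing. -/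
theorem toggle_odd {s : Multiset Atom} (hs : NormalM true s) (hp : bpar s = true) :
    NormalM true (toggle s) ∧ bpar (toggle s) = false ∧ wt (toggle s) = wt s ∧ toggle (toggle s) = s := by
  classical
  have hex : ∃ a ∈ s, Chain a := by
    have h : 0 < s.countP fun a => a.bit = true := by
      simp only [bpar, decide_eq_true_eq] at hp; omega
    obtain ⟨a, ha, hb⟩ := Multiset.countP_pos.1 h
    exact ⟨a, ha, chain_of_bit (hs.valid a ha) hb⟩
  obtain ⟨a, hadef⟩ : ∃ a, low s hex = a := ⟨_, rfl⟩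
  have hspec := (exists_low hex).choose_spec
  rw [show (exists_low hex).choose = a from hadef] at hspec
  obtain ⟨ha, hc, hmin, hflip⟩ := hspec
  have ht : toggle s = (s.erase a) + {a.flip} := by rw [toggle, dif_pos hex, hadef]
  have hfpos : a.flip.pos = a.pos := by cases a <;> rfl
  have hfc : Chain a.flip := by cases a <;> exact hc
  have hfh : a.flip.hdim = a.hdim := by cases a <;> rfl
  have hfb : a.flip.bit = !a.bit := by cases a <;> rfl
  have hlowbit : ∀ b ∈ s, b.bit = true → b.pos = a.pos → b = a := by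
    intro b hb hbit hpos
    rcases Bool.eq_false_or_eq_true a.bit with hab | hab
    · cases a with
      | cyc k e =>
        cases b with
        | cyc l e' => simp_all [Atom.pos, Atom.bit]
        | pair m e' =>
          have := (hs.valid _ hb).2 hbit
          simp [Atom.pos] at hpos; omega
      | pair m e =>
        cases b with
        | cyc l e' => simp [Chain] at hc; simp [Atom.pos] at hpos; omega
        | pair m' e' => simp_all [Atom.pos, Atom.bit]
    · exfalso
      have : a.flip ∈ s := by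
        cases a with
        | cyc k e =>
          cases b with
          | cyc l e' => simp_all [Atom.pos, Atom.bit, Atom.flip]
          | pair m e' =>
            have := (hs.valid _ hb).2 hbit
            simp [Atom.pos] at hpos; omega
        | pair m e =>
          cases b with
          | cyc l e' => simp [Chain] at hc; simp [Atom.pos] at hpos; omega
          | pair m' e' => simp_all [Atom.pos, Atom.bit, Atom.flip]
      rw [hflip this] at hab
      exact Bool.noConfusion hab
  have hmem : ∀ b ∈ toggle s, b ∈ s ∨ b = a.flip := fun b hb => by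
    rw [ht, Multiset.mem_add] at hb
    exact hb.imp Multiset.mem_of_mem_erase Multiset.mem_singleton.1
  have hbitmem : ∀ b ∈ toggle s, b.bit = true → b ≠ a.flip → b ∈ s := fun b hb _ hne =>
    (hmem b hb).resolve_right hne
  have hposeq : ∀ b ∈ toggle s, ∃ b' ∈ s, b'.pos = b.pos ∧ (Chain b → Chain b') ∧
      (∀ k e, b = .cyc k e → ∃ e', b' = .cyc k e') ∧ (∀ m e, b = .pair m e → ∃ e', b' = .pair m e') := by
    intro b hb
    rcases hmem b hb with h | rfl
    · exact ⟨b, h, rfl, id, fun k e h => ⟨e, h⟩, fun m e h => ⟨e, h⟩⟩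
    · refine ⟨a, ha, hfpos.symm, fun _ => hc, fun k e h => ?_, fun m e h => ?_⟩ <;>
        cases a <;> simp [Atom.flip] at h <;> simp_all
  have hge : ∀ b ∈ toggle s, Chain b → a.pos ≤ b.pos := fun b hb hcb => by
    obtain ⟨b', hb', hpos, hch, -, -⟩ := hposeq b hb
    rw [← hpos]; exact hmin b' hb' (hch hcb)
  have hcount : ∀ b, (toggle s).count b = (s.count b - if b = a then 1 else 0) + if b = a.flip then 1 else 0 := by
    intro b
    rw [ht, Multiset.count_add, Multiset.count_singleton]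
    congr 1
    by_cases h : b = a
    · rw [h, Multiset.count_erase_self, if_pos rfl]
    · rw [Multiset.count_erase_of_ne h, if_neg h, Nat.sub_zero]
  have hone : ∀ b, b.bit = true → b = a.flip → s.count b = 0 := fun b hb he => by
    rw [Multiset.count_eq_zero]
    intro hbs
    have := hlowbit b hbs hb (he ▸ hfpos)
    rw [this] at he
    cases a <;> simp [Atom.flip] at he
  have hca : 1 ≤ s.count a := Multiset.one_le_count_iff_mem.2 ha
  have hN : NormalM true (toggle s) := by
    refine ⟨fun b hb => ?_, fun m => ?_, fun k => ?_, fun k => ?_, fun k e hp hc' => ?_, fun k e hp => ⟨fun hd => ?_, fun hd => ?_⟩⟩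
    · rcases hmem b hb with h | rfl
      · exact hs.valid b h
      · have := hs.valid a ha
        cases a with
        | cyc k e => exact ⟨this.1, fun _ => Or.inl rfl⟩
        | pair m e => exact ⟨this.1, fun _ => ⟨hc, Or.inl rfl⟩⟩
    · rw [hcount]
      by_cases h : Atom.pair m true = a.flip
      · rw [if_pos h, hone _ rfl h]; omega
      · rw [if_neg h]; have := hs.pair_le m; omega
    · rw [hcount, hcount]
      have := hs.cyc_le k
      cases a with
      | pair m e => simp [Atom.flip]; omega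
      | cyc l e =>
        by_cases hl : l = k
        · subst hl
          cases e <;> simp [Atom.flip] at * <;> omega
        · have : k ≠ l := Ne.symm hl
          simp [Atom.flip, this]; omega
    · rw [hcount]
      by_cases h : Atom.cyc k true = a.flip
      · rw [if_pos h, hone _ rfl h]; omega
      · rw [if_neg h]; have := hs.cyc_bit k; omega
    · obtain ⟨b', hb', -, -, hcy, -⟩ := hposeq _ hc'
      obtain ⟨e', rfl⟩ := hcy k e rfl
      by_cases h : Atom.pair (2 * k + 1) true = a.flip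
      · have h1 := hmin _ hb' trivial
        rw [← hfpos, ← h] at h1
        simp [Atom.pos] at h1
      · exact hs.pair_free k e' (hbitmem _ hp rfl h) hb'
    · obtain ⟨b', hb', -, -, hcy, -⟩ := hposeq _ hd
      obtain ⟨e', rfl⟩ := hcy k e rfl
      by_cases h : Atom.cyc (k + 1) true = a.flip
      · have h1 := hmin _ hb' trivial
        rw [← hfpos, ← h] at h1
        simp [Atom.pos] at h1
      · exact (hs.cyc_free k e' (hbitmem _ hp rfl h)).1 hb'
    · obtain ⟨b', hb', -, -, -, hpa⟩ := hposeq _ hd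
      obtain ⟨e', rfl⟩ := hpa _ e rfl
      by_cases h : Atom.cyc (k + 1) true = a.flip
      · have h1 := hmin _ hb' (by simp [Chain])
        rw [← hfpos, ← h] at h1
        simp [Atom.pos] at h1; omega
      · exact (hs.cyc_free k e' (hbitmem _ hp rfl h)).2 hb'
  refine ⟨hN, ?_, ?_, ?_⟩
  · have he : s = a ::ₘ s.erase a := (Multiset.cons_erase ha).symm
    rw [ht, bpar, Multiset.countP_add, ← Multiset.cons_zero, Multiset.countP_cons, Multiset.countP_zero, hfb]
    rw [he, bpar, Multiset.countP_cons] at hp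
    cases hab : a.bit <;> simp [hab] at hp ⊢ <;> omega
  · rw [ht, wt, wt, Multiset.map_add, Multiset.sum_add, Multiset.map_singleton, Multiset.sum_singleton, hfh]
    conv_rhs => rw [← Multiset.cons_erase ha, Multiset.map_cons, Multiset.sum_cons]
    omega
  · have hex' : ∃ b ∈ toggle s, Chain b := ⟨a.flip, by rw [ht]; simp, hfc⟩
    obtain ⟨b, hbdef⟩ : ∃ b, low (toggle s) hex' = b := ⟨_, rfl⟩
    have hspec' := (exists_low hex').choose_spec
    rw [show (exists_low hex').choose = b from hbdef] at hspec'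
    obtain ⟨hb, hbc, hbmin, hbflip⟩ := hspec'
    have hpos : b.pos = a.pos := le_antisymm (hfpos ▸ hbmin _ (by rw [ht]; simp) hfc) (hge b hb hbc)
    have hb2 : b = a ∨ b = a.flip := by
      cases a with
      | cyc k e =>
        cases b with
        | cyc l e' => simp [Atom.pos] at hpos; subst hpos; cases e <;> cases e' <;> simp [Atom.flip]
        | pair m e' => simp [Chain] at hbc; simp [Atom.pos] at hpos; omega
      | pair m e =>
        cases b with
        | cyc l e' => simp [Chain] at hc; simp [Atom.pos] at hpos; omega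
        | pair m' e' => simp [Atom.pos] at hpos; subst hpos; cases e <;> cases e' <;> simp [Atom.flip]
    have hba : b = a.flip := by
      rcases hb2 with h | h
      swap
      · exact h
      · exfalso
        rw [h] at hb hbflip
        rcases Bool.eq_false_or_eq_true a.bit with hab | hab
        · have h1 : s.count a ≤ 1 := by
            cases a with
            | cyc k e => simp [Atom.bit] at hab; subst hab; exact hs.cyc_bit k
            | pair m e => simp [Atom.bit] at hab; subst hab; exact hs.pair_le m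
          have h2 := hcount a
          rw [if_pos rfl, if_neg (fun e => by rw [← e] at hfb; rw [hab] at hfb; simp at hfb)] at h2
          have := Multiset.one_le_count_iff_mem.2 hb
          omega
        · have := hbflip (by rw [ht]; simp)
          rw [hab] at this
          exact Bool.noConfusion this
    have ht2 : toggle (toggle s) = ((toggle s).erase b) + {b.flip} := by rw [toggle, dif_pos hex', hbdef]
    rw [ht2, hba, flip_flip, ht]
    rw [show s.erase a + {a.flip} = a.flip ::ₘ s.erase a by rw [add_comm, Multiset.singleton_add],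
      Multiset.erase_cons_head, add_comm, Multiset.singleton_add, Multiset.cons_erase ha]

end toggle

section main

variable {m : ℕ}

/-- The unipotent part and the part without eigenvalue one. -/
structure Split (o : Bool) (J : Matrix (Fin m) (Fin m) F) (qf : (Fin m → F) → F)
    (A : Matrix (Fin m) (Fin m) F) where
  a : ℕ
  b : ℕ
  hab : a + b = m
  P : Matrix (Fin m) (Fin a ⊕ Fin b) F
  R : Matrix (Fin a ⊕ Fin b) (Fin m) F
  hPR : P * R = 1
  hRP : R * P = 1
  N1 : Matrix (Fin a) (Fin a) F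
  N2 : Matrix (Fin b) (Fin b) F
  hN2 : IsUnit N2
  eq : A * P = P * fromBlocks (N1 + 1) 0 0 (N2 + 1)
  G1 : Matrix (Fin a) (Fin a) F
  G2 : Matrix (Fin b) (Fin b) F
  eqG : Pᵀ * J * P = fromBlocks G1 0 0 G2
  iso2 : (N2 + 1)ᵀ * G2 * (N2 + 1) = G2
  skew2 : G2ᵀ = -G2
  unit2 : IsUnit G2
  U : UForm o F (Fin a → F)
  UN : U.N = Matrix.toLin' N1
  UB : ∀ x y, U.B x y = x ⬝ᵥ G1 *ᵥ y
  UQ : o = true → ∀ x, U.Q x = qf (P *ᵥ Sum.elim x 0)
  piece : U.IsPiece ⊤

variable {o : Bool} {J : Matrix (Fin m) (Fin m) F} {qf : (Fin m → F) → F}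

omit [Fintype F] [CharP F 2] in
theorem mulVec_pair {a b : ℕ} (P : Matrix (Fin m) (Fin a ⊕ Fin b) F) (x : Fin a → F) (y : Fin b → F) :
    P *ᵥ Sum.elim x y = P *ᵥ Sum.elim x 0 + P *ᵥ Sum.elim 0 y := by
  rw [← Matrix.mulVec_add]
  congr 1
  ext (i | i) <;> simp

omit [Fintype F] in
theorem skew_of_alt (halt : ∀ v, v ⬝ᵥ J *ᵥ v = 0) : Jᵀ = -J := by
  classical
  ext i j
  have hd : ∀ i, J i i = 0 := fun i => by simpa using halt (Pi.single i 1)
  have h := halt (Pi.single i 1 + Pi.single j 1)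
  simp only [Matrix.mulVec_add, add_dotProduct, dotProduct_add, halt, zero_add, add_zero,
    Matrix.mulVec_single_one, single_one_dotProduct] at h
  simp only [Matrix.transpose_apply, Matrix.neg_apply, CharTwo.neg_eq]
  simp only [Matrix.col_apply, hd, zero_add, add_zero] at h
  first
    | exact CharTwo.add_eq_zero.1 h
    | exact (CharTwo.add_eq_zero.1 h).symm

omit [Fintype F] in
theorem exists_split (halt : ∀ v, v ⬝ᵥ J *ᵥ v = 0) (hJu : IsUnit J)
    (hqadd : o = true → ∀ u v, qf (u + v) = qf u + qf v + u ⬝ᵥ J *ᵥ v)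
    (hqsmul : o = true → ∀ (c : F) v, qf (c • v) = c ^ 2 * qf v) {A : Matrix (Fin m) (Fin m) F}
    (hA : Aᵀ * J * A = J) (hqA : o = true → ∀ v, qf (A *ᵥ v) = qf v) : Nonempty (Split o J qf A) := by
  classical
  obtain ⟨a, b, P, R, N1, N2, hPR, hRP, hN1, hN2, hAP⟩ := exists_fitting (A - 1)
  have eq : A * P = P * fromBlocks (N1 + 1) 0 0 (N2 + 1) := by
    calc A * P = (A - 1) * P + P := by rw [Matrix.sub_mul, Matrix.one_mul, sub_add_cancel]
      _ = P * fromBlocks N1 0 0 N2 + P * (1 : Matrix (Fin a ⊕ Fin b) (Fin a ⊕ Fin b) F) := by rw [hAP, Matrix.mul_one]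
      _ = _ := by rw [← Matrix.mul_add, ← Matrix.fromBlocks_one, Matrix.fromBlocks_add]; simp
  have hab : a + b = m := by
    have e : (Fin m → F) ≃ₗ[F] (Fin a ⊕ Fin b → F) :=
      LinearEquiv.ofLinear (Matrix.toLin' R) (Matrix.toLin' P) (by rw [← Matrix.toLin'_mul, hRP, Matrix.toLin'_one])
        (by rw [← Matrix.toLin'_mul, hPR, Matrix.toLin'_one])
    have := e.finrank_eq
    simp only [Module.finrank_pi, Fintype.card_fin, Fintype.card_sum] at this
    omega
  set G := Pᵀ * J * P with hG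
  have hiso : (fromBlocks (N1 + 1) 0 0 (N2 + 1))ᵀ * G * fromBlocks (N1 + 1) 0 0 (N2 + 1) = G := by
    calc _ = (P * fromBlocks (N1 + 1) 0 0 (N2 + 1))ᵀ * J * (P * fromBlocks (N1 + 1) 0 0 (N2 + 1)) := by
          simp only [hG, transpose_mul, Matrix.mul_assoc]
      _ = Pᵀ * (Aᵀ * J * A) * P := by rw [← eq, transpose_mul]; simp only [Matrix.mul_assoc]
      _ = G := by rw [hA]
  have hskew : Gᵀ = -G := by
    simp only [hG, transpose_mul, transpose_transpose, skew_of_alt halt, Matrix.neg_mul, Matrix.mul_neg,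
      Matrix.mul_assoc]
  have hu : IsUnit G := by
    obtain ⟨j, hj⟩ := hJu
    refine IsUnit.of_mul_eq_one (R * (↑j⁻¹ : Matrix (Fin m) (Fin m) F) * Rᵀ) ?_
    calc G * (R * (↑j⁻¹ : Matrix (Fin m) (Fin m) F) * Rᵀ)
        = Pᵀ * (J * (P * R) * (↑j⁻¹ : Matrix (Fin m) (Fin m) F)) * Rᵀ := by simp only [hG, Matrix.mul_assoc]
      _ = 1 := by rw [hPR, Matrix.mul_one, ← hj, j.mul_inv, Matrix.mul_one, ← transpose_mul, hRP, transpose_one]
  obtain ⟨eqG, ⟨i1, -, u1⟩, i2, s2, u2⟩ := isometry_blocks (by rwa [add_sub_cancel_right])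
    (by rwa [add_sub_cancel_right]) hiso hskew hu
  have hval : ∀ z w, z ⬝ᵥ G *ᵥ w = (P *ᵥ z) ⬝ᵥ J *ᵥ (P *ᵥ w) := fun z w => by
    rw [hG, ← Matrix.mulVec_mulVec, ← Matrix.mulVec_mulVec, Matrix.dotProduct_mulVec, Matrix.vecMul_transpose]
  have hval1 : ∀ x y, x ⬝ᵥ G.toBlocks₁₁ *ᵥ y = (P *ᵥ Sum.elim x 0) ⬝ᵥ J *ᵥ (P *ᵥ Sum.elim y 0) := fun x y => by
    rw [← hval]
    conv_rhs => rw [eqG]
    rw [Matrix.fromBlocks_mulVec, sumElim_dotProduct_sumElim]
    simp
  have hB : ∀ x y, Matrix.toLinearMap₂' F G.toBlocks₁₁ x y = x ⬝ᵥ G.toBlocks₁₁ *ᵥ y := fun x y =>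
    Matrix.toLinearMap₂'_apply' _ x y
  have hNmul : ∀ x, A *ᵥ (P *ᵥ Sum.elim x 0) = P *ᵥ Sum.elim ((N1 *ᵥ x) + x) 0 := fun x => by
    rw [Matrix.mulVec_mulVec, eq, ← Matrix.mulVec_mulVec, Matrix.fromBlocks_mulVec]
    congr 1
    simp [Matrix.add_mulVec]
  have hsum : ∀ x y : Fin a → F, P *ᵥ Sum.elim (x + y) 0 = P *ᵥ Sum.elim x 0 + P *ᵥ Sum.elim y 0 := fun x y => by
    rw [← Matrix.mulVec_add]; congr 1; ext (i | i) <;> simp
  let U : UForm o F (Fin a → F) :=
    { N := Matrix.toLin' N1
      B := Matrix.toLinearMap₂' F G.toBlocks₁₁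
      Q := fun x => qf (P *ᵥ Sum.elim x 0)
      alt := fun v => by rw [hB, hval1]; exact halt _
      inv := fun u v => by
        have h0 : ∀ x y, Matrix.toLinearMap₂' F G.toBlocks₁₁ ((N1 + 1) *ᵥ x) ((N1 + 1) *ᵥ y) =
            Matrix.toLinearMap₂' F G.toBlocks₁₁ x y := fun x y => by
          rw [hB, hB, Matrix.mulVec_mulVec, Matrix.dotProduct_mulVec ((N1 + 1) *ᵥ x),
            ← Matrix.vecMul_transpose (N1 + 1) x, Matrix.vecMul_vecMul, ← Matrix.mul_assoc, i1,
            ← Matrix.dotProduct_mulVec]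
        have h := h0 u v
        simp only [Matrix.add_mulVec, Matrix.one_mulVec, map_add, LinearMap.add_apply] at h
        simp only [Matrix.toLin'_apply]
        linear_combination h
      Q_add := fun ho u v => by rw [hsum, hqadd ho, hB, hval1]
      Q_smul := fun ho c v => by
        rw [← hqsmul ho, ← Matrix.mulVec_smul]
        congr 2
        ext (i | i) <;> simp
      Q_N := fun ho v => by
        have h := hqA ho (P *ᵥ Sum.elim v 0)
        rw [hNmul, hsum, hqadd ho] at h
        rw [Matrix.toLin'_apply, hB]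
        have hs : (N1 *ᵥ v) ⬝ᵥ G.toBlocks₁₁ *ᵥ v = v ⬝ᵥ G.toBlocks₁₁ *ᵥ (N1 *ᵥ v) := by
          rw [hval1, hval1, Matrix.dotProduct_mulVec, dotProduct_comm, ← Matrix.mulVec_transpose,
            skew_of_alt halt, Matrix.neg_mulVec, dotProduct_neg, CharTwo.neg_eq]
        rw [← hs, hval1]
        exact CharTwo.add_eq_zero.1 (by linear_combination h)
      nil := hN1.map (Matrix.toLinAlgEquiv' (R := F) (n := Fin a)) }
  refine ⟨⟨a, b, hab, P, R, hPR, hRP, N1, N2, hN2, eq, _, _, eqG, i2, s2, u2, U, rfl, hB, fun _ _ => rfl,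
    ⟨fun v _ => trivial, fun v _ hv => ?_⟩⟩⟩
  refine Matrix.mulVec_injective_iff_isUnit.2 u1 ?_
  rw [Matrix.mulVec_zero]
  exact funext fun i => by
    have := hv (Pi.single i 1) trivial
    rw [hB, single_one_dotProduct] at this
    exact this

variable {A A' : Matrix (Fin m) (Fin m) F}

omit [Fintype F] in
/-- The second part of the quadratic form is determined by the alternating form. -/
theorem Split.qf_second (S : Split o J qf A) (ho : o = true)
    (hqadd : ∀ u v, qf (u + v) = qf u + qf v + u ⬝ᵥ J *ᵥ v) (hqA : ∀ v, qf (A *ᵥ v) = qf v) (w : Fin S.b → F) :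
    qf (S.P *ᵥ Sum.elim 0 (S.N2 *ᵥ w)) = (S.N2 *ᵥ w) ⬝ᵥ S.G2 *ᵥ w := by
  have h := hqA (S.P *ᵥ Sum.elim 0 w)
  have e1 : A *ᵥ (S.P *ᵥ Sum.elim 0 w) = S.P *ᵥ Sum.elim 0 (S.N2 *ᵥ w) + S.P *ᵥ Sum.elim 0 w := by
    rw [Matrix.mulVec_mulVec, S.eq, ← Matrix.mulVec_mulVec, Matrix.fromBlocks_mulVec, ← Matrix.mulVec_add]
    congr 1
    ext (i | i) <;> simp [Matrix.add_mulVec]
  rw [e1, hqadd] at h
  have e2 : (S.P *ᵥ Sum.elim 0 (S.N2 *ᵥ w)) ⬝ᵥ J *ᵥ (S.P *ᵥ Sum.elim 0 w) = (S.N2 *ᵥ w) ⬝ᵥ S.G2 *ᵥ w := by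
    rw [Matrix.dotProduct_mulVec, ← Matrix.vecMul_transpose, Matrix.vecMul_vecMul, Matrix.dotProduct_mulVec,
      Matrix.vecMul_vecMul, S.eqG, ← Matrix.dotProduct_mulVec, Matrix.fromBlocks_mulVec, sumElim_dotProduct_sumElim]
    simp
  rw [e2] at h
  exact CharTwo.add_eq_zero.1 (by linear_combination h)

omit [Fintype F] [CharP F 2] in
theorem Split.qf_split (S : Split o J qf A) (hqadd : ∀ u v, qf (u + v) = qf u + qf v + u ⬝ᵥ J *ᵥ v)
    (x : Fin S.a → F) (y : Fin S.b → F) :
    qf (S.P *ᵥ Sum.elim x y) = qf (S.P *ᵥ Sum.elim x 0) + qf (S.P *ᵥ Sum.elim 0 y) := by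
  rw [mulVec_pair, hqadd]
  have : (S.P *ᵥ Sum.elim x 0) ⬝ᵥ J *ᵥ (S.P *ᵥ Sum.elim 0 y) = 0 := by
    rw [Matrix.dotProduct_mulVec, ← Matrix.vecMul_transpose, Matrix.vecMul_vecMul, Matrix.dotProduct_mulVec,
      Matrix.vecMul_vecMul, S.eqG, ← Matrix.dotProduct_mulVec, Matrix.fromBlocks_mulVec, sumElim_dotProduct_sumElim]
    simp
  rw [this, add_zero]

/-- Equal divisors away from one give isometric second parts. -/
theorem exists_second (halt : ∀ v, v ⬝ᵥ J *ᵥ v = 0) {b : ℕ} {N N' G G' : Matrix (Fin b) (Fin b) F}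
    (hN : IsUnit N) (h1 : (N + 1)ᵀ * G * (N + 1) = G) (hs : Gᵀ = -G) (hu : IsUnit G)
    (h1' : (N' + 1)ᵀ * G' * (N' + 1) = G') (hs' : G'ᵀ = -G') (hu' : IsUnit G')
    {s : Multiset (F[X] × ℕ)} (hd : HasDivisors (N + 1) s) (hd' : HasDivisors (N' + 1) s) :
    ∃ U : Matrix (Fin b) (Fin b) F, IsUnit U ∧ U * N = N' * U ∧ Uᵀ * G' * U = G := by
  obtain ⟨T, hT⟩ := isConj_of_divisors hd hd'
  set Tm : Matrix (Fin b) (Fin b) F := (T : Matrix (Fin b) (Fin b) F)
  have hM : (N + 1)ᵀ * (Tmᵀ * G' * Tm) * (N + 1) = Tmᵀ * G' * Tm := by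
    calc _ = (Tm * (N + 1))ᵀ * G' * (Tm * (N + 1)) := by simp only [transpose_mul, Matrix.mul_assoc]
      _ = Tmᵀ * ((N' + 1)ᵀ * G' * (N' + 1)) * Tm := by rw [hT, transpose_mul]; simp only [Matrix.mul_assoc]
      _ = _ := by rw [h1']
  have hp1 : IsUnit (N + 1 - 1) := by rwa [add_sub_cancel_right]
  have hp2 : IsUnit (N + 1 + 1) := by
    have : N + 1 + 1 = N := by
      rw [add_assoc]
      ext i j
      by_cases hij : i = j
      · subst hij; simp [CharTwo.add_self_eq_zero]
      · simp [hij]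
    rwa [this]
  obtain ⟨U, hUc, hUu, hU⟩ := congr_no_root hp1 hp2 hM
    (by simp only [transpose_mul, transpose_transpose, hs', Matrix.neg_mul, Matrix.mul_neg, Matrix.mul_assoc])
    (((Matrix.isUnit_iff_isUnit_det _).2 (by
      rw [Matrix.det_mul, Matrix.det_mul, Matrix.det_transpose]
      exact (((Matrix.isUnit_iff_isUnit_det _).1 T.isUnit).mul ((Matrix.isUnit_iff_isUnit_det _).1 hu')).mul
        ((Matrix.isUnit_iff_isUnit_det _).1 T.isUnit))) : IsUnit (Tmᵀ * G' * Tm)) h1 hs hu
  refine ⟨Tm * U, T.isUnit.mul hUu, ?_, ?_⟩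
  · have e : Tm * U * (N + 1) = (N' + 1) * (Tm * U) := by
      rw [Matrix.mul_assoc, hUc, ← Matrix.mul_assoc, hT, Matrix.mul_assoc]
    simpa [Matrix.mul_add, Matrix.add_mul] using e
  · rw [transpose_mul]
    simpa only [Matrix.mul_assoc] using hU

/-- An isometry conjugating one split matrix into another with the same invariants. -/
theorem exists_conj (halt : ∀ v, v ⬝ᵥ J *ᵥ v = 0)
    (hqadd : o = true → ∀ u v, qf (u + v) = qf u + qf v + u ⬝ᵥ J *ᵥ v)
    (hqA : o = true → ∀ v, qf (A *ᵥ v) = qf v) (hqA' : o = true → ∀ v, qf (A' *ᵥ v) = qf v)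
    (S : Split o J qf A) (S' : Split o J qf A') {L : List Atom} (hL : S.U.Dec L ⊤) (hL' : S'.U.Dec L ⊤)
    {s : Multiset (F[X] × ℕ)} (hb : S.b = S'.b) (hd : HasDivisors (S.N2 + 1) s) (hd' : HasDivisors (S'.N2 + 1) s) :
    ∃ Z : Matrix (Fin m) (Fin m) F, Zᵀ * J * Z = J ∧ Z * A = A' * Z ∧
      (o = true → ∀ v, qf (Z *ᵥ v) = qf v) := by
  classical
  obtain ⟨e, eN, eB, eQ⟩ := UForm.Dec.uiso hL hL'
  have ha : S.a = S'.a := by have := S.hab; have := S'.hab; omega
  obtain ⟨a, b, hab, P, R, hPR, hRP, N1, N2, hN2, eqA, G1, G2, eqG, i2, k2, u2, UU, UN, UB, UQ, piece⟩ := S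
  obtain ⟨a', b', hab', P', R', hPR', hRP', N1', N2', hN2', eqA', G1', G2', eqG', i2', k2', u2', UU', UN', UB', UQ',
    piece'⟩ := S'
  subst ha hb
  simp only at *
  set U1 := LinearMap.toMatrix' e.toLinearMap with hU1
  have hU1v : ∀ x, U1 *ᵥ x = e x := fun x => by rw [hU1, LinearMap.toMatrix'_mulVec]; rfl
  obtain ⟨U2, -, hU2c, hU2⟩ := exists_second halt hN2 i2 k2 u2 i2' k2' u2' hd hd'
  have hG1 : U1ᵀ * G1' * U1 = G1 := by
    ext i j
    have h := eB (Pi.single i 1) (Pi.single j 1)
    rw [UB', UB, ← hU1v, ← hU1v, Matrix.mulVec_mulVec, Matrix.dotProduct_mulVec, ← Matrix.vecMul_transpose,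
      Matrix.vecMul_vecMul, ← Matrix.mul_assoc, ← Matrix.dotProduct_mulVec, single_one_dotProduct,
      single_one_dotProduct, Matrix.mulVec_single_one, Matrix.mulVec_single_one] at h
    exact h
  have hU1c : U1 * N1 = N1' * U1 := by
    refine Matrix.toLin'.injective (LinearMap.ext fun x => ?_)
    have h := eN x
    rw [UN, UN', Matrix.toLin'_apply, Matrix.toLin'_apply] at h
    simp only [Matrix.toLin'_apply, ← Matrix.mulVec_mulVec, hU1v]
    exact h
  set D := fromBlocks U1 0 0 U2
  refine ⟨P' * D * R, ?_, ?_, fun ho v => ?_⟩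
  · calc (P' * D * R)ᵀ * J * (P' * D * R) = Rᵀ * (Dᵀ * (P'ᵀ * J * P') * D) * R := by
          simp only [transpose_mul, Matrix.mul_assoc]
      _ = Rᵀ * (Pᵀ * J * P) * R := by
          rw [eqG', eqG]
          simp [D, Matrix.fromBlocks_transpose, Matrix.fromBlocks_multiply, hG1, hU2]
      _ = (P * R)ᵀ * J * (P * R) := by simp only [transpose_mul, Matrix.mul_assoc]
      _ = J := by rw [hPR, transpose_one, Matrix.one_mul, Matrix.mul_one]
  · have hD : D * fromBlocks (N1 + 1) 0 0 (N2 + 1) = fromBlocks (N1' + 1) 0 0 (N2' + 1) * D := by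
      simp [D, Matrix.fromBlocks_multiply, Matrix.mul_add, Matrix.add_mul, hU1c, hU2c]
    have hA2 : R * A = fromBlocks (N1 + 1) 0 0 (N2 + 1) * R := by
      calc R * A = R * A * (P * R) := by rw [hPR, Matrix.mul_one]
        _ = R * (A * P) * R := by simp only [Matrix.mul_assoc]
        _ = _ := by rw [eqA, ← Matrix.mul_assoc R, hRP, Matrix.one_mul]
    calc P' * D * R * A = P' * (D * fromBlocks (N1 + 1) 0 0 (N2 + 1)) * R := by
          rw [Matrix.mul_assoc _ R, hA2]; simp only [Matrix.mul_assoc]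
      _ = (P' * fromBlocks (N1' + 1) 0 0 (N2' + 1)) * D * R := by rw [hD]; simp only [Matrix.mul_assoc]
      _ = A' * (P' * D * R) := by rw [← eqA']; simp only [Matrix.mul_assoc]
  · have h2 := fun w => (⟨a, b, hab, P, R, hPR, hRP, N1, N2, hN2, eqA, G1, G2, eqG, i2, k2, u2, UU, UN, UB, UQ, piece⟩ :
      Split o J qf A).qf_second ho (hqadd ho) (hqA ho) w
    have h2' := fun w => (⟨a, b, hab', P', R', hPR', hRP', N1', N2', hN2', eqA', G1', G2', eqG', i2', k2', u2', UU', UN',
      UB', UQ', piece'⟩ : Split o J qf A').qf_second ho (hqadd ho) (hqA' ho) w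
    have hs := fun x y => (⟨a, b, hab, P, R, hPR, hRP, N1, N2, hN2, eqA, G1, G2, eqG, i2, k2, u2, UU, UN, UB, UQ, piece⟩ :
      Split o J qf A).qf_split (hqadd ho) x y
    have hs' := fun x y => (⟨a, b, hab', P', R', hPR', hRP', N1', N2', hN2', eqA', G1', G2', eqG', i2', k2', u2', UU', UN',
      UB', UQ', piece'⟩ : Split o J qf A').qf_split (hqadd ho) x y
    simp only at h2 h2' hs hs'
    obtain ⟨z, rfl⟩ : ∃ z, v = P *ᵥ z := ⟨R *ᵥ v, by rw [Matrix.mulVec_mulVec, hPR, Matrix.one_mulVec]⟩
    rw [← Matrix.mulVec_mulVec, Matrix.mulVec_mulVec _ R, hRP, Matrix.one_mulVec, ← Matrix.mulVec_mulVec,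
      ← Sum.elim_comp_inl_inr z, Matrix.fromBlocks_mulVec]
    simp only [Sum.elim_comp_inl, Sum.elim_comp_inr, Matrix.zero_mulVec, add_zero, zero_add]
    rw [hs, hs', hU1v, ← UQ' ho, eQ ho, UQ ho]
    congr 1
    obtain ⟨w, hw⟩ := Matrix.mulVec_surjective_iff_isUnit.2 hN2 (z ∘ Sum.inr)
    rw [← hw, h2, Matrix.mulVec_mulVec, hU2c, ← Matrix.mulVec_mulVec, h2', Matrix.mulVec_mulVec _ N2' U2, ← hU2c,
      ← Matrix.mulVec_mulVec, Matrix.mulVec_mulVec w G2' U2, Matrix.dotProduct_mulVec (U2 *ᵥ (N2 *ᵥ w)),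
      ← Matrix.vecMul_transpose U2, Matrix.vecMul_vecMul, ← Matrix.mul_assoc, hU2, ← Matrix.dotProduct_mulVec]

end main

end CfsgLib.CharTwoClassNum
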