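import Cfsg.Agent.Lib.CharTwoClassNum.Decomp

/-!
Relations between orthogonal sums of atoms.
-/

set_option autoImplicit false

namespace CfsgLib.CharTwoClassNum

variable {F : Type*} [Field F] [CharP F 2]

namespace UForm

variable {o : Bool} {V : Type*} [AddCommGroup V] [Module F V] {A : UForm o F V}

/-- Vanishing of high values on a subspace killed by `N ^ m`. -/
theorem P_span_zero {m w : ℕ} {g : Fin w → V} (hg : A.IsRaw m g) {j : ℕ} (hj : Ok o j) (hm : m ≤ 2 * j)
    (h : ∀ i, A.P j (g i) = 0) : ∀ x ∈ A.span m g, A.P j x = 0 := by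
  intro x hx
  induction hx using Submodule.span_induction with
  | mem x hx =>
    obtain ⟨⟨i, t⟩, rfl⟩ := hx
    simp only
    rw [A.P_pow hj]
    rcases Nat.eq_zero_or_pos (t : ℕ) with ht | ht
    · rw [ht, Nat.zero_add]; exact h i
    · exact A.P_zero_of_height (hg.killed i) (by omega)
  | zero => exact A.P_zero hj
  | add x y hx hy ex ey => rw [A.P_add hj, ex, ey, A.B_pow_zero (hg.top_N_zero hx) y j j (by omega)]; simp
  | smul c x _ ex => rw [A.P_smul hj, ex, mul_zero]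

theorem pow_N (i : ℕ) (v : V) : (A.N ^ i) (A.N v) = (A.N ^ (i + 1)) v := by
  rw [pow_succ, Module.End.mul_apply]

theorem P_N {j : ℕ} (hj : Ok o j) (v : V) : A.P j (A.N v) = A.P (j + 1) v := by
  have h := A.P_pow hj 1 v
  rwa [pow_one, Nat.add_comm 1 j] at h

theorem comb_split {m w r : ℕ} {g : Fin w → V} (hk : ∀ j, (A.N ^ m) (g j) = 0) (hr : 1 ≤ r)
    (c : Fin w × Fin r → F) :
    ∃ u ∈ A.span m g, A.comb r g c = ∑ j, c (j, ⟨0, hr⟩) • g j + A.N u := by
  obtain ⟨r, rfl⟩ : ∃ r', r = r' + 1 := ⟨r - 1, by omega⟩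
  refine ⟨∑ j, ∑ i : Fin r, c (j, i.succ) • (A.N ^ (i : ℕ)) (g j),
    Submodule.sum_mem _ fun j _ => Submodule.sum_mem _ fun i _ => Submodule.smul_mem _ _ (A.pow_mem_span hk j i), ?_⟩
  rw [comb, Fintype.linearCombination_apply, Fintype.sum_prod_type, map_sum, ← Finset.sum_add_distrib]
  refine Finset.sum_congr rfl fun j _ => ?_
  rw [Fin.sum_univ_succ, map_sum]
  congr 1
  refine Finset.sum_congr rfl fun i _ => ?_
  rw [map_smul, ← A.pow_succ_apply, Fin.val_succ]

/-- A block corrected into the orthogonal of another one. -/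
theorem raw_shift {m m' w w' : ℕ} {g : Fin w → V} (hg : A.IsRaw m g) {z : Fin w' → V} {u : Fin w → V}
    (hu : ∀ j, u j ∈ A.span m' z) (hz : ∀ j, (A.N ^ m') (z j) = 0) (hk : ∀ j, (A.N ^ m) (u j) = 0)
    (horth : ∀ j, g j + u j ∈ A.orth (A.span m' z))
    (ht : ∀ i j, A.B ((A.N ^ (m - 1)) (g i)) (u j) = 0) : A.IsRaw m fun j => g j + u j := by
  refine ⟨hg.pos, fun j => by rw [map_add, hg.killed, hk, add_zero], fun i j => ?_⟩
  have h0 : A.B ((A.N ^ (m - 1)) (u i)) (g j + u j) = 0 := horth j _ (A.span_stable_pow hz (hu i) _)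
  rw [map_add (A.N ^ (m - 1)), map_add A.B, LinearMap.add_apply, h0, add_zero, map_add, hg.top, ht, add_zero]

/-- One generator. -/
theorem isRaw_one {k : ℕ} (hk : 1 ≤ k) {x : V} (hx : (A.N ^ (2 * k)) x = 0) (h1 : A.P k x = 1) :
    A.IsRaw (2 * k) fun _ : Fin 1 => x := by
  refine ⟨by omega, fun _ => hx, fun i j => ?_⟩
  rw [A.top_self_even hk hx, h1, pat, if_pos (Subsingleton.elim _ _)]

variable [Fintype F]

theorem Dec.append {L₁ L₂ : List Atom} : ∀ {W₁ W₂ : Submodule F V}, A.Dec L₁ W₁ → A.Dec L₂ W₂ →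
    W₂ ≤ A.orth W₁ → A.Dec (L₁ ++ L₂) (W₁ ⊔ W₂) := by
  induction L₁ with
  | nil =>
    intro W₁ W₂ h₁ h₂ _
    cases h₁
    simpa using h₂
  | cons a L ih =>
    intro W₁ W₂ h₁ h₂ ho
    cases h₁ with
    | @cons _ _ g W hg hd horth =>
      rw [sup_assoc, List.cons_append]
      refine Dec.cons g hg (ih hd h₂ fun y hy x hx => ho hy x (Submodule.mem_sup_right hx)) (sup_le horth ?_)
      exact fun y hy x hx => ho hy x (Submodule.mem_sup_left hx)

theorem Dec.split {L₁ L₂ : List Atom} : ∀ {W : Submodule F V}, A.Dec (L₁ ++ L₂) W →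
    ∃ W₁ W₂, A.Dec L₁ W₁ ∧ A.Dec L₂ W₂ ∧ W₂ ≤ A.orth W₁ ∧ W = W₁ ⊔ W₂ := by
  induction L₁ with
  | nil =>
    intro W h
    exact ⟨⊥, W, Dec.nil, h, fun y _ x hx => by rw [Submodule.mem_bot] at hx; subst hx; simp, by simp⟩
  | cons a L ih =>
    intro W h
    cases h with
    | @cons _ _ g W' hg hd horth =>
      obtain ⟨W₁, W₂, h1, h2, ho, rfl⟩ := ih hd
      refine ⟨A.span _ g ⊔ W₁, W₂, Dec.cons g hg h1 (le_trans le_sup_left horth), h2, fun y hy x hx => ?_,
        (sup_assoc _ _ _).symm⟩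
      obtain ⟨p, hp, s, hs, rfl⟩ := Submodule.mem_sup.1 hx
      rw [map_add, LinearMap.add_apply, horth (Submodule.mem_sup_right hy) p hp, ho hy s hs, add_zero]

theorem Dec.two_atoms {a b : Atom} {W : Submodule F V} (h : A.Dec [a, b] W) :
    ∃ (g : Fin a.width → V) (g' : Fin b.width → V), A.IsAtom a g ∧ A.IsAtom b g' ∧
      A.span a.height g ≤ W ∧ A.span b.height g' ≤ W ∧ A.span b.height g' ≤ A.orth (A.span a.height g) := by
  cases h with
  | @cons _ _ g W' hg hd ho =>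
    cases hd with
    | @cons _ _ g' W'' hg' hd' ho' =>
      exact ⟨g, g', hg, hg', le_sup_left, le_trans le_sup_left le_sup_right, le_trans le_sup_left ho⟩

theorem orth_pow {m m' w w' : ℕ} {g : Fin w → V} {g' : Fin w' → V} (hg : A.IsRaw m g) (hg' : A.IsRaw m' g')
    (h : A.span m' g' ≤ A.orth (A.span m g)) (i : Fin w) (j : Fin w') (a b : ℕ) :
    A.B ((A.N ^ a) (g i)) ((A.N ^ b) (g' j)) = 0 :=
  h (A.pow_mem_span hg'.killed j b) _ (A.pow_mem_span hg.killed i a)

/-- Two new atoms inside the span of old ones of the same dimension. -/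
theorem Dec.mk_two [FiniteDimensional F V] {P : List Atom} {W : Submodule F V} (h : A.Dec P W) {a b : Atom}
    {g : Fin a.width → V} {g' : Fin b.width → V} (hg : A.IsAtom a g) (hg' : A.IsAtom b g')
    (h1 : A.span a.height g ≤ W) (h2 : A.span b.height g' ≤ W)
    (ho : A.span b.height g' ≤ A.orth (A.span a.height g))
    (hd : (P.map Atom.hdim).sum = a.hdim + b.hdim) : A.Dec [a, b] W := by
  have hnew : A.Dec [a, b] (A.span a.height g ⊔ (A.span b.height g' ⊔ ⊥)) := by
    refine Dec.cons g hg (Dec.cons g' hg' Dec.nil bot_le) ?_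
    rw [sup_bot_eq]; exact ho
  have hle : A.span a.height g ⊔ (A.span b.height g' ⊔ ⊥) ≤ W := by
    rw [sup_bot_eq]; exact sup_le h1 h2
  have heq := Submodule.eq_of_le_of_finrank_eq hle (by rw [hnew.finrank, h.finrank, hd]; simp)
  rwa [heq] at hnew

variable [FiniteDimensional F V]

/-- A bit, when it is defined. -/
def flipBit (o : Bool) (j : ℕ) (e : Bool) : Bool := (o || decide (1 ≤ j)) && !e

theorem bitOf_flip {j : ℕ} (e : Bool) {p : F} (h : Ok o j → cls p = !e) : bitOf o j p = flipBit o j e := by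
  by_cases hj : (o || decide (1 ≤ j)) = true
  · have : Ok o j := by simp at hj; exact hj
    simp [bitOf, flipBit, hj, h this]
  · simp only [Bool.not_eq_true] at hj
    simp [bitOf, flipBit, hj]

theorem cls_shift {t : F} (ht : t ^ 2 = bitVal true) (e : Bool) : cls (bitVal e + t ^ 2) = !e := by
  rw [cls_add, ht, cls_bitVal, cls_bitVal]; cases e <;> rfl

theorem P_zero_smul {j k : ℕ} (hj : Ok o j) {x y : V} (i : ℕ) (c : F)
    (h0 : A.B ((A.N ^ j) x) ((A.N ^ (j + i)) y) = 0) (hk : i + j = k) :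
    A.P j (x + c • (A.N ^ i) y) = A.P j x + c ^ 2 * A.P k y := by
  rw [A.P_add_pow_smul hj, h0, mul_zero, add_zero, hk]

/-- The value at `k` of a leading multiple of a cyclic generator plus higher terms. -/
theorem P_lead {k : ℕ} (hk : 1 ≤ k) {z : V} (hz : (A.N ^ (2 * k)) z = 0) {w : V} (hw : (A.N ^ (2 * k)) w = 0)
    (h1 : A.P k z = 1) (c : F) : A.P k (c • z + A.N w) = c ^ 2 := by
  rw [A.P_add (Or.inr hk), A.P_smul (Or.inr hk), h1, P_N (Or.inr hk),
    A.P_zero_of_height hw (by omega), map_smul, map_smul, LinearMap.smul_apply, pow_N,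
    A.B_pow_zero hz w (k + 1) k (by omega)]
  simp

theorem sum_one {w : Fin 1 → V} : ∑ j, w j = w 0 := Fin.sum_univ_one _

/-- Two cyclic atoms of equal height exchange their bits. -/
theorem rel_cyc_cyc {k : ℕ} {e e' : Bool} (hok : Ok o (k - 1)) {W : Submodule F V}
    (h : A.Dec [.cyc k e, .cyc k e'] W) : A.Dec [.cyc k (!e), .cyc k (!e')] W := by
  obtain ⟨gx, gy, hx, hy, hxW, hyW, ho⟩ := h.two_atoms
  have hk : 1 ≤ k := hx.valid.1
  obtain ⟨t, ht⟩ := exists_sqrt (bitVal true : F)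
  have hxy := orth_pow hx.raw hy.raw ho 0 0
  have hkx : (A.N ^ (2 * k)) (gx 0) = 0 := hx.raw.killed 0
  have hky : (A.N ^ (2 * k)) (gy 0) = 0 := hy.raw.killed 0
  set z := gx 0 + t • (A.N ^ 1) (gy 0) with hzdef
  have hkz : (A.N ^ (2 * k)) z = 0 := by
    rw [hzdef, map_add, map_smul, A.pow_add_apply, hkx, A.pow_eq_zero_of_le hky (by omega), smul_zero, add_zero]
  have hPz : A.P k z = 1 := by
    rw [hzdef, P_zero_smul (Or.inr hk) 1 t (hxy _ _) rfl, hx.vals 0 k (Or.inr hk),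
      A.P_zero_of_height hky (by omega)]
    simp [Atom.tgt]
  have hbz : A.P (k - 1) z = bitVal e + t ^ 2 := by
    rw [hzdef, P_zero_smul hok 1 t (hxy _ _) rfl, hx.vals 0 _ hok,
      show 1 + (k - 1) = k by omega, hy.vals 0 k (Or.inr hk)]
    simp [Atom.tgt, show k - 1 ≠ k by omega, show k - 1 + 1 = k by omega]
  have hz := isRaw_one (A := A) hk hkz hPz
  have hf : ∀ (l : Fin 1) s, A.B ((A.N ^ s) z) (gy 0) = t * A.B ((A.N ^ (s + 1)) (gy 0)) (gy 0) := fun l s => by
    have := hxy s 0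
    rw [pow_zero, Module.End.one_apply] at this
    rw [hzdef, map_add, map_smul, A.pow_add_apply, map_add, LinearMap.add_apply, map_smul, LinearMap.smul_apply,
      this, zero_add, smul_eq_mul]
  obtain ⟨c, hc, hc0⟩ := hz.exists_proj (r := 2 * k - 1) (by omega) (gy 0) fun l s hs => by
    rw [hf l s, A.pow_eq_zero_of_le hky (by omega), map_zero, LinearMap.zero_apply, mul_zero]
  obtain ⟨w, hw, hsplit⟩ := comb_split hz.killed (show 1 ≤ 2 * k - 1 by omega) c
  rw [sum_one] at hsplit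
  have hlead : c (0, ⟨0, by omega⟩) = t := by
    rw [hc0 0 _ rfl, hf 0, show 2 * k - 1 - 1 + 1 = 2 * k - 1 by omega, A.top_self_even hk hky,
      hy.vals 0 k (Or.inr hk)]
    simp [Atom.tgt]
  rw [hlead] at hsplit
  set u := (A.N ^ (2 * k - (2 * k - 1))) (A.comb (2 * k - 1) (fun _ : Fin 1 => z) c) with hudef
  have hu : u = A.N (t • z + A.N w) := by
    rw [hudef, hsplit, show 2 * k - (2 * k - 1) = 1 by omega, pow_one]
  have hin : t • z + A.N w ∈ A.span (2 * k) fun _ : Fin 1 => z :=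
    Submodule.add_mem _ (Submodule.smul_mem _ _ (A.gen_mem_span hz.killed 0)) (A.span_stable hz.killed hw)
  have hPv : A.P (k - 1) (gy 0 + u) = bitVal e' + t ^ 2 := by
    have e1 : A.B ((A.N ^ (k - 1)) (gy 0)) ((A.N ^ (k - 1 + 1)) z) = 0 := by
      rw [hzdef, map_add, map_smul, A.pow_add_apply, map_add, map_smul, A.symm _ ((A.N ^ (k - 1 + 1)) (gx 0)),
        hxy, A.B_pow_zero hky _ _ _ (by omega)]
      simp
    have e2 : A.B ((A.N ^ (k - 1)) (gy 0)) ((A.N ^ (k - 1 + 1 + 1)) w) = 0 :=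
      A.B_pow_zero hky _ _ _ (by omega)
    rw [hu, A.P_add hok, hy.vals 0 _ hok, P_N hok, show k - 1 + 1 = k by omega,
      P_lead hk hkz (hz.top_N_zero hw) hPz t, pow_N, map_add, map_smul, pow_N, map_add, map_smul, e1, e2]
    simp [Atom.tgt, show k - 1 ≠ k by omega, show k - 1 + 1 = k by omega]
  have hv : A.IsRaw (2 * k) fun _ : Fin 1 => gy 0 + u := by
    have hraw : A.IsRaw (2 * k) fun _ : Fin 1 => gy 0 := isRaw_one hk hky (by simpa [Atom.tgt] using hy.vals 0 k (Or.inr hk))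
    refine raw_shift hraw (u := fun _ => u) (z := fun _ : Fin 1 => z) (m' := 2 * k) (fun _ => ?_) (fun _ => hkz)
      (fun _ => ?_) (fun _ => hc) fun _ _ => ?_
    · rw [hu]; exact A.span_stable hz.killed hin
    · exact hz.top_N_zero (by rw [hu]; exact A.span_stable hz.killed hin)
    · rw [hu]
      have := A.B_pow_zero hky (t • z + A.N w) 1 (2 * k - 1) (by omega)
      rwa [pow_one] at this
  obtain ⟨a', ha, has⟩ := A.exists_atom_cyc hz
  obtain ⟨b', hb, hbs⟩ := A.exists_atom_cyc hv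
  rw [hbz, bitOf_ok hok, cls_shift ht] at ha
  rw [hPv, bitOf_ok hok, cls_shift ht] at hb
  have hzW : A.span (2 * k) (fun _ : Fin 1 => z) ≤ W := A.span_le h.isPiece.stable fun _ =>
    W.add_mem (hxW (A.gen_mem_span hx.raw.killed 0)) (W.smul_mem _ (hyW (A.pow_mem_span hy.raw.killed 0 1)))
  refine h.mk_two ha hb (has.le.trans hzW) (hbs.le.trans (A.span_le h.isPiece.stable fun _ => W.add_mem
    (hyW (A.gen_mem_span hy.raw.killed 0)) (hzW (by rw [hu]; exact A.span_stable hz.killed hin)))) ?_ ?_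
  · change A.span (2 * k) b' ≤ A.orth (A.span (2 * k) a')
    rw [hbs, has]
    exact A.span_le (fun _ hv' => A.orth_stable hz hv') fun _ => hc
  · simp [Atom.hdim]

omit [FiniteDimensional F V] in
theorem orth_comb_zero {m w : ℕ} {g : Fin w → V} (hg : A.IsRaw m g) {v : V}
    (h : ∀ l s, A.B ((A.N ^ s) (g l)) v = 0) {x : V} (hx : x ∈ A.span m g) : A.B v x = 0 := by
  rw [A.symm]; exact A.orth_of_gens h x hx

/-- A cyclic atom and the next one exchange their bits. -/
theorem rel_cyc_next {k : ℕ} {e e' : Bool} {W : Submodule F V}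
    (h : A.Dec [.cyc k e, .cyc (k + 1) e'] W) :
    A.Dec [.cyc k (flipBit o (k - 1) e), .cyc (k + 1) (!e')] W := by
  obtain ⟨gx, gy, hx, hy, hxW, hyW, ho⟩ := h.two_atoms
  have hk : 1 ≤ k := hx.valid.1
  obtain ⟨t, ht⟩ := exists_sqrt (bitVal true : F)
  have hxy := orth_pow hx.raw hy.raw ho 0 0
  have hkx : (A.N ^ (2 * k)) (gx 0) = 0 := hx.raw.killed 0
  have hky : (A.N ^ (2 * (k + 1))) (gy 0) = 0 := hy.raw.killed 0
  have hy1 : A.P (k + 1) (gy 0) = 1 := by simpa [Atom.tgt] using hy.vals 0 (k + 1) (Or.inr (by omega))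
  have hy0 : A.P k (gy 0) = bitVal e' := by simpa [Atom.tgt] using hy.vals 0 k (Or.inr hk)
  set z := gx 0 + t • (A.N ^ 2) (gy 0) with hzdef
  have hkz : (A.N ^ (2 * k)) z = 0 := by
    rw [hzdef, map_add, map_smul, A.pow_add_apply, hkx, A.pow_eq_zero_of_le hky (by omega), smul_zero, add_zero]
  have hPz : A.P k z = 1 := by
    rw [hzdef, P_zero_smul (Or.inr hk) 2 t (hxy _ _) rfl, hx.vals 0 k (Or.inr hk),
      A.P_zero_of_height hky (by omega)]
    simp [Atom.tgt]
  have hbz : Ok o (k - 1) → cls (A.P (k - 1) z) = !e := fun hok => by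
    rw [hzdef, P_zero_smul hok 2 t (hxy _ _) (k := k + 1) (by omega), hx.vals 0 _ hok, hy1]
    simp [Atom.tgt, show k - 1 ≠ k by omega, show k - 1 + 1 = k by omega, cls_shift ht]
  have hz := isRaw_one (A := A) hk hkz hPz
  have hf : ∀ s, A.B ((A.N ^ s) z) (gy 0) = t * A.B ((A.N ^ (s + 2)) (gy 0)) (gy 0) := fun s => by
    have := hxy s 0
    rw [pow_zero, Module.End.one_apply] at this
    rw [hzdef, map_add, map_smul, A.pow_add_apply, map_add, LinearMap.add_apply, map_smul, LinearMap.smul_apply,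
      this, zero_add, smul_eq_mul]
  obtain ⟨c, hc, hc0⟩ := hz.exists_proj (r := 2 * k) le_rfl (gy 0) fun _ s hs => by
    rw [hf s, A.pow_eq_zero_of_le hky (by omega), map_zero, LinearMap.zero_apply, mul_zero]
  obtain ⟨w, hw, hsplit⟩ := comb_split hz.killed (show 1 ≤ 2 * k by omega) c
  rw [sum_one] at hsplit
  have hlead : c (0, ⟨0, by omega⟩) = t := by
    rw [hc0 0 _ rfl, hf, show 2 * k - 1 + 2 = 2 * (k + 1) - 1 by omega,
      A.top_self_even (by omega) hky, hy1, mul_one]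
  rw [hlead] at hsplit
  rw [Nat.sub_self, pow_zero, Module.End.one_apply, hsplit] at hc
  set u := t • z + A.N w with hudef
  have hin : u ∈ A.span (2 * k) fun _ : Fin 1 => z :=
    Submodule.add_mem _ (Submodule.smul_mem _ _ (A.gen_mem_span hz.killed 0)) (A.span_stable hz.killed hw)
  have hPv : cls (A.P k (gy 0 + u)) = !e' := by
    rw [A.P_add (Or.inr hk), hy0, hudef, P_lead hk hkz (hz.top_N_zero hw) hPz t,
      A.B_pow_zero' (hz.top_N_zero hin) (gy 0) (a := k) (b := k) (by omega), add_zero, cls_shift ht]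
  have hv : A.IsRaw (2 * (k + 1)) fun _ : Fin 1 => gy 0 + u := by
    refine raw_shift (isRaw_one (by omega) hky hy1) (u := fun _ => u) (z := fun _ : Fin 1 => z) (m' := 2 * k)
      (fun _ => hin) (fun _ => hkz) (fun _ => A.pow_eq_zero_of_le (hz.top_N_zero hin) (by omega)) (fun _ => hc)
      fun _ _ => ?_
    have := A.B_pow_zero' (hz.top_N_zero hin) (gy 0) (a := 2 * (k + 1) - 1) (b := 0) (by omega)
    rwa [pow_zero, Module.End.one_apply] at this
  obtain ⟨a', ha, has⟩ := A.exists_atom_cyc hz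
  obtain ⟨b', hb, hbs⟩ := A.exists_atom_cyc hv
  rw [bitOf_flip e hbz] at ha
  rw [Nat.add_sub_cancel, bitOf_ok (Or.inr hk), hPv] at hb
  have hzW : A.span (2 * k) (fun _ : Fin 1 => z) ≤ W := A.span_le h.isPiece.stable fun _ =>
    W.add_mem (hxW (A.gen_mem_span hx.raw.killed 0)) (W.smul_mem _ (hyW (A.pow_mem_span hy.raw.killed 0 2)))
  refine h.mk_two ha hb (has.le.trans hzW) (hbs.le.trans (A.span_le h.isPiece.stable fun _ => W.add_mem
    (hyW (A.gen_mem_span hy.raw.killed 0)) (hzW hin))) ?_ ?_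
  · change A.span (2 * (k + 1)) b' ≤ A.orth (A.span (2 * k) a')
    rw [hbs, has]
    exact A.span_le (fun _ hv' => A.orth_stable hz hv') fun _ => hc
  · simp [Atom.hdim]

omit [FiniteDimensional F V] in
/-- Generators of an odd pair with first value one. -/
theorem IsAtom.pair_one {k : ℕ} {e : Bool} {g : Fin 2 → V} (hg : A.IsAtom (.pair (2 * k + 1) e) g) (hk : Ok o k) :
    ∃ g' : Fin 2 → V, A.IsRaw (2 * k + 1) g' ∧ (∀ i, g' i ∈ A.span (2 * k + 1) g) ∧
      A.P k (g' 0) = 1 ∧ A.P k (g' 1) = bitVal e := by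
  have h0 := hg.vals 0 k hk
  have h1 := hg.vals 1 k hk
  cases e with
  | true => exact ⟨g, hg.raw, A.gen_mem_span hg.raw.killed, by simpa [Atom.tgt] using h0, by simpa [Atom.tgt] using h1⟩
  | false =>
    simp [Atom.tgt] at h0 h1
    have hr := A.pair_change hg.raw (a := (1 : F)) (b := 1) (c := 0) (d := 1) (by ring)
    refine ⟨_, hr, fun i => ?_, ?_, ?_⟩
    · fin_cases i <;> exact Submodule.add_mem _ (Submodule.smul_mem _ _ (A.gen_mem_span hg.raw.killed 0))
        (Submodule.smul_mem _ _ (A.gen_mem_span hg.raw.killed 1))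
    · simp only [Matrix.cons_val_zero]
      rw [A.pair_P_comb hg.raw hk, h0, h1]; ring
    · simp only [Matrix.cons_val_one, Matrix.cons_val_zero]
      rw [A.pair_P_comb hg.raw hk, h0, h1, bitVal_false]; ring

omit [FiniteDimensional F V] in
theorem pairBit_odd {k : ℕ} (hk : Ok o k) (g : Fin 2 → V) :
    A.pairBit (2 * k + 1) g = cls (A.P k (g 0) * A.P k (g 1)) := by
  rw [pairBit, show (2 * k + 1) / 2 = k by omega, bitOf_ok hk, show (2 * k + 1) % 2 = 1 by omega]
  simp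

/-- A cyclic atom and the odd pair just above exchange their bits. -/
theorem rel_up {k : ℕ} {e e' : Bool} {W : Submodule F V}
    (h : A.Dec [.cyc k e, .pair (2 * k + 1) e'] W) :
    A.Dec [.cyc k (flipBit o (k - 1) e), .pair (2 * k + 1) (!e')] W := by
  obtain ⟨gx, gy₀, hx, hy₀, hxW, hyW, ho⟩ := h.two_atoms
  have hk : 1 ≤ k := hx.valid.1
  obtain ⟨gy, hy, hymem, hy0, hy1⟩ := hy₀.pair_one (Or.inr hk)
  have hys : A.span (2 * k + 1) gy = A.span (2 * k + 1) gy₀ := hy₀.raw.span_congr hy hymem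
  obtain ⟨t, ht⟩ := exists_sqrt (bitVal true : F)
  have hxy := orth_pow hx.raw hy (hys.le.trans ho) 0
  have hkx : (A.N ^ (2 * k)) (gx 0) = 0 := hx.raw.killed 0
  set z := gx 0 + t • (A.N ^ 1) (gy 0) with hzdef
  have hkz : (A.N ^ (2 * k)) z = 0 := by
    rw [hzdef, map_add, map_smul, A.pow_add_apply, hkx, hy.killed, smul_zero, add_zero]
  have hPz : A.P k z = 1 := by
    rw [hzdef, P_zero_smul (Or.inr hk) 1 t (hxy _ _ _) rfl, hx.vals 0 k (Or.inr hk),
      A.P_zero_of_height (hy.killed 0) (by omega)]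
    simp [Atom.tgt]
  have hbz : Ok o (k - 1) → cls (A.P (k - 1) z) = !e := fun hok => by
    rw [hzdef, P_zero_smul hok 1 t (hxy _ _ _) (k := k) (by omega), hx.vals 0 _ hok, hy0]
    simp [Atom.tgt, show k - 1 ≠ k by omega, show k - 1 + 1 = k by omega, cls_shift ht]
  have hz := isRaw_one (A := A) hk hkz hPz
  have hf : ∀ j s, A.B ((A.N ^ s) z) (gy j) = t * A.B ((A.N ^ (s + 1)) (gy 0)) (gy j) := fun j s => by
    have := hxy j s 0
    rw [pow_zero, Module.End.one_apply] at this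
    rw [hzdef, map_add, map_smul, A.pow_add_apply, map_add, LinearMap.add_apply, map_smul, LinearMap.smul_apply,
      this, zero_add, smul_eq_mul]
  obtain ⟨c₀, hc₀, -⟩ := hz.exists_proj (r := 2 * k - 1) (by omega) (gy 0) fun _ s hs => by
    rcases Nat.lt_or_ge (2 * k) (s + 1) with h | h
    · rw [hf, A.pow_eq_zero_of_le (hy.killed 0) (by omega), map_zero, LinearMap.zero_apply, mul_zero]
    · rw [hf, show s + 1 = 2 * k by omega, A.top_self_odd (hy.killed 0), mul_zero]
  obtain ⟨c₁, hc₁, hc₁0⟩ := hz.exists_proj (r := 2 * k) le_rfl (gy 1) fun _ s hs => by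
    rw [hf, A.pow_eq_zero_of_le (hy.killed 0) (by omega), map_zero, LinearMap.zero_apply, mul_zero]
  rw [show 2 * k - (2 * k - 1) = 1 by omega, pow_one] at hc₀
  set w₀ := A.comb (2 * k - 1) (fun _ : Fin 1 => z) c₀
  have hw₀ : w₀ ∈ A.span (2 * k) fun _ : Fin 1 => z := A.comb_mem hz.killed c₀
  obtain ⟨w, hw, hsplit⟩ := comb_split hz.killed (show 1 ≤ 2 * k by omega) c₁
  rw [sum_one] at hsplit
  have hlead : c₁ (0, ⟨0, by omega⟩) = t := by
    rw [hc₁0 0 _ rfl, hf, show 2 * k - 1 + 1 = 2 * k + 1 - 1 by omega, hy.top, pat, if_pos (by decide), mul_one]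
  rw [hlead] at hsplit
  rw [Nat.sub_self, pow_zero, Module.End.one_apply, hsplit] at hc₁
  set u₁ := t • z + A.N w with hu₁
  have hin : u₁ ∈ A.span (2 * k) fun _ : Fin 1 => z :=
    Submodule.add_mem _ (Submodule.smul_mem _ _ (A.gen_mem_span hz.killed 0)) (A.span_stable hz.killed hw)
  have hin₀ : A.N w₀ ∈ A.span (2 * k) fun _ : Fin 1 => z := A.span_stable hz.killed hw₀
  have hP0 : A.P k (gy 0 + A.N w₀) = 1 := by
    rw [A.P_add (Or.inr hk), hy0, P_N (Or.inr hk), A.P_zero_of_height (hz.top_N_zero hw₀) (by omega), pow_N,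
      A.B_pow_zero (hy.killed 0) _ _ _ (by omega)]
    simp
  have hP1 : A.P k (gy 1 + u₁) = bitVal e' + t ^ 2 := by
    rw [A.P_add (Or.inr hk), hy1, hu₁, P_lead hk hkz (hz.top_N_zero hw) hPz t,
      A.B_pow_zero' (hz.top_N_zero hin) (gy 1) (a := k) (b := k) (by omega), add_zero]
  have hv : A.IsRaw (2 * k + 1) fun j => gy j + ![A.N w₀, u₁] j := by
    have hm : ∀ j : Fin 2, ![A.N w₀, u₁] j ∈ A.span (2 * k) fun _ : Fin 1 => z := fun j => by
      fin_cases j
      · exact hin₀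
      · exact hin
    refine raw_shift hy (z := fun _ : Fin 1 => z) hm (fun _ => hkz)
      (fun j => A.pow_eq_zero_of_le (hz.top_N_zero (hm j)) (by omega)) (fun j => ?_) fun i j => ?_
    · fin_cases j
      · exact hc₀
      · exact hc₁
    · have := A.B_pow_zero' (hz.top_N_zero (hm j)) (gy i) (a := 2 * k + 1 - 1) (b := 0) (by omega)
      rwa [pow_zero, Module.End.one_apply] at this
  obtain ⟨a', ha, has⟩ := A.exists_atom_cyc hz
  obtain ⟨b', hb, hbs⟩ := A.exists_atom_pair hv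
  rw [bitOf_flip e hbz] at ha
  have hbit : A.pairBit (2 * k + 1) (fun j => gy j + ![A.N w₀, u₁] j) = !e' := by
    rw [pairBit_odd (Or.inr hk)]
    simp [hP0, hP1, cls_shift ht]
  rw [hbit] at hb
  have hzW : A.span (2 * k) (fun _ : Fin 1 => z) ≤ W := A.span_le h.isPiece.stable fun _ =>
    W.add_mem (hxW (A.gen_mem_span hx.raw.killed 0)) (W.smul_mem _ (hyW (hys.le (A.pow_mem_span hy.killed 0 1))))
  refine h.mk_two ha hb (has.le.trans hzW) (hbs.le.trans (A.span_le h.isPiece.stable fun j => W.add_mem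
    (hyW (hys.le (A.gen_mem_span hy.killed j))) (hzW ?_))) ?_ ?_
  · fin_cases j
    · exact hin₀
    · exact hin
  · change A.span (2 * k + 1) b' ≤ A.orth (A.span (2 * k) a')
    rw [hbs, has]
    refine A.span_le (fun _ hv' => A.orth_stable hz hv') fun j => ?_
    fin_cases j
    · exact hc₀
    · exact hc₁
  · simp [Atom.hdim]

/-- A cyclic atom and the odd pair just below exchange their bits. -/
theorem rel_down {k : ℕ} {e e' : Bool} (hok : Ok o k) {W : Submodule F V}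
    (h : A.Dec [.cyc (k + 1) e, .pair (2 * k + 1) e'] W) :
    A.Dec [.cyc (k + 1) (!e), .pair (2 * k + 1) (!e')] W := by
  obtain ⟨gx, gy₀, hx, hy₀, hxW, hyW, ho⟩ := h.two_atoms
  obtain ⟨gy, hy, hymem, hy0, hy1⟩ := hy₀.pair_one hok
  have hys : A.span (2 * k + 1) gy = A.span (2 * k + 1) gy₀ := hy₀.raw.span_congr hy hymem
  obtain ⟨t, ht⟩ := exists_sqrt (bitVal true : F)
  have hxy := orth_pow hx.raw hy (hys.le.trans ho) 0
  have hkx : (A.N ^ (2 * (k + 1))) (gx 0) = 0 := hx.raw.killed 0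
  set z := gx 0 + t • (A.N ^ 0) (gy 0) with hzdef
  have hkz : (A.N ^ (2 * (k + 1))) z = 0 := by
    rw [hzdef, map_add, map_smul, A.pow_add_apply, hkx, A.pow_eq_zero_of_le (hy.killed 0) (by omega), smul_zero,
      add_zero]
  have hPz : A.P (k + 1) z = 1 := by
    rw [hzdef, P_zero_smul (Or.inr (by omega)) 0 t (hxy _ _ _) (k := k + 1) (by omega),
      hx.vals 0 (k + 1) (Or.inr (by omega)), A.P_zero_of_height (hy.killed 0) (by omega)]
    simp [Atom.tgt]
  have hbz : cls (A.P k z) = !e := by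
    rw [hzdef, P_zero_smul hok 0 t (hxy _ _ _) (k := k) (by omega), hx.vals 0 _ hok, hy0]
    simp [Atom.tgt, cls_shift ht]
  have hz := isRaw_one (A := A) (show 1 ≤ k + 1 by omega) hkz hPz
  have hf : ∀ j s, A.B ((A.N ^ s) z) (gy j) = t * A.B ((A.N ^ s) (gy 0)) (gy j) := fun j s => by
    have := hxy j s 0
    rw [pow_zero, Module.End.one_apply] at this
    rw [hzdef, map_add, map_smul, A.pow_add_apply, map_add, LinearMap.add_apply, map_smul, LinearMap.smul_apply,
      this, zero_add, smul_eq_mul, Nat.add_zero]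
  obtain ⟨c₀, hc₀, -⟩ := hz.exists_proj (r := 2 * k) (by omega) (gy 0) fun _ s hs => by
    rcases Nat.lt_or_ge (2 * k) s with h | h
    · rw [hf, A.pow_eq_zero_of_le (hy.killed 0) (by omega), map_zero, LinearMap.zero_apply, mul_zero]
    · rw [hf, show s = 2 * k by omega, A.top_self_odd (hy.killed 0), mul_zero]
  obtain ⟨c₁, hc₁, hc₁0⟩ := hz.exists_proj (r := 2 * k + 1) (by omega) (gy 1) fun _ s hs => by
    rw [hf, A.pow_eq_zero_of_le (hy.killed 0) (by omega), map_zero, LinearMap.zero_apply, mul_zero]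
  rw [show 2 * (k + 1) - 2 * k = 2 by omega] at hc₀
  rw [show 2 * (k + 1) - (2 * k + 1) = 1 by omega, pow_one] at hc₁
  set w₀ := A.comb (2 * k) (fun _ : Fin 1 => z) c₀
  have hw₀ : w₀ ∈ A.span (2 * (k + 1)) fun _ : Fin 1 => z := A.comb_mem hz.killed c₀
  obtain ⟨w, hw, hsplit⟩ := comb_split hz.killed (show 1 ≤ 2 * k + 1 by omega) c₁
  rw [sum_one] at hsplit
  have hlead : c₁ (0, ⟨0, by omega⟩) = t := by
    rw [hc₁0 0 _ rfl, hf, hy.top, pat, if_pos (by decide), mul_one]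
  rw [hlead] at hsplit
  rw [hsplit] at hc₁
  set w₁ := t • z + A.N w with hw₁def
  have hw₁ : w₁ ∈ A.span (2 * (k + 1)) fun _ : Fin 1 => z :=
    Submodule.add_mem _ (Submodule.smul_mem _ _ (A.gen_mem_span hz.killed 0)) (A.span_stable hz.killed hw)
  have hP0 : A.P k (gy 0 + (A.N ^ 2) w₀) = 1 := by
    rw [A.P_add hok, hy0, A.P_pow hok, A.P_zero_of_height (hz.top_N_zero hw₀) (by omega), A.pow_add_apply,
      A.B_pow_zero (hy.killed 0) _ _ _ (by omega)]
    simp
  have hP1 : A.P k (gy 1 + A.N w₁) = bitVal e' + t ^ 2 := by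
    rw [A.P_add hok, hy1, P_N hok, hw₁def, P_lead (by omega) hkz (hz.top_N_zero hw) hPz t, pow_N,
      A.B_pow_zero (hy.killed 1) _ _ _ (by omega), add_zero]
  have hm : ∀ j : Fin 2, ![(A.N ^ 2) w₀, A.N w₁] j ∈ A.span (2 * (k + 1)) fun _ : Fin 1 => z := fun j => by
    fin_cases j
    · exact A.span_stable_pow hz.killed hw₀ 2
    · exact A.span_stable hz.killed hw₁
  have hv : A.IsRaw (2 * k + 1) fun j => gy j + ![(A.N ^ 2) w₀, A.N w₁] j := by
    refine raw_shift hy (z := fun _ : Fin 1 => z) hm (fun _ => hkz) (fun j => ?_) (fun j => ?_) fun i j => ?_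
    · fin_cases j
      · change (A.N ^ (2 * k + 1)) ((A.N ^ 2) w₀) = 0
        rw [A.pow_add_apply]; exact A.pow_eq_zero_of_le (hz.top_N_zero hw₀) (by omega)
      · change (A.N ^ (2 * k + 1)) (A.N w₁) = 0
        rw [pow_N]; exact A.pow_eq_zero_of_le (hz.top_N_zero hw₁) (by omega)
    · fin_cases j
      · exact hc₀
      · exact hc₁
    · fin_cases j
      · exact A.B_pow_zero (hy.killed i) w₀ 2 _ (by omega)
      · have := A.B_pow_zero (hy.killed i) w₁ 1 (2 * k + 1 - 1) (by omega)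
        rwa [pow_one] at this
  obtain ⟨a', ha, has⟩ := A.exists_atom_cyc hz
  obtain ⟨b', hb, hbs⟩ := A.exists_atom_pair hv
  rw [Nat.add_sub_cancel, bitOf_ok hok, hbz] at ha
  have hbit : A.pairBit (2 * k + 1) (fun j => gy j + ![(A.N ^ 2) w₀, A.N w₁] j) = !e' := by
    rw [pairBit_odd hok]
    simp [hP0, hP1, cls_shift ht]
  rw [hbit] at hb
  have hzW : A.span (2 * (k + 1)) (fun _ : Fin 1 => z) ≤ W := A.span_le h.isPiece.stable fun _ =>
    W.add_mem (hxW (A.gen_mem_span hx.raw.killed 0)) (W.smul_mem _ (hyW (hys.le (A.pow_mem_span hy.killed 0 0))))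
  refine h.mk_two ha hb (has.le.trans hzW) (hbs.le.trans (A.span_le h.isPiece.stable fun j => W.add_mem
    (hyW (hys.le (A.gen_mem_span hy.killed j))) (hzW (hm j)))) ?_ ?_
  · change A.span (2 * k + 1) b' ≤ A.orth (A.span (2 * (k + 1)) a')
    rw [hbs, has]
    refine A.span_le (fun _ hv' => A.orth_stable hz hv') fun j => ?_
    fin_cases j
    · exact hc₀
    · exact hc₁
  · simp [Atom.hdim]

omit [FiniteDimensional F V] in
theorem top_cross_zero {m w : ℕ} {g : Fin w → V} (hg : A.IsRaw m g) {v : V}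
    (h : ∀ l, A.B ((A.N ^ (m - 1)) (g l)) v = 0) {x : V} (hx : x ∈ A.span m g) :
    A.B ((A.N ^ (m - 1)) x) v = 0 := by
  induction hx using Submodule.span_induction with
  | mem x hx =>
    obtain ⟨⟨l, t⟩, rfl⟩ := hx
    simp only [A.pow_add_apply]
    rcases Nat.eq_zero_or_pos (t : ℕ) with ht | ht
    · rw [ht, Nat.add_zero]; exact h l
    · rw [A.pow_eq_zero_of_le (hg.killed l) (by omega), map_zero, LinearMap.zero_apply]
  | zero => simp
  | add x y _ _ ex ey => rw [map_add, map_add, LinearMap.add_apply, ex, ey, add_zero]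
  | smul c x _ ex => rw [map_smul, map_smul, LinearMap.smul_apply, ex, smul_zero]

/-- Two anisotropic pairs become two hyperbolic ones. -/
theorem rel_pair_pair {m : ℕ} {W : Submodule F V} (h : A.Dec [.pair m true, .pair m true] W) :
    A.Dec [.pair m false, .pair m false] W := by
  obtain ⟨gx, gy, hx, hy, hxW, hyW, ho⟩ := h.two_atoms
  obtain ⟨hodd, hok'⟩ := hx.valid.2 rfl
  obtain ⟨k, rfl⟩ : ∃ k, m = 2 * k + 1 := ⟨m / 2, by omega⟩
  have hok : Ok o k := by rwa [show (2 * k + 1) / 2 = k by omega] at hok'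
  have hxy := orth_pow hx.raw hy.raw ho
  have hyx : ∀ (i j : Fin 2) (a b : ℕ), A.B ((A.N ^ a) (gy i)) ((A.N ^ b) (gx j)) = 0 := fun i j a b => by
    rw [A.symm]; exact hxy j i b a
  have hx0 : A.P k (gx 0) = 1 := by simpa [Atom.tgt] using hx.vals 0 k hok
  have hy0 : A.P k (gy 0) = 1 := by simpa [Atom.tgt] using hy.vals 0 k hok
  have hx1 : A.P k (gx 1) = bitVal true := by simpa [Atom.tgt] using hx.vals 1 k hok
  have hy1 : A.P k (gy 1) = bitVal true := by simpa [Atom.tgt] using hy.vals 1 k hok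
  have tx : ∀ i j, A.B ((A.N ^ (2 * k)) (gx i)) (gx j) = pat i j := hx.raw.top
  have ty : ∀ i j, A.B ((A.N ^ (2 * k)) (gy i)) (gy j) = pat i j := hy.raw.top
  have txy : ∀ (i j : Fin 2), A.B ((A.N ^ (2 * k)) (gx i)) (gy j) = 0 := fun i j => by
    simpa using hxy i j (2 * k) 0
  have tyx : ∀ (i j : Fin 2), A.B ((A.N ^ (2 * k)) (gy i)) (gx j) = 0 := fun i j => by
    simpa using hyx i j (2 * k) 0
  have p00 : (pat (0 : Fin 2) 0 : F) = 0 := if_neg (by decide)
  have p01 : (pat (0 : Fin 2) 1 : F) = 1 := if_pos (by decide)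
  have p10 : (pat (1 : Fin 2) 0 : F) = 1 := if_pos (by decide)
  have p11 : (pat (1 : Fin 2) 1 : F) = 0 := if_neg (by decide)
  set z : Fin 2 → V := ![gx 0 + gy 0, gx 1] with hzdef
  have hz : A.IsRaw (2 * k + 1) z := by
    refine ⟨by omega, fun j => ?_, fun i j => ?_⟩
    · fin_cases j <;> simp [hzdef, hx.raw.killed, hy.raw.killed]
    · fin_cases i <;> fin_cases j <;> simp [hzdef, tx, ty, txy, tyx, p00, p01, p10, p11]
  set v : Fin 2 → V := ![gy 0, gx 1 + gy 1] with hvdef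
  have hv0 : A.IsRaw (2 * k + 1) v := by
    refine ⟨by omega, fun j => ?_, fun i j => ?_⟩
    · fin_cases j <;> simp [hvdef, hx.raw.killed, hy.raw.killed]
    · fin_cases i <;> fin_cases j <;> simp [hvdef, tx, ty, txy, tyx, p00, p01, p10, p11]
  have htop : ∀ l j, A.B ((A.N ^ (2 * k)) (z l)) (v j) = 0 := fun l j => by
    fin_cases l <;> fin_cases j <;>
      simp [hzdef, hvdef, tx, ty, txy, tyx, p00, p01, p10, p11, CharTwo.add_self_eq_zero]
  have hproj : ∀ j, ∃ w ∈ A.span (2 * k + 1) z, ∀ x ∈ A.span (2 * k + 1) z, A.B x (v j + A.N w) = 0 := fun j => by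
    obtain ⟨c, hc, -⟩ := hz.exists_proj (r := 2 * k) (by omega) (v j) fun l s hs => by
      rcases Nat.lt_or_ge (2 * k) s with h | h
      · rw [A.pow_eq_zero_of_le (hz.killed l) (by omega), map_zero, LinearMap.zero_apply]
      · rw [show s = 2 * k by omega]; exact htop l j
    rw [show 2 * k + 1 - 2 * k = 1 by omega, pow_one] at hc
    exact ⟨_, A.comb_mem hz.killed c, hc⟩
  choose w hw hwo using hproj
  have hv : A.IsRaw (2 * k + 1) fun j => v j + A.N (w j) := by
    refine raw_shift hv0 (z := z) (fun j => A.span_stable hz.killed (hw j)) hz.killed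
      (fun j => hz.top_N_zero (A.span_stable hz.killed (hw j))) hwo fun i j => ?_
    have := A.B_pow_zero (hv0.killed i) (w j) 1 (2 * k + 1 - 1) (by omega)
    rwa [pow_one] at this
  have hPv : A.P k (v 1 + A.N (w 1)) = 0 := by
    have e1 : A.P k (v 1) = 0 := by
      simp only [hvdef, Matrix.cons_val_one, Matrix.cons_val_zero]
      rw [A.P_add hok, hxy, hx1, hy1, add_zero, CharTwo.add_self_eq_zero]
    rw [A.P_add hok, e1, P_N hok, A.P_zero_of_height (hz.top_N_zero (hw 1)) (by omega), pow_N,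
      A.B_pow_zero (hv0.killed 1) _ _ _ (by omega)]
    simp
  have hPz : A.P k (z 0) = 0 := by
    simp only [hzdef, Matrix.cons_val_zero]
    rw [A.P_add hok, hxy, hx0, hy0, add_zero, CharTwo.add_self_eq_zero]
  obtain ⟨a', ha, has⟩ := A.exists_atom_pair hz
  obtain ⟨b', hb, hbs⟩ := A.exists_atom_pair hv
  rw [pairBit_odd hok, hPz, zero_mul, cls_zero] at ha
  rw [pairBit_odd hok, hPv, mul_zero, cls_zero] at hb
  have hzW : A.span (2 * k + 1) z ≤ W := A.span_le h.isPiece.stable fun j => by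
    fin_cases j
    · exact W.add_mem (hxW (A.gen_mem_span hx.raw.killed 0)) (hyW (A.gen_mem_span hy.raw.killed 0))
    · exact hxW (A.gen_mem_span hx.raw.killed 1)
  refine h.mk_two ha hb (has.le.trans hzW) (hbs.le.trans (A.span_le h.isPiece.stable fun j => W.add_mem
    ?_ (hzW (A.span_stable hz.killed (hw j))))) ?_ ?_
  · fin_cases j
    · exact hyW (A.gen_mem_span hy.raw.killed 0)
    · exact W.add_mem (hxW (A.gen_mem_span hx.raw.killed 1)) (hyW (A.gen_mem_span hy.raw.killed 1))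
  · change A.span (2 * k + 1) b' ≤ A.orth (A.span (2 * k + 1) a')
    rw [hbs, has]
    exact A.span_le (fun _ hv' => A.orth_stable hz hv') hwo
  · simp [Atom.hdim]

/-- Three cyclic atoms of equal height contain a pair. -/
theorem rel_three {k : ℕ} {e₁ e₂ e₃ : Bool} {W : Submodule F V}
    (h : A.Dec [.cyc k e₁, .cyc k e₂, .cyc k e₃] W) :
    ∃ e : Bool, A.Dec [.pair (2 * k) false, .cyc k e] W ∧ (o = true → e = xor e₁ (xor e₂ e₃)) := by
  obtain ⟨W₁, W₂, h1, h2, ho12, rfl⟩ := Dec.split (L₁ := [.cyc k e₁]) (L₂ := [.cyc k e₂, .cyc k e₃]) h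
  obtain ⟨gy, gw, hy, hw, hyW, hwW, hoyw⟩ := h2.two_atoms
  cases h1 with
  | @cons _ _ gx W0 hx hd _ =>
  cases hd
  rw [sup_bot_eq] at *
  have hk : 1 ≤ k := hx.valid.1
  set x₁ := gx 0
  set x₂ := gy 0
  set x₃ := gw 0
  have hm1 := A.gen_mem_span hx.raw.killed 0
  have h12 : ∀ a b, A.B ((A.N ^ a) x₁) ((A.N ^ b) x₂) = 0 := orth_pow hx.raw hy.raw (le_trans hyW ho12) 0 0
  have h13 : ∀ a b, A.B ((A.N ^ a) x₁) ((A.N ^ b) x₃) = 0 := orth_pow hx.raw hw.raw (le_trans hwW ho12) 0 0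
  have h23 : ∀ a b, A.B ((A.N ^ a) x₂) ((A.N ^ b) x₃) = 0 := orth_pow hy.raw hw.raw hoyw 0 0
  have k1 : (A.N ^ (2 * k)) x₁ = 0 := hx.raw.killed 0
  have k2 : (A.N ^ (2 * k)) x₂ = 0 := hy.raw.killed 0
  have k3 : (A.N ^ (2 * k)) x₃ = 0 := hw.raw.killed 0
  have t1 : A.B ((A.N ^ (2 * k - 1)) x₁) x₁ = 1 := (hx.raw.top 0 0).trans (if_pos (Subsingleton.elim (α := Fin 1) _ _))
  have t2 : A.B ((A.N ^ (2 * k - 1)) x₂) x₂ = 1 := (hy.raw.top 0 0).trans (if_pos (Subsingleton.elim (α := Fin 1) _ _))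
  have t3 : A.B ((A.N ^ (2 * k - 1)) x₃) x₃ = 1 := (hw.raw.top 0 0).trans (if_pos (Subsingleton.elim (α := Fin 1) _ _))
  have t12 : A.B ((A.N ^ (2 * k - 1)) x₁) x₂ = 0 := by simpa using h12 (2 * k - 1) 0
  have t13 : A.B ((A.N ^ (2 * k - 1)) x₁) x₃ = 0 := by simpa using h13 (2 * k - 1) 0
  have t23 : A.B ((A.N ^ (2 * k - 1)) x₂) x₃ = 0 := by simpa using h23 (2 * k - 1) 0
  have t21 : A.B ((A.N ^ (2 * k - 1)) x₂) x₁ = 0 := by rw [← A.top_symm k1]; exact t12
  have t31 : A.B ((A.N ^ (2 * k - 1)) x₃) x₁ = 0 := by rw [← A.top_symm k1]; exact t13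
  have t32 : A.B ((A.N ^ (2 * k - 1)) x₃) x₂ = 0 := by rw [← A.top_symm k2]; exact t23
  set z : Fin 2 → V := ![x₁ + x₂, x₂ + x₃] with hzdef
  have hz : A.IsRaw (2 * k) z := by
    refine ⟨by omega, fun j => ?_, fun i j => ?_⟩
    · fin_cases j <;> simp [hzdef, k1, k2, k3]
    · fin_cases i <;> fin_cases j <;>
        simp [hzdef, t1, t2, t3, t12, t13, t23, t21, t31, t32, pat, CharTwo.add_self_eq_zero, Fin.rev]
  set v := x₁ + x₂ + x₃ with hvdef
  have hkv : (A.N ^ (2 * k)) v = 0 := by simp [hvdef, k1, k2, k3]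
  have htop : ∀ l, A.B ((A.N ^ (2 * k - 1)) (z l)) v = 0 := fun l => by
    fin_cases l <;> simp [hzdef, hvdef, t1, t2, t3, t12, t13, t23, t21, t31, t32, CharTwo.add_self_eq_zero]
  obtain ⟨c, hc, -⟩ := hz.exists_proj (r := 2 * k - 1) (by omega) v fun l s hs => by
    rcases Nat.lt_or_ge (2 * k - 1) s with h | h
    · rw [A.pow_eq_zero_of_le (hz.killed l) (by omega), map_zero, LinearMap.zero_apply]
    · rw [show s = 2 * k - 1 by omega]; exact htop l
  rw [show 2 * k - (2 * k - 1) = 1 by omega, pow_one] at hc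
  set w := A.comb (2 * k - 1) z c
  have hwm : w ∈ A.span (2 * k) z := A.comb_mem hz.killed c
  have hv0 : A.IsRaw (2 * k) fun _ : Fin 1 => v := by
    refine ⟨by omega, fun _ => hkv, fun i j => ?_⟩
    obtain rfl : i = 0 := Subsingleton.elim _ _
    obtain rfl : j = 0 := Subsingleton.elim _ _
    simp [hvdef, t1, t2, t3, t12, t13, t23, t21, t31, t32, pat, CharTwo.add_self_eq_zero, Fin.rev]
  have hv : A.IsRaw (2 * k) fun _ : Fin 1 => v + A.N w := by
    refine raw_shift hv0 (z := z) (u := fun _ => A.N w) (fun _ => A.span_stable hz.killed hwm) hz.killed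
      (fun _ => hz.top_N_zero (A.span_stable hz.killed hwm)) (fun _ => hc) fun _ _ => ?_
    have := A.B_pow_zero hkv w 1 (2 * k - 1) (by omega)
    rwa [pow_one] at this
  have hzval : ∀ i, A.P k (z i) = 0 := fun i => A.pair_vals_high hz i (le_refl _)
  have hbit : Ok o (k - 1) → cls (A.P (k - 1) (v + A.N w)) = xor e₁ (xor e₂ e₃) := fun hok => by
    have hB : A.B ((A.N ^ (k - 1)) v) ((A.N ^ k) w) = 0 := by
      rw [A.B_pow_top hkv w k (k - 1) (by omega), A.top_symm hkv]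
      exact top_cross_zero hz htop hwm
    rw [A.P_add hok, P_N hok, show k - 1 + 1 = k by omega,
      P_span_zero hz (Or.inr hk) le_rfl hzval w hwm, pow_N, show k - 1 + 1 = k by omega, hB, hvdef,
      A.P_add hok, A.P_add hok, h12, hx.vals 0 _ hok, hy.vals 0 _ hok, hw.vals 0 _ hok, map_add, map_add,
      LinearMap.add_apply, h13, h23]
    simp [Atom.tgt, show k - 1 ≠ k by omega, show k - 1 + 1 = k by omega, cls_add, cls_bitVal, cls_zero]
  obtain ⟨a', ha, has⟩ := A.exists_atom_pair hz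
  obtain ⟨b', hb, hbs⟩ := A.exists_atom_cyc hv
  have he : A.pairBit (2 * k) z = false := by simp [pairBit]
  rw [he] at ha
  refine ⟨bitOf o (k - 1) (A.P (k - 1) (v + A.N w)), ?_, fun h1 => by rw [bitOf_ok (Or.inl h1), hbit (Or.inl h1)]⟩
  have hm : ∀ {x : V}, x ∈ A.span (2 * k) gx ∨ x ∈ W₂ → x ∈ A.span (2 * k) gx ⊔ W₂ := fun hx' =>
    hx'.elim (fun h => Submodule.mem_sup_left h) fun h => Submodule.mem_sup_right h
  have hx2 : x₂ ∈ W₂ := hyW (A.gen_mem_span hy.raw.killed 0)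
  have hx3 : x₃ ∈ W₂ := hwW (A.gen_mem_span hw.raw.killed 0)
  have hstab := h.isPiece.stable
  have hzW : A.span (2 * k) z ≤ A.span (2 * k) gx ⊔ W₂ := A.span_le hstab fun j => by
    fin_cases j
    · exact Submodule.add_mem _ (hm (Or.inl hm1)) (hm (Or.inr hx2))
    · exact Submodule.add_mem _ (hm (Or.inr hx2)) (hm (Or.inr hx3))
  refine h.mk_two ha hb (has.le.trans hzW) (hbs.le.trans (A.span_le hstab fun _ => Submodule.add_mem _
    (Submodule.add_mem _ (Submodule.add_mem _ (hm (Or.inl hm1)) (hm (Or.inr hx2))) (hm (Or.inr hx3)))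
    (hzW (A.span_stable hz.killed hwm)))) ?_ ?_
  · change A.span (2 * k) b' ≤ A.orth (A.span (2 * k) a')
    rw [hbs, has]
    exact A.span_le (fun _ hv' => A.orth_stable hz hv') fun _ => hc
  · simp [Atom.hdim]; omega

end UForm

end CfsgLib.CharTwoClassNum
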