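import Cfsg.Agent.Lib.CharTwoClassNum.Normal

/-!
The sum of the signs of a quadratic form is an isometry invariant reading off the parity of the bits.
-/

set_option autoImplicit false

namespace CfsgLib.CharTwoClassNum

variable {F : Type*} [Field F] [CharP F 2] [Fintype F]

/-- The sign of a value. -/
noncomputable def sgn (x : F) : ℤ := if cls x then -1 else 1

/-- The sign of a bit. -/
def sgnBit (e : Bool) : ℤ := if e then -1 else 1

theorem sgn_add (x y : F) : sgn (x + y) = sgn x * sgn y := by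
  simp only [sgn, cls_add]
  cases cls x <;> cases cls y <;> simp

theorem sgn_sq (x : F) : sgn (x ^ 2) = sgn x := by simp [sgn, cls_sq]

theorem sgn_zero : sgn (0 : F) = 1 := by simp [sgn, cls_zero]

theorem sgnBit_xor (a b : Bool) : sgnBit (xor a b) = sgnBit a * sgnBit b := by
  cases a <;> cases b <;> simp [sgnBit]

theorem sum_sgn_mul {c : F} (hc : c ≠ 0) : ∑ a : F, sgn (a * c) = 0 := by
  obtain ⟨d, hd⟩ := exists_cls (F := F) true
  have h : ∑ a : F, sgn (a * c) = ∑ a : F, sgn ((a + d / c) * c) :=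
    (Fintype.sum_equiv (Equiv.addRight (d / c)) (fun a => sgn ((a + d / c) * c)) (fun a => sgn (a * c))
      fun a => rfl).symm
  have h' : ∀ a : F, sgn ((a + d / c) * c) = -sgn (a * c) := fun a => by
    rw [add_mul, div_mul_cancel₀ d hc, sgn_add, show sgn d = -1 by simp [sgn, hd], mul_neg_one]
  simp only [h', Finset.sum_neg_distrib] at h
  omega

/-- The plane `p x² + x y + q y²`. -/
theorem sum_plane (p q : F) :
    ∑ b : F, ∑ a : F, sgn (a ^ 2 * p + a * b + b ^ 2 * q) = Fintype.card F * sgnBit (cls (p * q)) := by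
  obtain ⟨s, hs⟩ := exists_sqrt p
  have key : ∀ b, ∑ a : F, sgn (a ^ 2 * p + a * b + b ^ 2 * q) = sgn (b ^ 2 * q) * ∑ a : F, sgn (a * (s + b)) := by
    intro b
    rw [Finset.mul_sum]
    refine Finset.sum_congr rfl fun a _ => ?_
    rw [sgn_add, sgn_add, show a ^ 2 * p = (a * s) ^ 2 by rw [← hs]; ring, sgn_sq, ← sgn_add, mul_add, mul_comm]
  rw [Finset.sum_eq_single s]
  · rw [key, CharTwo.add_self_eq_zero, show s ^ 2 * q = p * q by rw [hs]]
    simp [sgn_zero, sgn, sgnBit, cls_zero, mul_comm]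
  · intro b _ hb
    rw [key, sum_sgn_mul fun h => hb (CharTwo.add_eq_zero.1 h).symm, mul_zero]
  · simp

namespace UForm

variable {o : Bool} {V : Type*} [AddCommGroup V] [Module F V] [Finite V] (A : UForm o F V)

/-- The elements of a subspace. -/
noncomputable def elems (W : Submodule F V) : Finset V := (Set.toFinite (W : Set V)).toFinset

omit [CharP F 2] [Fintype F] in
theorem mem_elems {W : Submodule F V} {v : V} : v ∈ elems W ↔ v ∈ W := Set.Finite.mem_toFinset _

/-- The sum of the signs of the quadratic form. -/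
noncomputable def gsum (W : Submodule F V) : ℤ := ∑ v ∈ elems W, sgn (A.Q v)

theorem gsum_bot (ho : o = true) : A.gsum ⊥ = 1 := by
  have h : elems (⊥ : Submodule F V) = {0} := by ext v; simp [mem_elems]
  have h0 : A.P 0 (0 : V) = 0 := A.P_zero (Or.inl ho)
  rw [gsum, h, Finset.sum_singleton, show A.Q 0 = 0 from h0, sgn_zero]

/-- Orthogonal sums multiply. -/
theorem gsum_sup (ho : o = true) {U W : Submodule F V} (horth : W ≤ A.orth U) (hdis : U ⊓ W = ⊥) :
    A.gsum (U ⊔ W) = A.gsum U * A.gsum W := by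
  simp only [gsum]
  rw [Finset.sum_mul_sum, ← Finset.sum_product']
  refine (Finset.sum_nbij (fun p => p.1 + p.2) ?_ ?_ ?_ ?_).symm
  · intro p hp
    simp only [Finset.mem_product, mem_elems] at hp
    exact mem_elems.2 (Submodule.add_mem_sup hp.1 hp.2)
  · intro p hp p' hp' h
    simp only [Finset.coe_product, Set.mem_prod, SetLike.mem_coe, mem_elems] at hp hp'
    simp only at h
    have h1 : p.1 - p'.1 = 0 := by
      rw [← Submodule.mem_bot F, ← hdis]
      refine ⟨U.sub_mem hp.1 hp'.1, ?_⟩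
      have e : p.1 - p'.1 = p'.2 - p.2 := by rw [sub_eq_sub_iff_add_eq_add, h, add_comm]
      rw [e]
      exact W.sub_mem hp'.2 hp.2
    have h2 : p.1 = p'.1 := sub_eq_zero.1 h1
    exact Prod.ext h2 (by rw [h2] at h; exact add_left_cancel h)
  · intro v hv
    obtain ⟨x, hx, y, hy, rfl⟩ := Submodule.mem_sup.1 (mem_elems.1 hv)
    exact ⟨(x, y), by simp [mem_elems, hx, hy], rfl⟩
  · intro p hp
    simp only [Finset.mem_product, mem_elems] at hp
    rw [A.Q_add ho, horth hp.2 p.1 hp.1, add_zero, sgn_add]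

/-- A totally singular part contributes a positive factor. -/
theorem gsum_singular (ho : o = true) {U T : Submodule F V} (hTU : T ≤ U) (hT0 : ∀ v ∈ T, A.Q v = 0) :
    A.gsum U = A.gsum (U ⊓ A.orth T) := by
  classical
  simp only [gsum]
  have hsplit : ∑ v ∈ elems U, sgn (A.Q v) = ∑ v ∈ elems (U ⊓ A.orth T), sgn (A.Q v) +
      ∑ v ∈ (elems U).filter (fun v => v ∉ A.orth T), sgn (A.Q v) := by
    rw [← Finset.sum_filter_add_sum_filter_not (elems U) (fun v => v ∈ A.orth T)]
    congr 2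
    ext v
    simp [mem_elems]
  rw [hsplit]
  suffices h : ∑ v ∈ (elems U).filter (fun v => v ∉ A.orth T), sgn (A.Q v) = 0 by rw [h, add_zero]
  -- average over the translations by `T`
  have hshift : ∀ l ∈ elems T, ∑ v ∈ (elems U).filter (fun v => v ∉ A.orth T), sgn (A.Q v) =
      ∑ v ∈ (elems U).filter (fun v => v ∉ A.orth T), sgn (A.Q v) * sgn (A.B v l) := by
    intro l hl
    rw [mem_elems] at hl
    have hl0 : l ∈ A.orth T := fun x hx => by
      have := A.Q_add ho x l
      rw [hT0 _ (T.add_mem hx hl), hT0 x hx, hT0 l hl, zero_add, zero_add] at this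
      exact this.symm
    refine (Finset.sum_nbij (fun v => v + l) ?_ ?_ ?_ ?_).symm
    · intro v hv
      simp only [Finset.mem_filter, mem_elems] at hv ⊢
      exact ⟨U.add_mem hv.1 (hTU hl), fun h => hv.2 (by simpa using (A.orth T).sub_mem h hl0)⟩
    · exact fun a _ b _ h => add_right_cancel h
    · intro v hv
      simp only [Finset.coe_filter, Set.mem_setOf_eq, mem_elems] at hv
      exact ⟨v - l, by
        simp only [Finset.coe_filter, Set.mem_setOf_eq, mem_elems]
        exact ⟨U.sub_mem hv.1 (hTU hl), fun h => hv.2 (by simpa using (A.orth T).add_mem h hl0)⟩,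
        sub_add_cancel v l⟩
    · intro v _
      rw [A.Q_add ho, hT0 l hl, add_zero, sgn_add]
  have hzero : ∀ v ∈ (elems U).filter (fun v => v ∉ A.orth T), ∑ l ∈ elems T, sgn (A.B v l) = 0 := by
    intro v hv
    rw [Finset.mem_filter, mem_orth] at hv
    push Not at hv
    obtain ⟨-, x, hx, hxv⟩ := hv
    rw [A.symm] at hxv
    obtain ⟨d, hd⟩ := exists_cls (F := F) true
    set l₀ := (d / A.B v x) • x
    have hl₀ : sgn (A.B v l₀) = -1 := by
      rw [map_smul, smul_eq_mul, div_mul_cancel₀ d hxv]; simp [sgn, hd]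
    have h : ∑ l ∈ elems T, sgn (A.B v l) = ∑ l ∈ elems T, -sgn (A.B v l) :=
      (Finset.sum_nbij (fun l => l + l₀) (fun l hl => mem_elems.2 (T.add_mem (mem_elems.1 hl) (T.smul_mem _ hx)))
        (fun a _ b _ h => add_right_cancel h)
        (fun l hl => ⟨l - l₀, mem_elems.2 (T.sub_mem (mem_elems.1 hl) (T.smul_mem _ hx)), sub_add_cancel l l₀⟩)
        fun l _ => by rw [map_add, sgn_add, hl₀, mul_neg_one]).symm.trans rfl
    rw [Finset.sum_neg_distrib] at h
    omega
  set S := ∑ v ∈ (elems U).filter (fun v => v ∉ A.orth T), sgn (A.Q v)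
  have h1 : ((elems T).card : ℤ) * S = 0 := by
    rw [← nsmul_eq_mul, ← Finset.sum_const, Finset.sum_congr rfl hshift, Finset.sum_comm]
    exact Finset.sum_eq_zero fun v hv => by rw [← Finset.mul_sum, hzero v hv, mul_zero]
  rcases mul_eq_zero.1 h1 with h | h
  · exact absurd (Finset.card_ne_zero.2 ⟨0, mem_elems.2 T.zero_mem⟩) (by simpa using h)
  · exact h

/-- A space made of a totally singular part and a plane orthogonal to it. -/
theorem gsum_core (ho : o = true) {U T : Submodule F V} (hTU : T ≤ U) (hT0 : ∀ v ∈ T, A.Q v = 0) {p₀ p₁ : V}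
    (hp₀ : p₀ ∈ U) (hp₁ : p₁ ∈ U) (h₀ : p₀ ∈ A.orth T) (h₁ : p₁ ∈ A.orth T) (h01 : A.B p₀ p₁ = 1)
    (hspan : ∀ v ∈ U, v ∈ A.orth T → ∃ t ∈ T, ∃ a b : F, v = t + (a • p₀ + b • p₁)) :
    ∃ c : ℕ, 0 < c ∧ A.gsum U = c * sgnBit (cls (A.Q p₀ * A.Q p₁)) := by
  classical
  refine ⟨(elems T).card * Fintype.card F,
    Nat.mul_pos (Finset.card_pos.2 ⟨0, mem_elems.2 T.zero_mem⟩) Fintype.card_pos, ?_⟩
  rw [A.gsum_singular ho hTU hT0, gsum]
  have hTT : ∀ t ∈ T, t ∈ A.orth T := fun l hl x hx => by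
    have := A.Q_add ho x l
    rw [hT0 _ (T.add_mem hx hl), hT0 x hx, hT0 l hl, zero_add, zero_add] at this
    exact this.symm
  have e00 : A.B p₀ p₀ = 0 := A.alt _
  have e11 : A.B p₁ p₁ = 0 := A.alt _
  have e10 : A.B p₁ p₀ = 1 := by rw [A.symm]; exact h01
  have hz : ∀ t ∈ T, A.B p₀ t = 0 ∧ A.B p₁ t = 0 := fun t ht =>
    ⟨by rw [A.symm]; exact h₀ t ht, by rw [A.symm]; exact h₁ t ht⟩
  have hsum : ∑ v ∈ elems (U ⊓ A.orth T), sgn (A.Q v) =
      ∑ x ∈ elems T ×ˢ ((Finset.univ : Finset F) ×ˢ (Finset.univ : Finset F)),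
        sgn (x.2.2 ^ 2 * A.Q p₀ + x.2.2 * x.2.1 + x.2.1 ^ 2 * A.Q p₁) := by
    refine (Finset.sum_nbij (fun x => x.1 + (x.2.2 • p₀ + x.2.1 • p₁)) ?_ ?_ ?_ ?_).symm
    · intro x hx
      simp only [Finset.mem_product, mem_elems] at hx
      exact mem_elems.2 ⟨U.add_mem (hTU hx.1) (U.add_mem (U.smul_mem _ hp₀) (U.smul_mem _ hp₁)),
        (A.orth T).add_mem (hTT _ hx.1) ((A.orth T).add_mem ((A.orth T).smul_mem _ h₀) ((A.orth T).smul_mem _ h₁))⟩
    · intro x hx y hy h
      simp only [Finset.coe_product, Set.mem_prod, SetLike.mem_coe, mem_elems] at hx hy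
      have ea := congrArg (A.B p₁) h
      have eb := congrArg (A.B p₀) h
      simp [map_add, map_smul, e00, e11, e10, h01, (hz _ hx.1).1, (hz _ hx.1).2, (hz _ hy.1).1, (hz _ hy.1).2]
        at ea eb
      simp only [ea, eb] at h
      exact Prod.ext (add_right_cancel h) (Prod.ext eb ea)
    · intro v hv
      obtain ⟨t, ht, a, b, rfl⟩ := hspan v (mem_elems.1 hv).1 (mem_elems.1 hv).2
      exact ⟨(t, b, a), by simp [mem_elems, ht], rfl⟩
    · intro x hx
      simp only [Finset.mem_product, mem_elems] at hx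
      rw [A.Q_add ho x.1, hT0 _ hx.1, A.Q_add ho, A.Q_smul ho, A.Q_smul ho,
        A.symm x.1, map_add, LinearMap.add_apply, map_smul, map_smul, map_smul, LinearMap.smul_apply,
        LinearMap.smul_apply, LinearMap.smul_apply, (hz _ hx.1).1, (hz _ hx.1).2, h01]
      congr 1
      simp only [smul_eq_mul]
      ring
  rw [hsum, Finset.sum_product]
  simp only [Finset.sum_product]
  rw [Finset.sum_congr rfl fun t _ => sum_plane (A.Q p₀) (A.Q p₁), Finset.sum_const, nsmul_eq_mul]
  push_cast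
  ring

omit [Fintype F] in
/-- The part of a block orthogonal to its upper half. -/
theorem orth_upper {m w : ℕ} {g : Fin w → V} (hg : A.IsRaw m g) {r : ℕ} (hr : r ≤ m) {v : V}
    (hv : v ∈ A.span m g) (h : v ∈ A.orth ((A.span m g).map (A.N ^ r))) :
    ∃ c : Fin w × Fin r → F, v = (A.N ^ (m - r)) (A.comb r g c) := by
  obtain ⟨c, hc, -⟩ := hg.exists_proj hr v fun l s hs => by
    refine h _ ⟨(A.N ^ (s - r)) (g l), A.pow_mem_span hg.killed l _, ?_⟩
    rw [A.pow_add_apply, Nat.add_sub_cancel' hs]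
  refine ⟨c, ?_⟩
  have hmem := A.span_stable_pow hg.killed (A.comb_mem hg.killed c) (m - r)
  have h0 := hg.nondeg (Submodule.add_mem _ hv hmem) hc
  calc v = v + ((A.N ^ (m - r)) (A.comb r g c) + (A.N ^ (m - r)) (A.comb r g c)) := by
        rw [← two_smul F ((A.N ^ (m - r)) (A.comb r g c)), CharTwo.two_eq_zero, zero_smul, add_zero]
    _ = _ := by rw [← add_assoc, h0, zero_add]

theorem gsum_atom (ho : o = true) {a : Atom} {g : Fin a.width → V} (hg : A.IsAtom a g) :
    ∃ c : ℕ, 0 < c ∧ A.gsum (A.span a.height g) = c * sgnBit a.bit := by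
  have hQ : ∀ (i : ℕ) (x : V), A.Q ((A.N ^ i) x) = A.P i x := fun i x => A.P_pow (j := 0) (Or.inl ho) i x
  match a, g, hg with
  | .cyc k e, g, hg =>
    have hk : 1 ≤ k := hg.valid.1
    have hr : A.IsRaw (2 * k) g := hg.raw
    set T := (A.span (2 * k) g).map (A.N ^ (k + 1))
    have hT : ∀ j i, j + k + 1 ≥ 2 * k → (A.N ^ j) (g i) ∈ A.orth T := by
      rintro j i hj x ⟨y, hy, rfl⟩
      rw [A.symm]
      exact A.B_pow_zero (hr.killed i) y (k + 1) j (by omega)
    have e0 : A.Q ((A.N ^ k) (g 0)) = 1 := by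
      rw [hQ, hg.vals 0 k (Or.inl ho)]; simp [Atom.tgt]
    have e1 : A.Q ((A.N ^ (k - 1)) (g 0)) = bitVal e := by
      rw [hQ, hg.vals 0 (k - 1) (Or.inl ho)]
      simp [Atom.tgt, show k - 1 ≠ k by omega, show k - 1 + 1 = k by omega]
    obtain ⟨c, hc, hsum⟩ := A.gsum_core ho (U := A.span (2 * k) g) (T := T)
      (p₀ := (A.N ^ k) (g 0)) (p₁ := (A.N ^ (k - 1)) (g 0))
      (by rintro _ ⟨y, hy, rfl⟩; exact A.span_stable_pow hr.killed hy _)
      (by
        rintro _ ⟨y, hy, rfl⟩
        rw [hQ]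
        exact A.P_zero_of_height (hr.top_N_zero hy) (by omega))
      (A.pow_mem_span hr.killed _ _) (A.pow_mem_span hr.killed _ _) (hT _ _ (by omega)) (hT _ _ (by omega))
      (by rw [hr.pair_top 0 0 (by omega), pat, if_pos (Subsingleton.elim (α := Fin 1) _ _)])
      (fun v hv hvT => by
        obtain ⟨d, rfl⟩ := A.orth_upper hr (show k + 1 ≤ 2 * k by omega) hv hvT
        obtain ⟨u, hu, hsplit⟩ := comb_split hr.killed (show 1 ≤ k + 1 by omega) d
        rw [A.span_eq_range] at hu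
        obtain ⟨d', rfl⟩ := hu
        obtain ⟨u', hu', hsplit'⟩ := comb_split hr.killed (show 1 ≤ 2 * k by omega) d'
        refine ⟨(A.N ^ (k + 1)) u', ⟨u', hu', rfl⟩, d' (0, ⟨0, by omega⟩), d (0, ⟨0, by omega⟩), ?_⟩
        rw [hsplit, hsplit', sum_one, sum_one, show 2 * k - (k + 1) = k - 1 by omega]
        simp only [map_add, map_smul, pow_N, show k - 1 + 1 = k by omega]
        abel)
    refine ⟨c, hc, hsum.trans ?_⟩
    rw [e0, e1, one_mul, cls_bitVal]; rfl
  | .pair m e, g, hg =>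
    have hr : A.IsRaw m g := hg.raw
    have hT : ∀ r j i, j + r ≥ m → (A.N ^ j) (g i) ∈ A.orth ((A.span m g).map (A.N ^ r)) := by
      rintro r j i hj x ⟨y, hy, rfl⟩
      rw [A.symm]
      exact A.B_pow_zero (hr.killed i) y r j (by omega)
    rcases Nat.even_or_odd' m with ⟨k, rfl | rfl⟩
    · have he : e = false := by
        cases e
        · rfl
        · exact absurd (hg.valid.2 rfl).1 (by omega)
      subst he
      set T := (A.span (2 * k) g).map (A.N ^ k)
      have hT0 : ∀ v ∈ T, A.Q v = 0 := by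
        rintro _ ⟨y, hy, rfl⟩
        rw [hQ]
        exact P_span_zero hr (Or.inl ho) le_rfl (fun i => A.pair_vals_high hr i le_rfl) y hy
      refine ⟨(elems T).card, Finset.card_pos.2 ⟨0, mem_elems.2 T.zero_mem⟩, ?_⟩
      have hUT : A.span (2 * k) g ⊓ A.orth T = T := by
        refine le_antisymm (fun v hv => ?_) (le_inf ?_ ?_)
        · obtain ⟨d, rfl⟩ := A.orth_upper hr (show k ≤ 2 * k by omega) hv.1 hv.2
          rw [show 2 * k - k = k by omega]
          exact ⟨_, A.comb_mem hr.killed d, rfl⟩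
        · rintro _ ⟨y, hy, rfl⟩; exact A.span_stable_pow hr.killed hy _
        · rintro _ ⟨y, hy, rfl⟩ x ⟨z, hz, rfl⟩
          exact A.B_pow_zero (hr.top_N_zero hz) y k k (by omega)
      change A.gsum (A.span (2 * k) g) = _
      rw [A.gsum_singular ho (T := T) (by rintro _ ⟨y, hy, rfl⟩; exact A.span_stable_pow hr.killed hy _) hT0, hUT,
        gsum, Finset.sum_congr rfl fun v hv => by rw [hT0 v (mem_elems.1 hv), sgn_zero]]
      simp [sgnBit, Atom.bit]
    · set T := (A.span (2 * k + 1) g).map (A.N ^ (k + 1))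
      have ee : ∀ i, A.Q ((A.N ^ k) (g i)) = if e = true then (if i.val = 0 then 1 else bitVal true) else 0 := fun i => by
        rw [hQ, hg.vals i k (Or.inl ho)]
        simp [Atom.tgt]
      obtain ⟨c, hc, hsum⟩ := A.gsum_core ho (U := A.span (2 * k + 1) g) (T := T)
        (p₀ := (A.N ^ k) (g 0)) (p₁ := (A.N ^ k) (g 1))
        (by rintro _ ⟨y, hy, rfl⟩; exact A.span_stable_pow hr.killed hy _)
        (by
          rintro _ ⟨y, hy, rfl⟩
          rw [hQ]
          exact A.P_zero_of_height (hr.top_N_zero hy) (by omega))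
        (A.pow_mem_span hr.killed _ _) (A.pow_mem_span hr.killed _ _) (hT _ _ _ (by omega)) (hT _ _ _ (by omega))
        (by rw [hr.pair_top 0 1 (by omega), pat, if_pos (by decide : (0 : Fin 2) = Fin.rev 1)])
        (fun v hv hvT => by
          obtain ⟨d, rfl⟩ := A.orth_upper hr (show k + 1 ≤ 2 * k + 1 by omega) hv hvT
          obtain ⟨u, hu, hsplit⟩ := comb_split hr.killed (show 1 ≤ k + 1 by omega) d
          refine ⟨(A.N ^ (k + 1)) u, ⟨u, hu, rfl⟩, d (0, ⟨0, by omega⟩), d (1, ⟨0, by omega⟩), ?_⟩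
          rw [hsplit, Fin.sum_univ_two, show 2 * k + 1 - (k + 1) = k by omega]
          simp only [map_add, map_smul, pow_N]
          abel)
      refine ⟨c, hc, hsum.trans ?_⟩
      rw [ee, ee]
      cases e <;> simp [cls_zero, cls_bitVal, Atom.bit]

/-- The sign of a decomposed space is the parity of its bits. -/
theorem Dec.gsum {L : List Atom} {W : Submodule F V} (ho : o = true) (h : A.Dec L W) :
    ∃ c : ℕ, 0 < c ∧ A.gsum W = c * sgnBit (parity L) := by
  induction h with
  | nil => exact ⟨1, one_pos, by simp [A.gsum_bot ho, parity, sgnBit]⟩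
  | @cons a L g W hg hd horth ih =>
    obtain ⟨c, hc, ih⟩ := ih
    obtain ⟨d, hd', hU⟩ := A.gsum_atom ho hg
    have hdis : A.span a.height g ⊓ W = ⊥ := by
      rw [Submodule.eq_bot_iff]
      rintro v ⟨hv, hvW⟩
      exact hg.raw.nondeg hv (horth hvW)
    refine ⟨d * c, Nat.mul_pos hd' hc, ?_⟩
    rw [A.gsum_sup ho horth hdis, hU, ih, show parity (a :: L) = xor a.bit (parity L) from rfl, sgnBit_xor]
    push_cast
    ring

end UForm

end CfsgLib.CharTwoClassNum
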